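/-
helper24: Bender–Glauberman, Section 11, part 2 (on top of `Helper22.BG11a`):
`M_σ ≠ 1` (B&G 10.2(e)), Lemma 11.5 / Corollary 11.6: for `(M, A₀, A)` as in Hypothesis 11.1 and a
Sylow `p`-subgroup `P ≥ A` of `M`: `A = Ω₁(P) ≤ Z(P)`, `P` is abelian, `A` has at least two
subgroups of order `p` without fixed points on `M_σ`, and `C_{M_σ}(A) = 1`.
Everything lives in `Cfsg.Agent.Helper24`.
-/
import Cfsg.Agent.Helper22.BG11a
import Cfsg.Agent.Helper49.OddCyclic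
import Cfsg.Agent.S1451
import Cfsg.Agent.S1453

set_option autoImplicit false

namespace Cfsg.Agent.Helper24

open Cfsg Subgroup Cfsg.Agent.Helper22 Cfsg.Agent.Helper23 Cfsg.Agent.Helper35
open scoped Pointwise

universe u

variable {G : Type u} [Group G] [Finite G]

/-! ### Generic lemmas -/

/-- In a group of prime order `p` generated by `c`, every non-identity element generates. -/
theorem bg11b_mem_zpowers_of_ne_one {p : ℕ} [Fact p.Prime] {c c' : G} (hc : c ^ p = 1)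
    (hc' : c' ∈ zpowers c) (h1 : c' ≠ 1) : c ∈ zpowers c' := by
  have hc1 : c ≠ 1 := by
    rintro rfl
    apply h1
    obtain ⟨i, rfl⟩ := mem_zpowers_iff.mp hc'
    simp
  have hcp' : c' ^ p = 1 := by
    obtain ⟨i, rfl⟩ := mem_zpowers_iff.mp hc'
    rw [← zpow_natCast, ← zpow_mul, mul_comm, zpow_mul, zpow_natCast, hc, one_zpow]
  have h2 : zpowers c' = zpowers c := by
    apply Subgroup.eq_of_le_of_card_ge (zpowers_le.mpr hc')
    rw [Nat.card_zpowers, Nat.card_zpowers, orderOf_eq_prime hc hc1, orderOf_eq_prime hcp' h1]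
  rw [h2]; exact mem_zpowers c

omit [Finite G] in
theorem bg11b_mcs {x y : G} : x ∈ centralizer ({y} : Set G) ↔ y * x = x * y := by
  rw [mem_centralizer_iff]
  constructor
  · intro h; exact h y rfl
  · intro h w hw; rw [Set.mem_singleton_iff.mp hw]; exact h

omit [Finite G] in
/-- Elements of the join of two commuting cyclic groups. -/
theorem bg11b_mem_sup_zpowers {b z : G} (hbz : b * z = z * b) {y : G}
    (hy : y ∈ zpowers b ⊔ zpowers z) : ∃ i m : ℤ, y = b ^ i * z ^ m := by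
  have hc : Commute b z := hbz
  let T : Subgroup G :=
    { carrier := {y | ∃ i m : ℤ, y = b ^ i * z ^ m}
      mul_mem' := by
        rintro _ _ ⟨i, m, rfl⟩ ⟨i', m', rfl⟩
        refine ⟨i + i', m + m', ?_⟩
        have h1 : Commute (z ^ m) (b ^ i') := (hc.zpow_zpow i' m).symm
        calc b ^ i * z ^ m * (b ^ i' * z ^ m') = b ^ i * (z ^ m * b ^ i') * z ^ m' := by group
          _ = b ^ i * (b ^ i' * z ^ m) * z ^ m' := by rw [h1.eq]
          _ = b ^ (i + i') * z ^ (m + m') := by rw [zpow_add, zpow_add]; group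
      one_mem' := ⟨0, 0, by simp⟩
      inv_mem' := by
        rintro _ ⟨i, m, rfl⟩
        refine ⟨-i, -m, ?_⟩
        have h1 : Commute (z ^ (-m)) (b ^ (-i)) := (hc.zpow_zpow (-i) (-m)).symm
        calc (b ^ i * z ^ m)⁻¹ = z ^ (-m) * b ^ (-i) := by group
          _ = b ^ (-i) * z ^ (-m) := h1.eq }
  have hT : zpowers b ⊔ zpowers z ≤ T :=
    sup_le (zpowers_le.mpr ⟨1, 0, by simp⟩) (zpowers_le.mpr ⟨0, 1, by simp⟩)
  exact hT hy

/-- A `p`-element normalizing `⟨b⟩ × ⟨z⟩` and centralizing `z` but not `b` permutes transitively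
the subgroups of order `p` other than `⟨z⟩`. -/
theorem bg11b_transvection {p : ℕ} [Fact p.Prime] {b z x : G} (hb : b ^ p = 1) (hz : z ^ p = 1)
    (hbz : b * z = z * b) (hxz : x * z = z * x) (hbnz : b ∉ zpowers z)
    (hx : x * b * x⁻¹ ∈ zpowers b ⊔ zpowers z) (hne : x * b * x⁻¹ ≠ b) {e : ℕ}
    (hxe : x ^ p ^ e = 1) {y : G} (hy : y ∈ zpowers b ⊔ zpowers z) (hyz : y ∉ zpowers z) :
    ∃ n : ℕ, x ^ n * b * (x ^ n)⁻¹ ∈ zpowers y := by
  have hp : p.Prime := Fact.out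
  have hcbz : Commute b z := hbz
  have hcxz : Commute x z := hxz
  have hb1 : b ≠ 1 := fun h => hbnz (h ▸ one_mem _)
  have hob : orderOf b = p := orderOf_eq_prime hb hb1
  have hpow : ∀ i : ℤ, b ^ i ∈ zpowers z → b ^ i = 1 := by
    intro i hi
    by_contra h1
    have h2 := bg11b_mem_zpowers_of_ne_one hb (zpow_mem (mem_zpowers b) i) h1
    exact hbnz ((zpowers_le.mpr hi) h2)
  obtain ⟨j, k, hjk⟩ := bg11b_mem_sup_zpowers hbz hx
  -- iterate
  have hconj : ∀ (w : G) (m : ℤ), x * w ^ m * x⁻¹ = (x * w * x⁻¹) ^ m := fun w m =>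
    (conj_zpow (a := x) (b := w) (i := m)).symm
  have hxzs : ∀ s : ℤ, x * z ^ s * x⁻¹ = z ^ s := by
    intro s
    have h1 : Commute x (z ^ s) := hcxz.zpow_right s
    rw [h1.eq]; group
  have hit : ∀ n : ℕ, ∃ s : ℤ, x ^ n * b * (x ^ n)⁻¹ = b ^ (j ^ n) * z ^ s := by
    intro n
    induction n with
    | zero => exact ⟨0, by simp⟩
    | succ n ih =>
      obtain ⟨s, hs⟩ := ih
      refine ⟨k * j ^ n + s, ?_⟩
      have hcz : Commute (b ^ j) (z ^ k) := hcbz.zpow_zpow j k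
      calc x ^ (n + 1) * b * (x ^ (n + 1))⁻¹ = x * (x ^ n * b * (x ^ n)⁻¹) * x⁻¹ := by
            rw [pow_succ']; group
        _ = x * (b ^ (j ^ n) * z ^ s) * x⁻¹ := by rw [hs]
        _ = (x * b ^ (j ^ n) * x⁻¹) * (x * z ^ s * x⁻¹) := by group
        _ = (b ^ j * z ^ k) ^ (j ^ n) * z ^ s := by rw [hconj, hxzs, hjk]
        _ = b ^ (j ^ (n + 1)) * z ^ (k * j ^ n + s) := by
            rw [hcz.mul_zpow, ← zpow_mul, ← zpow_mul, zpow_add, pow_succ', mul_assoc]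
  -- `j ≡ 1 mod p`
  have hbj : b ^ j = b := by
    obtain ⟨s, hs⟩ := hit (p ^ e)
    rw [hxe] at hs
    have h1 : b ^ (1 - j ^ p ^ e) = z ^ s := by
      have h2 : b = b ^ (j ^ p ^ e) * z ^ s := by simpa using hs
      have h3 : Commute (b ^ (j ^ p ^ e)) (z ^ s) := hcbz.zpow_zpow _ _
      calc b ^ (1 - j ^ p ^ e) = b * (b ^ (j ^ p ^ e))⁻¹ := by rw [zpow_sub, zpow_one]
        _ = b ^ (j ^ p ^ e) * z ^ s * (b ^ (j ^ p ^ e))⁻¹ := by rw [← h2]
        _ = z ^ s := by rw [h3.eq]; group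
    have h4 : b ^ (1 - j ^ p ^ e) = 1 := hpow _ (h1 ▸ zpow_mem (mem_zpowers z) s)
    have hd : (p : ℤ) ∣ 1 - j ^ p ^ e := by
      have h4' := orderOf_dvd_iff_zpow_eq_one.mpr h4
      rwa [hob] at h4'
    have h5 : ((1 - j ^ p ^ e : ℤ) : ZMod p) = 0 := (ZMod.intCast_zmod_eq_zero_iff_dvd _ p).mpr hd
    push_cast at h5
    rw [ZMod.pow_card_pow] at h5
    have h6 : ((j - 1 : ℤ) : ZMod p) = 0 := by push_cast; linear_combination -h5
    have hd2 : (p : ℤ) ∣ j - 1 := (ZMod.intCast_zmod_eq_zero_iff_dvd _ p).mp h6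
    have h7 : b ^ (j - 1) = 1 := by
      apply orderOf_dvd_iff_zpow_eq_one.mp
      rw [hob]; exact hd2
    calc b ^ j = b ^ (j - 1) * b := by rw [← zpow_add_one]; congr 1; ring
      _ = b := by rw [h7, one_mul]
  rw [hbj] at hjk
  have hzk1 : z ^ k ≠ 1 := by
    intro h
    rw [h, mul_one] at hjk
    exact hne hjk
  have hit2 : ∀ n : ℕ, x ^ n * b * (x ^ n)⁻¹ = b * (z ^ k) ^ n := by
    intro n
    induction n with
    | zero => simp
    | succ n ih =>
      have h1 : Commute x ((z ^ k) ^ n) := (hcxz.zpow_right k).pow_right n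
      calc x ^ (n + 1) * b * (x ^ (n + 1))⁻¹ = x * (x ^ n * b * (x ^ n)⁻¹) * x⁻¹ := by
            rw [pow_succ']; group
        _ = x * (b * (z ^ k) ^ n) * x⁻¹ := by rw [ih]
        _ = (x * b * x⁻¹) * (x * (z ^ k) ^ n * x⁻¹) := by group
        _ = b * z ^ k * (z ^ k) ^ n := by rw [hjk, h1.eq]; group
        _ = b * (z ^ k) ^ (n + 1) := by rw [pow_succ']; group
  obtain ⟨i, m, rfl⟩ := bg11b_mem_sup_zpowers hbz hy
  have hbi1 : b ^ i ≠ 1 := by
    intro h
    apply hyz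
    rw [h, one_mul]
    exact zpow_mem (mem_zpowers z) m
  obtain ⟨u, hu⟩ := mem_zpowers_iff.mp
    (bg11b_mem_zpowers_of_ne_one hb (zpow_mem (mem_zpowers b) i) hbi1)
  have hyu : (b ^ i * z ^ m) ^ u = b * z ^ (m * u) := by
    rw [(hcbz.zpow_zpow i m).mul_zpow, hu, ← zpow_mul]
  have hzk : z ∈ zpowers (z ^ k) :=
    bg11b_mem_zpowers_of_ne_one hz (zpow_mem (mem_zpowers z) k) hzk1
  obtain ⟨t, ht⟩ := mem_zpowers_iff.mp ((zpowers_le.mpr hzk) (zpow_mem (mem_zpowers z) (m * u)))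
  have hzkp : (z ^ k) ^ p = 1 := by
    rw [← zpow_natCast, ← zpow_mul, mul_comm, zpow_mul, zpow_natCast, hz, one_zpow]
  have hozk : orderOf (z ^ k) = p := orderOf_eq_prime hzkp hzk1
  have hp0 : (p : ℤ) ≠ 0 := by exact_mod_cast hp.ne_zero
  have ht2 : (z ^ k) ^ (t % (p : ℤ)).toNat = z ^ (m * u) := by
    rw [← zpow_natCast, Int.toNat_of_nonneg (Int.emod_nonneg t hp0), ← ht]
    conv_lhs => rw [← hozk]
    exact zpow_mod_orderOf _ _
  refine ⟨(t % (p : ℤ)).toNat, ?_⟩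
  rw [hit2, ht2, ← hyu]
  exact zpow_mem (mem_zpowers _) u

/-- The normalizer condition in a `p`-group, for subgroups of `G`. -/
theorem bg11b_exists_normalizing {p : ℕ} [Fact p.Prime] {P C : Subgroup G} (hP : IsPGroup p P)
    (hCP : C ≤ P) (hne : C ≠ P) : ∃ x ∈ P, x ∉ C ∧ ∀ c ∈ C, x * c * x⁻¹ ∈ C := by
  have hnil : Group.IsNilpotent ↥P := hP.isNilpotent
  have hlt : C.subgroupOf P < ⊤ := by
    rw [lt_top_iff_ne_top]
    intro h
    exact hne (le_antisymm hCP (Subgroup.subgroupOf_eq_top.mp h))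
  have h2 := Group.normalizerCondition_of_isNilpotent (G := ↥P) _ hlt
  obtain ⟨x, hxN, hxC⟩ := SetLike.exists_of_lt h2
  refine ⟨x, x.2, fun h => hxC (Subgroup.mem_subgroupOf.mpr h), ?_⟩
  intro c hc
  have h3 := (Subgroup.mem_normalizer_iff.mp hxN ⟨c, hCP hc⟩).mp (Subgroup.mem_subgroupOf.mpr hc)
  exact Subgroup.mem_subgroupOf.mp h3

omit [Finite G] in
/-- An element of order dividing `p` centralizing a maximal elementary abelian subgroup lies in
it. -/
theorem bg11b_mem_of_comm {p : ℕ} {A : Subgroup G} (hA : IsElementaryAbelian p A)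
    (hmax : ∀ B : Subgroup G, IsElementaryAbelian p B → A ≤ B → B = A) {x : G} (hxp : x ^ p = 1)
    (hx : ∀ a ∈ A, a * x = x * a) : x ∈ A := by
  have hB : IsElementaryAbelian p (A ⊔ zpowers x) := by
    refine bg11_sup_elemAb hA (bg11_zpowers_elemAb hxp) ?_
    intro a ha b hb
    obtain ⟨i, rfl⟩ := mem_zpowers_iff.mp hb
    exact (show Commute a x from hx a ha).zpow_right i
  have h2 := hmax _ hB le_sup_left
  rw [← h2]
  exact mem_sup_right (mem_zpowers x)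

/-! ### Centralizers of elementary abelian subgroups of order `p²` in Sylow subgroups -/

/-- Conclusion of B&G 10.7(c) (= S1412): Sylow subgroups of rank at most two. -/
def BGRk2 (G : Type u) [Group G] : Prop :=
  ∀ (p : ℕ) [Fact p.Prime] (P : Sylow p G), PRankLE p 2 (P : Subgroup G) →
    IsMulCommutative (P : Subgroup G) ∨ ∃ P₁ P₂ : Subgroup G, P₁ ⊔ P₂ = (P : Subgroup G) ∧
      (∀ a ∈ P₁, ∀ b ∈ P₂, a * b = b * a) ∧ ¬ IsMulCommutative P₁ ∧ Nat.card P₁ = p ^ 3 ∧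
      Monoid.exponent P₁ = p ∧ IsCyclic P₂ ∧
      Subgroup.closure {x : G | x ∈ P₂ ∧ x ^ p = 1} = P₁ ⊓ Subgroup.centralizer (P₁ : Set G)

omit [Finite G] in
theorem bg11b_comm_of_card {p : ℕ} [Fact p.Prime] {D : Subgroup G} {k : ℕ} (hk : k ≤ 2)
    (hD : Nat.card D = p ^ k) : ∀ u ∈ D, ∀ v ∈ D, u * v = v * u := by
  have hcomm : IsMulCommutative ↥D := by
    interval_cases k
    · have h1 : Nat.card ↥D = 1 := by simpa using hD
      have h2 : Subsingleton ↥D := (Nat.card_eq_one_iff_unique.mp h1).1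
      exact ⟨⟨fun a b => Subsingleton.elim _ _⟩⟩
    · have h1 : IsCyclic ↥D := isCyclic_of_prime_card (p := p) (by simpa using hD)
      exact IsCyclic.isMulCommutative
    · exact IsPGroup.isMulCommutative_of_card_eq_prime_sq hD
  intro u hu v hv
  exact congrArg Subtype.val (hcomm.is_comm.comm ⟨u, hu⟩ ⟨v, hv⟩)

/-- In a group with the structure of S1412, the centralizer of an elementary abelian subgroup
of order `p²` is abelian. -/
theorem bg11b_cent_comm_rk2 {p : ℕ} [Fact p.Prime] {S A : Subgroup G}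
    (hS : IsMulCommutative ↥S ∨ ∃ P₁ P₂ : Subgroup G, P₁ ⊔ P₂ = S ∧
      (∀ a ∈ P₁, ∀ b ∈ P₂, a * b = b * a) ∧ ¬ IsMulCommutative P₁ ∧ Nat.card P₁ = p ^ 3 ∧
      Monoid.exponent P₁ = p ∧ IsCyclic P₂ ∧
      Subgroup.closure {x : G | x ∈ P₂ ∧ x ^ p = 1} = P₁ ⊓ Subgroup.centralizer (P₁ : Set G))
    (hAS : A ≤ S) (hA : IsElementaryAbelian p A) (hAc : Nat.card A = p ^ 2) :
    ∀ x ∈ S, ∀ y ∈ S, (∀ a ∈ A, a * x = x * a) → (∀ a ∈ A, a * y = y * a) → x * y = y * x := by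
  have hp : p.Prime := Fact.out
  rcases hS with hab | ⟨P₁, P₂, hsup, hcomm, -, hc3, -, hcyc, hΩ⟩
  · intro x hx y hy _ _
    exact congrArg Subtype.val (hab.is_comm.comm ⟨x, hx⟩ ⟨y, hy⟩)
  · have hdec : ∀ s ∈ S, ∃ s₁ ∈ P₁, ∃ s₂ ∈ P₂, s = s₁ * s₂ := by
      let T : Subgroup G :=
        { carrier := {s | ∃ s₁ ∈ P₁, ∃ s₂ ∈ P₂, s = s₁ * s₂}
          mul_mem' := by
            rintro _ _ ⟨s₁, h1, s₂, h2, rfl⟩ ⟨t₁, h3, t₂, h4, rfl⟩
            refine ⟨s₁ * t₁, mul_mem h1 h3, s₂ * t₂, mul_mem h2 h4, ?_⟩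
            have e := hcomm t₁ h3 s₂ h2
            calc s₁ * s₂ * (t₁ * t₂) = s₁ * (s₂ * t₁) * t₂ := by group
              _ = s₁ * (t₁ * s₂) * t₂ := by rw [e]
              _ = s₁ * t₁ * (s₂ * t₂) := by group
          one_mem' := ⟨1, one_mem _, 1, one_mem _, by simp⟩
          inv_mem' := by
            rintro _ ⟨s₁, h1, s₂, h2, rfl⟩
            refine ⟨s₁⁻¹, inv_mem h1, s₂⁻¹, inv_mem h2, ?_⟩
            have e := hcomm s₁⁻¹ (inv_mem h1) s₂⁻¹ (inv_mem h2)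
            rw [mul_inv_rev, e] }
      have hT : P₁ ⊔ P₂ ≤ T :=
        sup_le (fun s hs => ⟨s, hs, 1, one_mem _, by simp⟩)
          (fun s hs => ⟨1, one_mem _, s, hs, by simp⟩)
      intro s hs
      exact hT (by rw [hsup]; exact hs)
    have hP₂comm : ∀ u ∈ P₂, ∀ v ∈ P₂, u * v = v * u := by
      have hc : IsMulCommutative ↥P₂ := IsCyclic.isMulCommutative
      intro u hu v hv
      exact congrArg Subtype.val (hc.is_comm.comm ⟨u, hu⟩ ⟨v, hv⟩)
    have hsplit : ∀ u₁ ∈ P₁, ∀ u₂ ∈ P₂, ∀ v₁ ∈ P₁, ∀ v₂ ∈ P₂,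
        ((u₁ * u₂) * (v₁ * v₂) = (v₁ * v₂) * (u₁ * u₂) ↔ u₁ * v₁ = v₁ * u₁) := by
      intro u₁ hu₁ u₂ hu₂ v₁ hv₁ v₂ hv₂
      have e1 := hcomm v₁ hv₁ u₂ hu₂
      have e2 := hcomm u₁ hu₁ v₂ hv₂
      have e3 := hP₂comm u₂ hu₂ v₂ hv₂
      have l : (u₁ * u₂) * (v₁ * v₂) = (u₁ * v₁) * (u₂ * v₂) := by
        calc (u₁ * u₂) * (v₁ * v₂) = u₁ * (u₂ * v₁) * v₂ := by group
          _ = u₁ * (v₁ * u₂) * v₂ := by rw [e1]
          _ = (u₁ * v₁) * (u₂ * v₂) := by group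
      have r : (v₁ * v₂) * (u₁ * u₂) = (v₁ * u₁) * (u₂ * v₂) := by
        calc (v₁ * v₂) * (u₁ * u₂) = v₁ * (v₂ * u₁) * u₂ := by group
          _ = v₁ * (u₁ * v₂) * u₂ := by rw [e2]
          _ = (v₁ * u₁) * (v₂ * u₂) := by group
          _ = (v₁ * u₁) * (u₂ * v₂) := by rw [e3]
      rw [l, r]
      exact mul_left_inj _
    intro x hx y hy hxA hyA
    by_contra hxy
    obtain ⟨x₁, hx₁, x₂, hx₂, rfl⟩ := hdec x hx
    obtain ⟨y₁, hy₁, y₂, hy₂, rfl⟩ := hdec y hy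
    have hxy₁ : x₁ * y₁ ≠ y₁ * x₁ := fun e =>
      hxy ((hsplit x₁ hx₁ x₂ hx₂ y₁ hy₁ y₂ hy₂).mpr e)
    have hAP₂ : A ≤ P₂ := by
      intro a ha
      obtain ⟨a₁, ha₁, a₂, ha₂, rfl⟩ := hdec a (hAS ha)
      have hax : a₁ * x₁ = x₁ * a₁ := (hsplit a₁ ha₁ a₂ ha₂ x₁ hx₁ x₂ hx₂).mp (hxA _ ha)
      have hay : a₁ * y₁ = y₁ * a₁ := (hsplit a₁ ha₁ a₂ ha₂ y₁ hy₁ y₂ hy₂).mp (hyA _ ha)
      have hD : P₁ ⊓ centralizer ({a₁} : Set G) = P₁ := by
        by_contra hne
        have hle : P₁ ⊓ centralizer ({a₁} : Set G) ≤ P₁ := inf_le_left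
        have hdvd : Nat.card ↥(P₁ ⊓ centralizer ({a₁} : Set G)) ∣ p ^ 3 := by
          rw [← hc3]; exact Subgroup.card_dvd_of_le hle
        obtain ⟨k, hk, hcard⟩ := (Nat.dvd_prime_pow hp).mp hdvd
        have hk2 : k ≤ 2 := by
          by_contra hk3
          have hk3' : k = 3 := by omega
          subst hk3'
          exact hne (Subgroup.eq_of_le_of_card_ge hle (by rw [hcard, hc3]))
        exact hxy₁ (bg11b_comm_of_card hk2 hcard x₁
          (Subgroup.mem_inf.mpr ⟨hx₁, bg11b_mcs.mpr hax⟩) y₁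
          (Subgroup.mem_inf.mpr ⟨hy₁, bg11b_mcs.mpr hay⟩))
      have ha₁c : a₁ ∈ P₁ ⊓ centralizer (P₁ : Set G) := by
        refine Subgroup.mem_inf.mpr ⟨ha₁, ?_⟩
        rw [mem_centralizer_iff]
        intro w hw
        have hw' : w ∈ P₁ ⊓ centralizer ({a₁} : Set G) := by rw [hD]; exact hw
        exact (bg11b_mcs.mp (Subgroup.mem_inf.mp hw').2).symm
      rw [← hΩ] at ha₁c
      have ha₁P₂ : a₁ ∈ P₂ := (Subgroup.closure_le P₂).mpr (fun w hw => hw.1) ha₁c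
      exact mul_mem ha₁P₂ ha₂
    have hcycA : IsCyclic ↥A := by
      have h1 : IsCyclic ↥(A.subgroupOf P₂) := Subgroup.isCyclic _
      exact (Subgroup.subgroupOfEquivOfLe hAP₂).isCyclic.mp h1
    have hexpA : Monoid.exponent ↥A ∣ p :=
      Monoid.exponent_dvd_of_forall_pow_eq_one (fun a => Subtype.ext (by simpa using hA.2 a a.2))
    rw [IsCyclic.exponent_eq_card, hAc] at hexpA
    have h1 := Nat.le_of_dvd hp.pos hexpA
    have h2 := hp.one_lt
    nlinarith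

/-- In a `p`-group of rank at least three (`p` odd), the centralizer of a maximal elementary
abelian subgroup of order `p²` is abelian. -/
theorem bg11b_cent_comm_rk3 {p : ℕ} [Fact p.Prime] (hp2 : p ≠ 2) {S A : Subgroup G}
    (hS : IsPGroup p S) (hr : ¬ PRankLE p 2 ↥S) (hAS : A ≤ S) (hA : IsElementaryAbelian p A)
    (hAc : Nat.card A = p ^ 2)
    (hmax : ∀ B : Subgroup G, IsElementaryAbelian p B → A ≤ B → B = A) :
    ∀ x ∈ S, ∀ y ∈ S, (∀ a ∈ A, a * x = x * a) → (∀ a ∈ A, a * y = y * a) → x * y = y * x := by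
  have hp : p.Prime := Fact.out
  obtain ⟨E, hEdef⟩ : ∃ E : Subgroup ↥S, E = A.subgroupOf S := ⟨_, rfl⟩
  have hmemE : ∀ s : ↥S, s ∈ E ↔ (s : G) ∈ A := fun s => by
    rw [hEdef, Subgroup.mem_subgroupOf]
  have hEcomm : ∀ u ∈ E, ∀ v ∈ E, u * v = v * u := by
    intro u hu v hv
    apply Subtype.ext
    exact bg11_elemAb_comm hA u ((hmemE u).mp hu) v ((hmemE v).mp hv)
  have hE : IsElementaryAbelian p E := by
    refine ⟨⟨⟨fun u v => Subtype.ext (hEcomm u u.2 v v.2)⟩⟩, fun a ha => ?_⟩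
    apply Subtype.ext
    rw [Subgroup.coe_pow]; exact hA.2 _ ((hmemE a).mp ha)
  have hE2 : Nat.card E = p ^ 2 := by rw [hEdef, Helper35.card_subgroupOf_of_le hAS, hAc]
  have hmapEl : ∀ (K : Subgroup ↥S) (B : Subgroup ↥K), IsMulCommutative ↥B →
      (∀ b ∈ B, b ^ p = 1) → IsElementaryAbelian p (B.map K.subtype) := by
    intro K B hBc hBp
    refine ⟨⟨⟨?_⟩⟩, ?_⟩
    · rintro ⟨_, ⟨u, hu, rfl⟩⟩ ⟨_, ⟨v, hv, rfl⟩⟩
      apply Subtype.ext
      have h1 := hBc.is_comm.comm ⟨u, hu⟩ ⟨v, hv⟩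
      exact congrArg (fun w : ↥B => ((w : ↥K) : ↥S)) h1
    · rintro _ ⟨u, hu, rfl⟩
      have h1 := hBp u hu
      have h2 := congrArg (fun w : ↥K => (w : ↥S)) h1
      simpa using h2
  have hEmax : ∀ B : Subgroup ↥S, IsElementaryAbelian p B → E ≤ B → B = E := by
    intro B hB hle
    have hB' : IsElementaryAbelian p (B.map S.subtype) := by
      refine ⟨⟨⟨?_⟩⟩, ?_⟩
      · rintro ⟨_, ⟨u, hu, rfl⟩⟩ ⟨_, ⟨v, hv, rfl⟩⟩
        apply Subtype.ext
        have h1 := hB.1.is_comm.comm ⟨u, hu⟩ ⟨v, hv⟩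
        exact congrArg (fun w : ↥B => ((w : ↥S) : G)) h1
      · rintro _ ⟨u, hu, rfl⟩
        have h1 := hB.2 u hu
        have h2 := congrArg (fun w : ↥S => (w : G)) h1
        simpa using h2
    have hAB : A ≤ B.map S.subtype := by
      intro a ha
      exact ⟨⟨a, hAS ha⟩, hle ((hmemE _).mpr ha), rfl⟩
    have h1 := hmax _ hB' hAB
    refine le_antisymm ?_ hle
    intro u hu
    rw [hmemE, ← h1]
    exact ⟨u, hu, rfl⟩
  obtain ⟨hnle, -, -, hTchar, hTidx⟩ :=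
    Cfsg.Agent.S1453.result (R := ↥S) p hp2 hS hr E hE hE2 hEmax
  obtain ⟨T, hTdef⟩ : ∃ T : Subgroup ↥S, T = centralizer ((closure
      {x : ↥S | x ∈ Subgroup.upperCentralSeries ↥S 2 ∧ x ^ p = 1} : Subgroup ↥S) : Set ↥S) := ⟨_, rfl⟩
  rw [← hTdef] at hnle hTchar hTidx
  have hTn : T.Normal := Subgroup.normal_of_characteristic T
  obtain ⟨a, haE, haT⟩ := SetLike.not_le_iff_exists.mp hnle
  have hcardQ : Nat.card (↥S ⧸ T) = p := by rw [← Subgroup.index_eq_card]; exact hTidx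
  have ha1 : (QuotientGroup.mk a : ↥S ⧸ T) ≠ 1 := fun e =>
    haT ((QuotientGroup.eq_one_iff a).mp e)
  have hdecomp : ∀ s : ↥S, ∃ i : ℤ, (a ^ i)⁻¹ * s ∈ T := by
    intro s
    have h1 : (QuotientGroup.mk s : ↥S ⧸ T) ∈ zpowers (QuotientGroup.mk a : ↥S ⧸ T) :=
      mem_zpowers_of_prime_card hcardQ ha1
    obtain ⟨i, hi⟩ := mem_zpowers_iff.mp h1
    refine ⟨i, ?_⟩
    rw [← QuotientGroup.eq, QuotientGroup.mk_zpow]; exact hi
  obtain ⟨D, hDdef⟩ : ∃ D : Subgroup ↥S, D = T ⊓ centralizer (E : Set ↥S) := ⟨_, rfl⟩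
  have hDT : D ≤ T := by rw [hDdef]; exact inf_le_left
  have hDE : D ≤ centralizer (E : Set ↥S) := by rw [hDdef]; exact inf_le_right
  have hTE : Nat.card ↥(T ⊓ E) ≤ p := by
    have hle : T ⊓ E ≤ E := inf_le_right
    have hdvd : Nat.card ↥(T ⊓ E) ∣ p ^ 2 := by rw [← hE2]; exact Subgroup.card_dvd_of_le hle
    obtain ⟨k, hk, hcard⟩ := (Nat.dvd_prime_pow hp).mp hdvd
    have hk1 : k ≤ 1 := by
      by_contra hk2
      have hk2' : k = 2 := by omega
      subst hk2'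
      have h1 := Subgroup.eq_of_le_of_card_ge hle (by rw [hcard, hE2])
      exact hnle (by rw [← h1]; exact inf_le_left)
    rw [hcard]
    calc p ^ k ≤ p ^ 1 := Nat.pow_le_pow_right hp.pos hk1
      _ = p := pow_one p
  have hrkD : PRankLE p 1 ↥D := by
    intro B hBc hBp
    have hB' := hmapEl D B hBc hBp
    have hB'D : B.map D.subtype ≤ D := Subgroup.map_subtype_le B
    have hcomm : ∀ u ∈ E, ∀ v ∈ B.map D.subtype, u * v = v * u := by
      intro u hu v hv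
      exact mem_centralizer_iff.mp (hDE (hB'D hv)) u hu
    have hsup := bg11_sup_elemAb hE hB' hcomm
    have h1 := hEmax _ hsup le_sup_left
    have hB'E : B.map D.subtype ≤ E := by rw [← h1]; exact le_sup_right
    have h2 : Nat.card ↥(B.map D.subtype) ≤ Nat.card ↥(T ⊓ E) :=
      Subgroup.card_le_of_le (le_inf (hB'D.trans hDT) hB'E)
    rw [Subgroup.card_map_of_injective D.subtype_injective] at h2
    rw [pow_one]; exact h2.trans hTE
  have hDp : IsPGroup p ↥D := hS.to_subgroup D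
  have hDcyc : IsCyclic ↥D := Helper49.isCyclic_of_pRankLE_one hp2 hDp hrkD
  have hDcomm : ∀ u ∈ D, ∀ v ∈ D, u * v = v * u := by
    have hc : IsMulCommutative ↥D := IsCyclic.isMulCommutative
    intro u hu v hv
    exact congrArg Subtype.val (hc.is_comm.comm ⟨u, hu⟩ ⟨v, hv⟩)
  have hEc : E ≤ centralizer (E : Set ↥S) := fun u hu => by
    rw [mem_centralizer_iff]; intro v hv; exact hEcomm v hv u hu
  have hcent : ∀ (w : G) (hw : w ∈ S), (∀ a ∈ A, a * w = w * a) →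
      (⟨w, hw⟩ : ↥S) ∈ centralizer (E : Set ↥S) := by
    intro w hw hwA
    rw [mem_centralizer_iff]
    intro u hu
    apply Subtype.ext
    exact hwA u ((hmemE u).mp hu)
  intro x hx y hy hxA hyA
  have hxc := hcent x hx hxA
  have hyc := hcent y hy hyA
  obtain ⟨i, hi⟩ := hdecomp ⟨x, hx⟩
  obtain ⟨j, hj⟩ := hdecomp ⟨y, hy⟩
  obtain ⟨u, hu⟩ : ∃ u : ↥S, u = a ^ i := ⟨_, rfl⟩
  obtain ⟨v, hv⟩ : ∃ v : ↥S, v = a ^ j := ⟨_, rfl⟩
  rw [← hu] at hi
  rw [← hv] at hj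
  have huE : u ∈ E := hu ▸ zpow_mem haE i
  have hvE : v ∈ E := hv ▸ zpow_mem haE j
  obtain ⟨t, ht⟩ : ∃ t : ↥S, t = u⁻¹ * ⟨x, hx⟩ := ⟨_, rfl⟩
  obtain ⟨r, hr'⟩ : ∃ r : ↥S, r = v⁻¹ * ⟨y, hy⟩ := ⟨_, rfl⟩
  have htD : t ∈ D := by
    rw [hDdef, ht]; exact Subgroup.mem_inf.mpr ⟨hi, mul_mem (inv_mem (hEc huE)) hxc⟩
  have hrD : r ∈ D := by
    rw [hDdef, hr']; exact Subgroup.mem_inf.mpr ⟨hj, mul_mem (inv_mem (hEc hvE)) hyc⟩
  have e1 : u * v = v * u := hEcomm u huE v hvE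
  have e2 : u * r = r * u := mem_centralizer_iff.mp (hDE hrD) u huE
  have e3 : v * t = t * v := mem_centralizer_iff.mp (hDE htD) v hvE
  have e4 : t * r = r * t := hDcomm t htD r hrD
  have ex : (⟨x, hx⟩ : ↥S) = u * t := by rw [ht]; group
  have ey : (⟨y, hy⟩ : ↥S) = v * r := by rw [hr']; group
  have hxy' : (⟨x, hx⟩ : ↥S) * ⟨y, hy⟩ = ⟨y, hy⟩ * ⟨x, hx⟩ := by
    rw [ex, ey]
    calc u * t * (v * r) = u * (t * v) * r := by group
      _ = u * (v * t) * r := by rw [e3]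
      _ = (u * v) * (t * r) := by group
      _ = (v * u) * (r * t) := by rw [e1, e4]
      _ = v * (u * r) * t := by group
      _ = v * (r * u) * t := by rw [e2]
      _ = v * r * (u * t) := by group
  exact congrArg Subtype.val hxy'

/-! ### `M_σ ≠ 1` -/

omit [Finite G] in
theorem bg11b_coatom_ne_bot (hG : IsMinSimpleOddOrder G) {M : Subgroup G} (hM : IsCoatom M) :
    M ≠ ⊥ := by
  rintro rfl
  apply hG.2.2.1
  have hsimple := hG.2.1
  obtain ⟨g, hg⟩ := exists_ne (1 : G)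
  have h1 : zpowers g = ⊤ :=
    hM.2 (zpowers g) (bot_lt_iff_ne_bot.mpr (by simpa using hg))
  have hcyc : IsCyclic G := ⟨⟨g, fun x => by
    have h2 : x ∈ zpowers g := h1 ▸ mem_top x
    exact h2⟩⟩
  exact IsCyclic.isMulCommutative

/-- **B&G Theorem 10.2(e)**: `M_σ ≠ 1`. -/
theorem bg11b_sigmaCore_ne_bot (hG : IsMinSimpleOddOrder G) (hU : BGUniq G) {M : Subgroup G}
    (hM : IsCoatom M) : sigmaCore M ≠ ⊥ := by
  intro hbot
  have hM1 := bg11b_coatom_ne_bot hG hM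
  obtain ⟨h1, -, -⟩ := bg10_sigma_hall hG hU hM
  have hσ : ∀ q : ℕ, q ∉ sigma M := by
    intro q hq
    have h2 := h1.2.2 q hq.1 hq
    rw [hbot, Subgroup.relIndex_bot_left] at h2
    exact h2 hq.2.1
  have hα : ∀ q : ℕ, q ∉ alpha M := fun q hq => hσ q (bg10_alpha_sub_sigma hG hU hM hq)
  have hrk : RankLE 2 ↥M := fun q hq => bg10_pRank_of_not_alpha M q hq (hα q)
  have hsolv := uq_isSolvable hG hM.1
  have hodd := uq_odd hG M
  obtain ⟨-, -, h3⟩ := Cfsg.Agent.S1451.result (G := ↥M) hodd (Or.inl hrk)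
  have hc1 : 1 < Nat.card ↥M := by
    have h0 : Nat.card ↥M ≠ 0 := Nat.card_pos.ne'
    have h1' : Nat.card ↥M ≠ 1 := fun e => hM1 (Subgroup.card_eq_one.mp e)
    omega
  have hne : (Nat.card ↥M).primeFactors.Nonempty := Nat.nonempty_primeFactors.mpr hc1
  obtain ⟨p₀, hp₀def⟩ : ∃ p₀, p₀ = (Nat.card ↥M).primeFactors.max' hne := ⟨_, rfl⟩
  have hp₀mem : p₀ ∈ (Nat.card ↥M).primeFactors := hp₀def ▸ Finset.max'_mem _ hne
  have hp₀ : p₀.Prime := (Nat.mem_primeFactors.mp hp₀mem).1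
  have hp₀M : p₀ ∣ Nat.card ↥M := (Nat.mem_primeFactors.mp hp₀mem).2.1
  have hmax : ∀ q : ℕ, q.Prime → q ∣ Nat.card ↥M → q ≤ p₀ := by
    intro q hq hqM
    rw [hp₀def]
    exact Finset.le_max' _ q (Nat.mem_primeFactors.mpr ⟨hq, hqM, Nat.card_pos.ne'⟩)
  have := Fact.mk hp₀
  obtain ⟨N, hNchar, hNhall⟩ := h3 (p₀ - 1)
  have hNp : IsPGroup p₀ ↥N := by
    apply isPGroup_of_primes
    intro q hq hqN
    have h4 := (hNhall.1 q hq hqN).2
    have h5 := hmax q hq (hqN.trans (Subgroup.card_subgroup_dvd_card N))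
    have h6 : q = p₀ := by omega
    exact h6
  have hidx : ¬ p₀ ∣ N.index := hNhall.2 p₀ hp₀ ⟨hp₀, by have := hp₀.pos; omega⟩
  have hN1 : N ≠ ⊥ := by
    rintro rfl
    apply hidx
    rw [Subgroup.index_bot]
    exact hp₀M
  obtain ⟨P₀, hP₀⟩ : ∃ P₀ : Sylow p₀ ↥M, (P₀ : Subgroup ↥M) = N := ⟨⟨N, hNp, by
    intro Q hQ hle
    have h7 : N.relIndex Q = 1 := by
      have h8 : N.relIndex Q ∣ N.index := Subgroup.relIndex_dvd_index_of_le hle
      obtain ⟨n, hn⟩ := IsPGroup.iff_card.mp hQ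
      have h9 : N.relIndex Q ∣ p₀ ^ n := by
        rw [← hn]
        exact Subgroup.relIndex_dvd_card N Q
      obtain ⟨i, -, hi⟩ := (Nat.dvd_prime_pow hp₀).mp h9
      rcases Nat.eq_zero_or_pos i with rfl | hpos
      · simpa using hi
      · exfalso
        apply hidx
        rw [hi] at h8
        exact (dvd_pow_self p₀ hpos.ne').trans h8
    exact le_antisymm (Subgroup.relIndex_eq_one.mp h7) hle⟩, rfl⟩
  have hNnorm : N.Normal := inferInstance
  have hXM : N.map M.subtype ≤ M := Subgroup.map_subtype_le _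
  have hX1 : N.map M.subtype ≠ ⊥ := by
    intro e
    exact hN1 ((Subgroup.map_eq_bot_iff_of_injective _ M.subtype_injective).mp e)
  have hMn : M ≤ normalizer ((N.map M.subtype : Subgroup G) : Set G) := by
    intro m hm
    apply bg10_mem_normalizer
    rintro _ ⟨y, hy, rfl⟩
    exact ⟨⟨m, hm⟩ * y * ⟨m, hm⟩⁻¹, hNnorm.conj_mem y hy ⟨m, hm⟩, rfl⟩
  have hNG := uq_normalizer_eq hG hM hX1 hXM hMn
  exact hσ p₀ ⟨hp₀, hp₀M, P₀, by rw [hP₀]; exact hNG.le⟩

/-! ### Lemma 11.5 -/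

section Hyp

variable {M A₀ A : Subgroup G} {p : ℕ}

omit [Finite G] in
/-- No Sylow `p`-subgroup of `M` has its normalizer inside `M`. -/
theorem bg11b_normalizer_not_le [Fact p.Prime] (h : BG11Hyp M A₀ A p) {P : Subgroup G}
    (hP : IsSylowOf p P M) : ¬ normalizer (P : Set G) ≤ M := by
  have hp : p.Prime := Fact.out
  have hAM := bg11_le_M h
  intro hN
  apply h.notσ
  have hpM : p ∣ Nat.card M := by
    have h1 : p ∣ Nat.card A := by rw [h.cardA]; exact dvd_pow_self p (by norm_num)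
    exact h1.trans (Subgroup.card_dvd_of_le hAM)
  obtain ⟨P₀, hP₀⟩ := hP.exists_sylow
  refine ⟨hp, hpM, P₀, ?_⟩
  rw [hP₀, Subgroup.map_subgroupOf_eq_of_le hP.1]
  exact hN

/-- **B&G Lemma 11.5 / 11.6(a)**, first half: `A = Ω₁(P) ≤ Z(P)` for a Sylow `p`-subgroup
`P ≥ A` of `M`. -/
theorem bg11b_omega (hG : IsMinSimpleOddOrder G) (hU : BGUniq G) (hpl : BGPLen G)
    [Fact p.Prime] (h : BG11Hyp M A₀ A p) {P : Subgroup G} (hP : IsSylowOf p P M) (hAP : A ≤ P) :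
    (∀ x ∈ P, x ^ p = 1 → x ∈ A) ∧ ∀ a ∈ A, ∀ x ∈ P, a * x = x * a := by
  have hp : p.Prime := Fact.out
  have hAM := bg11_le_M h
  have hmax := bg11_max hG hU h
  obtain ⟨g, hgP, hg⟩ := SetLike.not_le_iff_exists.mp (bg11b_normalizer_not_le h hP)
  obtain ⟨hB0P, hfpf⟩ := bg11_fpf_sylow hG hU hpl h hP hAP hgP hg
  have hcl1 : ∀ x ∈ P, (∀ w ∈ P, w * x = x * w) → x ^ p = 1 → x ∈ A := fun x _ hxc hxp =>
    bg11b_mem_of_comm h.elem hmax hxp (fun a ha => hxc a (hAP ha))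
  have hpM : p ∣ Nat.card M := by
    have h1 : p ∣ Nat.card A := by rw [h.cardA]; exact dvd_pow_self p (by norm_num)
    exact h1.trans (Subgroup.card_dvd_of_le hAM)
  obtain ⟨P₀, hP₀⟩ := hP.exists_sylow
  have hP₀map : (P₀ : Subgroup ↥M).map M.subtype = P := by
    rw [hP₀, Subgroup.map_subgroupOf_eq_of_le hP.1]
  obtain ⟨z, hzc, hzo⟩ := bg10_exists_central_order hpM P₀
  rw [bg10_mem_center_map, hP₀map] at hzc
  obtain ⟨hzP, hzcomm⟩ := hzc
  have hzp : z ^ p = 1 := by rw [← hzo]; exact pow_orderOf_eq_one z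
  have hz1 : z ≠ 1 := by
    rintro rfl
    rw [orderOf_one] at hzo
    exact hp.one_lt.ne hzo
  have hzA : z ∈ A := hcl1 z hzP hzcomm hzp
  have hcardz : Nat.card (zpowers z) = p := by rw [Nat.card_zpowers]; exact hzo
  by_cases hcase : ∃ z₂ ∈ P, (∀ w ∈ P, w * z₂ = z₂ * w) ∧ z₂ ^ p = 1 ∧ z₂ ∉ zpowers z
  · obtain ⟨z₂, hz₂P, hz₂c, hz₂p, hz₂n⟩ := hcase
    have hz₂1 : z₂ ≠ 1 := fun e => hz₂n (e ▸ one_mem _)
    have hz₂A := hcl1 z₂ hz₂P hz₂c hz₂p
    have hcard2 : Nat.card (zpowers z₂) = p := by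
      rw [Nat.card_zpowers]; exact orderOf_eq_prime hz₂p hz₂1
    have hne : zpowers z ≠ zpowers z₂ := fun e => hz₂n (e ▸ mem_zpowers z₂)
    have hcomm : ∀ y ∈ zpowers z, ∀ w ∈ zpowers z₂, y * w = w * y := fun y hy w hw =>
      bg11_elemAb_comm h.elem y ((zpowers_le.mpr hzA) hy) w ((zpowers_le.mpr hz₂A) hw)
    obtain ⟨-, hEc⟩ := bg10_sup_elemAb hp hcardz hcard2 hne hcomm
    have hEA : zpowers z ⊔ zpowers z₂ = A := by
      apply Subgroup.eq_of_le_of_card_ge (sup_le (zpowers_le.mpr hzA) (zpowers_le.mpr hz₂A))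
      rw [hEc, h.cardA]
    have hAc : ∀ a ∈ A, ∀ x ∈ P, a * x = x * a := by
      intro a ha x hx
      have h1 : zpowers z ⊔ zpowers z₂ ≤ centralizer ({x} : Set G) := by
        refine sup_le (zpowers_le.mpr ?_) (zpowers_le.mpr ?_)
        · exact bg11b_mcs.mpr (hzcomm x hx)
        · exact bg11b_mcs.mpr (hz₂c x hx)
      have h2 : a ∈ centralizer ({x} : Set G) := h1 (by rw [hEA]; exact ha)
      exact (bg11b_mcs.mp h2).symm
    exact ⟨fun x hx hxp => bg11b_mem_of_comm h.elem hmax hxp (fun a ha => hAc a ha x hx), hAc⟩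
  · exfalso
    push Not at hcase
    have hgz : g * z * g⁻¹ ∈ zpowers z := by
      apply hcase
      · exact (mem_normalizer_iff.mp hgP z).mp hzP
      · intro w hw
        have h1 : g⁻¹ * w * g ∈ P := by
          have h0 := (mem_normalizer_iff.mp (inv_mem hgP) w).mp hw
          simpa using h0
        have h2 := hzcomm _ h1
        calc w * (g * z * g⁻¹) = g * ((g⁻¹ * w * g) * z) * g⁻¹ := by group
          _ = g * (z * (g⁻¹ * w * g)) * g⁻¹ := by rw [h2]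
          _ = g * z * g⁻¹ * w := by group
      · rw [conj_pow, hzp]; group
    have hgZ : g ∈ normalizer ((zpowers z : Subgroup G) : Set G) := by
      apply bg10_mem_normalizer
      intro y hy
      obtain ⟨i, rfl⟩ := mem_zpowers_iff.mp hy
      rw [← conj_zpow]
      exact zpow_mem hgz i
    have hA₀1 : A₀ ≠ ⊥ := by
      intro e
      have h1 := h.cardA₀
      rw [e, Subgroup.card_bot] at h1
      exact hp.one_lt.ne h1
    obtain ⟨a₀, ha₀, ha₀1⟩ := bg11_exists_ne_one hA₀1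
    have ha₀p : a₀ ^ p = 1 := h.elem.2 a₀ (h.le ha₀)
    have hA₀eq : zpowers a₀ = A₀ := by
      apply Subgroup.eq_of_le_of_card_ge (zpowers_le.mpr ha₀)
      rw [Nat.card_zpowers, orderOf_eq_prime ha₀p ha₀1, h.cardA₀]
    obtain ⟨b, hbdef⟩ : ∃ b, b = g * a₀ * g⁻¹ := ⟨_, rfl⟩
    have hbB0 : b ∈ MulAut.conj g • A₀ := hbdef ▸ conj_mem_conj_smul ha₀
    have hbP : b ∈ P := hB0P hbB0
    have hbp : b ^ p = 1 := by rw [hbdef, conj_pow, ha₀p]; group
    have hbnz : b ∉ zpowers z := by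
      intro hbz
      have h1 : a₀ ∈ zpowers z := by
        have h0 := (mem_normalizer_iff.mp (inv_mem hgZ) b).mp hbz
        have e : g⁻¹ * b * g⁻¹⁻¹ = a₀ := by rw [hbdef]; group
        rwa [e] at h0
      have h2 : A₀ = zpowers z := by
        rw [← hA₀eq]
        apply Subgroup.eq_of_le_of_card_ge (zpowers_le.mpr h1)
        rw [Nat.card_zpowers, Nat.card_zpowers, hzo, orderOf_eq_prime ha₀p ha₀1]
      apply hg
      apply h.norm
      rw [h2]; exact hgZ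
    have hbnc : ¬ ∀ w ∈ P, w * b = b * w := fun hc => hbnz (hcase b hbP hc hbp)
    have hb1 : b ≠ 1 := fun e => hbnz (e ▸ one_mem _)
    have hcardb : Nat.card (zpowers b) = p := by
      rw [Nat.card_zpowers]; exact orderOf_eq_prime hbp hb1
    have hbz : b * z = z * b := hzcomm b hbP
    have hneA' : zpowers b ≠ zpowers z := fun e => hbnz (e ▸ mem_zpowers b)
    have hcommA' : ∀ y ∈ zpowers b, ∀ w ∈ zpowers z, y * w = w * y := by
      intro y hy w hw
      obtain ⟨i, rfl⟩ := mem_zpowers_iff.mp hy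
      obtain ⟨m, rfl⟩ := mem_zpowers_iff.mp hw
      exact ((show Commute b z from hbz).zpow_zpow i m).eq
    obtain ⟨hA'el, hA'c⟩ := bg10_sup_elemAb hp hcardb hcardz hneA' hcommA'
    have hA'P : zpowers b ⊔ zpowers z ≤ P := sup_le (zpowers_le.mpr hbP) (zpowers_le.mpr hzP)
    have hA'max := bg10_elemAb_sq_maximal hG hU h.coatom (bg11_rank hG hU h).1
      (hA'P.trans hP.1) hA'el hA'c
    have hCne : P ⊓ centralizer ({b} : Set G) ≠ P := by
      intro e
      apply hbnc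
      intro w hw
      have h1 : w ∈ P ⊓ centralizer ({b} : Set G) := by rw [e]; exact hw
      exact (bg11b_mcs.mp (Subgroup.mem_inf.mp h1).2).symm
    obtain ⟨x, hxP, hxC, hxn⟩ := bg11b_exists_normalizing hP.2.1 inf_le_left hCne
    have hbC : b ∈ P ⊓ centralizer ({b} : Set G) :=
      Subgroup.mem_inf.mpr ⟨hbP, bg11b_mcs.mpr rfl⟩
    have hxb := Subgroup.mem_inf.mp (hxn b hbC)
    have hxbA' : x * b * x⁻¹ ∈ zpowers b ⊔ zpowers z := by
      apply bg11b_mem_of_comm hA'el hA'max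
      · rw [conj_pow, hbp]; group
      · intro a ha
        have h1 : zpowers b ⊔ zpowers z ≤ centralizer ({x * b * x⁻¹} : Set G) := by
          refine sup_le (zpowers_le.mpr ?_) (zpowers_le.mpr ?_)
          · exact bg11b_mcs.mpr (bg11b_mcs.mp hxb.2).symm
          · exact bg11b_mcs.mpr (hzcomm _ hxb.1)
        exact (bg11b_mcs.mp (h1 ha)).symm
    have hxne : x * b * x⁻¹ ≠ b := by
      intro e
      apply hxC
      refine Subgroup.mem_inf.mpr ⟨hxP, bg11b_mcs.mpr ?_⟩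
      calc b * x = (x * b * x⁻¹) * x := by rw [e]
        _ = x * b := by group
    obtain ⟨e, hxe⟩ : ∃ e : ℕ, x ^ p ^ e = 1 := by
      obtain ⟨e, he⟩ := hP.2.1 ⟨x, hxP⟩
      exact ⟨e, by simpa using congrArg Subtype.val he⟩
    have hxz : x * z = z * x := hzcomm x hxP
    have hxM : x ∈ M := hP.1 hxP
    have hfpfy : ∀ y ∈ zpowers b ⊔ zpowers z, y ∉ zpowers z →
        sigmaCore M ⊓ centralizer ({y} : Set G) = ⊥ := by
      intro y hy hyz
      obtain ⟨n, hn⟩ := bg11b_transvection hbp hzp hbz hxz hbnz hxbA' hxne hxe hy hyz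
      rw [eq_bot_iff]
      intro c hc
      rw [mem_bot]
      obtain ⟨hcσ, hcy⟩ := Subgroup.mem_inf.mp hc
      have hc1 : c ∈ centralizer ({x ^ n * b * (x ^ n)⁻¹} : Set G) := by
        have h1 : zpowers y ≤ centralizer ({c} : Set G) :=
          zpowers_le.mpr (bg11b_mcs.mpr (bg11b_mcs.mp hcy).symm)
        exact bg11b_mcs.mpr (bg11b_mcs.mp (h1 hn)).symm
      obtain ⟨d, hd⟩ : ∃ d, d = (x ^ n)⁻¹ * c * x ^ n := ⟨_, rfl⟩
      have hdσ : d ∈ sigmaCore M := by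
        have hxnM : (x ^ n)⁻¹ ∈ M := inv_mem (pow_mem hxM n)
        have h0 := (mem_normalizer_iff.mp (le_normalizer_piCoreOf (sigma M) M hxnM) c).mp hcσ
        have e : (x ^ n)⁻¹ * c * (x ^ n)⁻¹⁻¹ = d := by rw [hd]; group
        rwa [e] at h0
      have hdb : d * b = b * d := by
        have h3 := bg11b_mcs.mp hc1
        calc d * b = (x ^ n)⁻¹ * (c * (x ^ n * b * (x ^ n)⁻¹)) * x ^ n := by rw [hd]; group
          _ = (x ^ n)⁻¹ * ((x ^ n * b * (x ^ n)⁻¹) * c) * x ^ n := by rw [h3]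
          _ = b * d := by rw [hd]; group
      have hdB0 : d ∈ centralizer ((MulAut.conj g • A₀ : Subgroup G) : Set G) := by
        rw [mem_centralizer_iff]
        intro w hw
        rw [SetLike.mem_coe, mem_conj_smul, ← hA₀eq] at hw
        obtain ⟨i, hi⟩ := mem_zpowers_iff.mp hw
        have hw2 : w = b ^ i := by
          rw [hbdef, conj_zpow, hi]; group
        rw [hw2]
        exact ((show Commute d b from hdb).zpow_right i).eq.symm
      have hd1 : d = 1 := by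
        have h4 : d ∈ sigmaCore M ⊓ centralizer ((MulAut.conj g • A₀ : Subgroup G) : Set G) :=
          Subgroup.mem_inf.mpr ⟨hdσ, hdB0⟩
        rw [hfpf] at h4; exact mem_bot.mp h4
      calc c = x ^ n * d * (x ^ n)⁻¹ := by rw [hd]; group
        _ = 1 := by rw [hd1]; group
    have hσnorm : zpowers b ⊔ zpowers z ≤ normalizer (sigmaCore M : Set G) :=
      (hA'P.trans hP.1).trans (le_normalizer_piCoreOf (sigma M) M)
    have hcop : (Nat.card ↥(zpowers b ⊔ zpowers z)).Coprime (Nat.card (sigmaCore M)) := by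
      rw [hA'c]
      apply Nat.Coprime.pow_left
      rw [Nat.Prime.coprime_iff_not_dvd hp]
      exact fun hd => h.notσ (mem_of_dvd_card_piCoreOf (sigma M) M hp hd)
    have hnc : ¬ ∃ a ∈ zpowers b ⊔ zpowers z, zpowers a = zpowers b ⊔ zpowers z := by
      rintro ⟨a, ha, hza⟩
      have h1 : Nat.card (zpowers a) ≤ p := by
        rw [Nat.card_zpowers]
        exact Nat.le_of_dvd hp.pos (orderOf_dvd_of_pow_eq_one (hA'el.2 a ha))
      rw [hza, hA'c] at h1
      have := hp.one_lt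
      nlinarith
    have hgen := coprime_gen_nonidentity (bg11_elemAb_comm hA'el) hnc hσnorm hcop
    have hσz : sigmaCore M ≤ centralizer ({z} : Set G) := by
      refine hgen.le.trans (iSup₂_le (fun B hB => ?_))
      obtain ⟨hBA', hB1⟩ := hB
      obtain ⟨y, hyB, hy1⟩ := bg11_exists_ne_one hB1
      have hyB' : ({y} : Set G) ⊆ (B : Set G) := by
        rintro _ rfl; exact hyB
      by_cases hyz : y ∈ zpowers z
      · have hzy := bg11b_mem_zpowers_of_ne_one hzp hyz hy1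
        intro c hc
        have hcy : c ∈ centralizer ({y} : Set G) :=
          centralizer_le hyB' (Subgroup.mem_inf.mp hc).2
        have h1 : zpowers y ≤ centralizer ({c} : Set G) :=
          zpowers_le.mpr (bg11b_mcs.mpr (bg11b_mcs.mp hcy).symm)
        exact bg11b_mcs.mpr (bg11b_mcs.mp (h1 hzy)).symm
      · have h1 := hfpfy y (hBA' hyB) hyz
        have h2 : sigmaCore M ⊓ centralizer (B : Set G) ≤
            sigmaCore M ⊓ centralizer ({y} : Set G) :=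
          inf_le_inf_left _ (centralizer_le hyB')
        rw [h1] at h2
        exact h2.trans bot_le
    have hnil := bg11_sigma_nilpotent hG hU hpl h
    have hσ1 := bg11b_sigmaCore_ne_bot hG hU h.coatom
    have hcσ : Nat.card ↥(sigmaCore M) ≠ 1 := fun e => hσ1 (Subgroup.card_eq_one.mp e)
    obtain ⟨q, hq, hqd⟩ := Nat.exists_prime_and_dvd hcσ
    have := Fact.mk hq
    obtain ⟨Q₁, hQ₁⟩ := sylowSet_nonempty (p := q) (sigmaCore M)
    have hQ₁ne : Q₁ ≠ ⊥ := by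
      intro e
      have h1 := hQ₁.2
      rw [e, Subgroup.card_bot] at h1
      have h2 : 0 < (Nat.card ↥(sigmaCore M)).factorization q :=
        hq.factorization_pos_of_dvd Nat.card_pos.ne' hqd
      have h3 : q ∣ 1 := by rw [h1]; exact dvd_pow_self q h2.ne'
      exact hq.one_lt.ne' (Nat.dvd_one.mp h3)
    have hMQ₁ := bg11_sylow_normal hnil hQ₁
    have hQ₁A : A ≤ normalizer (Q₁ : Set G) := hAM.trans hMQ₁
    have hQ₂ : MulAut.conj g • Q₁ ∈ sylowSet q (MulAut.conj g • sigmaCore M) :=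
      ⟨conj_smul_le_conj_smul hQ₁.1, by rw [card_conj_smul, hQ₁.2, card_conj_smul]⟩
    have hPg : MulAut.conj g • P = P := conj_smul_eq_self_of_mem_normalizer hgP
    have hQ₂A : A ≤ normalizer ((MulAut.conj g • Q₁ : Subgroup G) : Set G) := by
      have h1 : P ≤ MulAut.conj g • M := by
        have h0 := conj_smul_le_conj_smul (g := g) hP.1
        rwa [hPg] at h0
      exact (hAP.trans h1).trans (bg11_conj_le_normalizer g hMQ₁)
    have hZA : zpowers z ≤ A := zpowers_le.mpr hzA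
    have hZ1 : zpowers z ≠ ⊥ := by
      intro e
      apply hz1
      have h0 : z ∈ (⊥ : Subgroup G) := e ▸ mem_zpowers z
      exact mem_bot.mp h0
    have hcZ : centralizer ((zpowers z : Subgroup G) : Set G) = centralizer ({z} : Set G) :=
      bg10_centralizer_zpowers z
    have h1 : Q₁ ⊓ centralizer ((zpowers z : Subgroup G) : Set G) ≠ ⊥ := by
      rw [hcZ, inf_eq_left.mpr (hQ₁.1.trans hσz)]; exact hQ₁ne
    have h2 : MulAut.conj g • Q₁ ⊓ centralizer ((zpowers z : Subgroup G) : Set G) ≠ ⊥ := by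
      have hle : MulAut.conj g • Q₁ ≤ centralizer ((zpowers z : Subgroup G) : Set G) := by
        intro y hy
        rw [mem_conj_smul] at hy
        have hy2 := hσz (hQ₁.1 hy)
        rw [mem_centralizer_iff]
        intro w hw
        have hw2 : g⁻¹ * w * g ∈ zpowers z := by
          have h0 := (mem_normalizer_iff.mp (inv_mem hgZ) w).mp hw
          simpa using h0
        have hcy : g⁻¹ * y * g ∈ centralizer ((zpowers z : Subgroup G) : Set G) := by
          rw [hcZ]; exact hy2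
        have h3 := mem_centralizer_iff.mp hcy _ hw2
        calc w * y = g * ((g⁻¹ * w * g) * (g⁻¹ * y * g)) * g⁻¹ := by group
          _ = g * ((g⁻¹ * y * g) * (g⁻¹ * w * g)) * g⁻¹ := by rw [h3]
          _ = y * w := by group
      rw [inf_eq_left.mpr hle]
      intro e
      apply hQ₁ne
      have h0 : Nat.card (MulAut.conj g • Q₁ : Subgroup G) = 1 := by rw [e]; exact Subgroup.card_bot
      rw [card_conj_smul] at h0
      exact Subgroup.card_eq_one.mp h0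
    exact bg11_TI_sylow hG hU hpl h hg hQ₁ hQ₁A hQ₂ hQ₂A hZA hZ1 h1 h2

theorem bg11b_pow_iff (hG : IsMinSimpleOddOrder G) (hU : BGUniq G) (hpl : BGPLen G)
    [Fact p.Prime] (h : BG11Hyp M A₀ A p) {P : Subgroup G} (hP : IsSylowOf p P M) (hAP : A ≤ P) :
    ∀ x ∈ P, (x ^ p = 1 ↔ x ∈ A) :=
  fun x hx => ⟨(bg11b_omega hG hU hpl h hP hAP).1 x hx, h.elem.2 x⟩

/-- **B&G Lemma 11.5**: the Sylow `p`-subgroups of `M` are abelian. -/
theorem bg11b_sylow_abelian (hG : IsMinSimpleOddOrder G) (hU : BGUniq G) (hpl : BGPLen G)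
    (h12 : BGRk2 G) [Fact p.Prime] (h : BG11Hyp M A₀ A p) {P : Subgroup G}
    (hP : IsSylowOf p P M) : ∀ x ∈ P, ∀ y ∈ P, x * y = y * x := by
  have hp : p.Prime := Fact.out
  have hAM := bg11_le_M h
  have hmax := bg11_max hG hU h
  obtain ⟨P', hP', hAP'⟩ := exists_isSylowOf_ge (bg11_isPGroup_of_elemAb h.elem) hAM
  have hω := (bg11b_omega hG hU hpl h hP' hAP').2
  obtain ⟨S, hS, hP'S⟩ := exists_isSylowOf_ge hP'.2.1 (le_top : P' ≤ ⊤)
  obtain ⟨S₀, rfl⟩ := hS.exists_sylow_top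
  have hp2 : p ≠ 2 := by
    rintro rfl
    have hpG : 2 ∣ Nat.card G := by
      have h1 : 2 ∣ Nat.card A := by rw [h.cardA]; exact dvd_pow_self 2 (by norm_num)
      exact h1.trans (Subgroup.card_subgroup_dvd_card A)
    exact (Nat.not_even_iff_odd.mpr hG.1) (even_iff_two_dvd.mpr hpG)
  have hcommP' : ∀ x ∈ P', ∀ y ∈ P', x * y = y * x := by
    intro x hx y hy
    by_cases hr : PRankLE p 2 ↥(S₀ : Subgroup G)
    · exact bg11b_cent_comm_rk2 (h12 p S₀ hr) (hAP'.trans hP'S) h.elem h.cardA x (hP'S hx)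
        y (hP'S hy) (fun a ha => hω a ha x hx) (fun a ha => hω a ha y hy)
    · exact bg11b_cent_comm_rk3 hp2 S₀.2 hr (hAP'.trans hP'S) h.elem h.cardA hmax x (hP'S hx)
        y (hP'S hy) (fun a ha => hω a ha x hx) (fun a ha => hω a ha y hy)
  obtain ⟨m, hm, rfl⟩ := bg10_sylow_conj hP' hP
  intro x hx y hy
  rw [mem_conj_smul] at hx hy
  have h1 := hcommP' _ hx _ hy
  calc x * y = m * ((m⁻¹ * x * m) * (m⁻¹ * y * m)) * m⁻¹ := by group
    _ = m * ((m⁻¹ * y * m) * (m⁻¹ * x * m)) * m⁻¹ := by rw [h1]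
    _ = y * x := by group

/-- **COUNT** (B&G 11.6): at least two subgroups of order `p` of `A` have no fixed points on
`M_σ`. -/
theorem bg11b_count (hG : IsMinSimpleOddOrder G) (hU : BGUniq G) (hpl : BGPLen G)
    [Fact p.Prime] (h : BG11Hyp M A₀ A p) :
    ∃ B₁ B₂ : Subgroup G, B₁ ≤ A ∧ B₂ ≤ A ∧ Nat.card B₁ = p ∧ Nat.card B₂ = p ∧ B₁ ≠ B₂ ∧
      sigmaCore M ⊓ centralizer (B₁ : Set G) = ⊥ ∧
      sigmaCore M ⊓ centralizer (B₂ : Set G) = ⊥ := by
  have hp : p.Prime := Fact.out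
  have hAM := bg11_le_M h
  obtain ⟨P, hP, hAP⟩ := exists_isSylowOf_ge (bg11_isPGroup_of_elemAb h.elem) hAM
  obtain ⟨g, hgP, hg⟩ := SetLike.not_le_iff_exists.mp (bg11b_normalizer_not_le h hP)
  have hω := (bg11b_omega hG hU hpl h hP hAP).1
  have hg2P : g * g ∈ normalizer (P : Set G) := mul_mem hgP hgP
  have hg2 : g * g ∉ M := by
    intro hgg
    apply hg
    have hodd : Odd (orderOf g) := hG.1.of_dvd_nat (orderOf_dvd_natCard g)
    obtain ⟨k, hk⟩ := hodd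
    have e : g = (g * g) ^ (k + 1) := by
      rw [← pow_two, ← pow_mul]
      have h1 : 2 * (k + 1) = orderOf g + 1 := by omega
      rw [h1, pow_succ, pow_orderOf_eq_one, one_mul]
    rw [e]; exact pow_mem hgg _
  obtain ⟨h1P, h1f⟩ := bg11_fpf_sylow hG hU hpl h hP hAP hgP hg
  obtain ⟨h2P, h2f⟩ := bg11_fpf_sylow hG hU hpl h hP hAP hg2P hg2
  have hleA : ∀ c : G, MulAut.conj c • A₀ ≤ P → MulAut.conj c • A₀ ≤ A := by
    intro c hc x hx
    apply hω x (hc hx)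
    rw [mem_conj_smul] at hx
    have h1 : (c⁻¹ * x * c) ^ p = 1 := h.elem.2 _ (h.le hx)
    calc x ^ p = (c * (c⁻¹ * x * c) * c⁻¹) ^ p := by congr 1; group
      _ = c * (c⁻¹ * x * c) ^ p * c⁻¹ := conj_pow
      _ = 1 := by rw [h1]; group
  refine ⟨MulAut.conj g • A₀, MulAut.conj (g * g) • A₀, hleA g h1P, hleA (g * g) h2P,
    by rw [card_conj_smul, h.cardA₀], by rw [card_conj_smul, h.cardA₀], ?_, h1f, h2f⟩
  intro e
  apply hg
  apply h.norm
  apply bg10_mem_normalizer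
  intro x hx
  have h1 : (g * g) * x * (g * g)⁻¹ ∈ MulAut.conj (g * g) • A₀ := conj_mem_conj_smul hx
  rw [← e, mem_conj_smul] at h1
  have e2 : g⁻¹ * (g * g * x * (g * g)⁻¹) * g = g * x * g⁻¹ := by group
  rwa [e2] at h1

/-- **B&G Corollary 11.6**: `C_{M_σ}(A) = 1`. -/
theorem bg11b_cent_A (hG : IsMinSimpleOddOrder G) (hU : BGUniq G) (hpl : BGPLen G)
    [Fact p.Prime] (h : BG11Hyp M A₀ A p) : sigmaCore M ⊓ centralizer (A : Set G) = ⊥ := by
  obtain ⟨B₁, -, hB₁A, -, -, -, -, hf, -⟩ := bg11b_count hG hU hpl h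
  rw [eq_bot_iff, ← hf]
  exact inf_le_inf_left _ (centralizer_le (by exact_mod_cast hB₁A))

end Hyp

end Cfsg.Agent.Helper24
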