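/-
helper24: Bender–Glauberman Lemma 12.17 (= S1426), conditional on the first parts of
Proposition 12.4 (S1416: `C_G(A) ≤ M`) and Lemma 12.13 (S1423: `C_G(X) ≤ M`).
For a maximal subgroup `M` and a complement `E` of `M_σ` in `M`:
`C_{M_σ}(E) ≤ (M_σ)'`, `[M_σ, E] = M_σ`, and for `g ∉ M` the intersection `M_σ ∩ gMg⁻¹` is
cyclic, a `β(M)'`-group and meets `(M_σ)'` trivially.
Everything lives in `Cfsg.Agent.Helper24`.
-/
import Cfsg.Agent.Helper22.BG11d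
import Cfsg.Agent.S1404

set_option autoImplicit false

namespace Cfsg.Agent.Helper24

open Cfsg Subgroup Cfsg.Agent.Helper22 Cfsg.Agent.Helper23 Cfsg.Agent.Helper35
open scoped Pointwise commutatorElement

universe u

variable {G : Type u} [Group G] [Finite G]

/-! ### Generic lemmas -/

/-- The product `E N` of a subgroup `E` and a subgroup `N` normalized by `E`. -/
def bg1217Prod (E N : Subgroup G) (hEN : E ≤ normalizer (N : Set G)) : Subgroup G where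
  carrier := {x | ∃ e ∈ E, ∃ k ∈ N, x = e * k}
  mul_mem' := by
    rintro _ _ ⟨e, he, k, hk, rfl⟩ ⟨e', he', k', hk', rfl⟩
    refine ⟨e * e', mul_mem he he', e'⁻¹ * k * e' * k', mul_mem ?_ hk', by group⟩
    have h0 := (mem_normalizer_iff.mp (hEN (inv_mem he')) k).mp hk
    simpa using h0
  one_mem' := ⟨1, one_mem _, 1, one_mem _, by simp⟩
  inv_mem' := by
    rintro _ ⟨e, he, k, hk, rfl⟩
    refine ⟨e⁻¹, inv_mem he, e * k⁻¹ * e⁻¹, ?_, by group⟩
    exact (mem_normalizer_iff.mp (hEN he) k⁻¹).mp (inv_mem hk)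

omit [Finite G] in
theorem bg1217_le_prod_left (E N : Subgroup G) (hEN : E ≤ normalizer (N : Set G)) :
    E ≤ bg1217Prod E N hEN := fun e he => ⟨e, he, 1, one_mem _, by simp⟩

omit [Finite G] in
theorem bg1217_le_prod_right (E N : Subgroup G) (hEN : E ≤ normalizer (N : Set G)) :
    N ≤ bg1217Prod E N hEN := fun k hk => ⟨1, one_mem _, k, hk, by simp⟩

omit [Finite G] in
theorem bg1217_inf_prod {E K K₁ : Subgroup G} (hEK : E ⊓ K = ⊥) (hK₁K : K₁ ≤ K)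
    (hEN : E ≤ normalizer (K₁ : Set G)) : K ⊓ bg1217Prod E K₁ hEN ≤ K₁ := by
  rintro x ⟨hxK, e, he, k, hk, rfl⟩
  have heK : e ∈ K := by
    have h1 : e = e * k * k⁻¹ := by group
    rw [h1]; exact mul_mem hxK (inv_mem (hK₁K hk))
  have he1 : e = 1 := by
    have h2 : e ∈ E ⊓ K := ⟨he, heK⟩
    rw [hEK] at h2; exact mem_bot.mp h2
  rw [he1, one_mul]; exact hk

/-- A subgroup normalizing `A` and `B` normalizes `[A, B]`. -/
theorem bg1217_normalizer_commutator {X A B : Subgroup G} (hA : X ≤ normalizer (A : Set G))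
    (hB : X ≤ normalizer (B : Set G)) : X ≤ normalizer ((⁅A, B⁆ : Subgroup G) : Set G) := by
  intro x hx
  have h1 : ⁅A, B⁆ ≤ MulAut.conj x⁻¹ • ⁅A, B⁆ := by
    rw [commutator_le]
    intro a ha b hb
    rw [mem_conj_smul, inv_inv]
    have ha' : x * a * x⁻¹ ∈ A := (mem_normalizer_iff.mp (hA hx) a).mp ha
    have hb' : x * b * x⁻¹ ∈ B := (mem_normalizer_iff.mp (hB hx) b).mp hb
    have e : x * ⁅a, b⁆ * x⁻¹ = ⁅x * a * x⁻¹, x * b * x⁻¹⁆ := by
      simp only [commutatorElement_def]; group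
    rw [e]; exact commutator_mem_commutator ha' hb'
  apply bg10_mem_normalizer
  intro y hy
  have h2 := h1 hy
  rwa [mem_conj_smul, inv_inv] at h2

/-- `K` normalizes `[K, E]`. -/
theorem bg1217_left_normalizes (K E : Subgroup G) :
    K ≤ normalizer ((⁅K, E⁆ : Subgroup G) : Set G) := by
  intro x hx
  have h1 : ⁅K, E⁆ ≤ MulAut.conj x⁻¹ • ⁅K, E⁆ := by
    rw [commutator_le]
    intro k hk e he
    rw [mem_conj_smul, inv_inv]
    have e1 : x * ⁅k, e⁆ * x⁻¹ = ⁅x * k, e⁆ * ⁅x, e⁆⁻¹ := by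
      simp only [commutatorElement_def]; group
    rw [e1]
    exact mul_mem (commutator_mem_commutator (mul_mem hx hk) he)
      (inv_mem (commutator_mem_commutator hx he))
  apply bg10_mem_normalizer
  intro y hy
  have h2 := h1 hy
  rwa [mem_conj_smul, inv_inv] at h2

theorem bg1217_normalizer_sup {X A B : Subgroup G} (hA : X ≤ normalizer (A : Set G))
    (hB : X ≤ normalizer (B : Set G)) : X ≤ normalizer ((A ⊔ B : Subgroup G) : Set G) := by
  intro x hx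
  have h1 : MulAut.conj x • (A ⊔ B) = A ⊔ B := by
    rw [Subgroup.smul_sup, conj_smul_eq_self_of_mem_normalizer (hA hx),
      conj_smul_eq_self_of_mem_normalizer (hB hx)]
  apply bg10_mem_normalizer
  intro y hy
  have h2 := conj_mem_conj_smul (g := x) hy
  rwa [h1] at h2

omit [Finite G] in
/-- If `M = E K` with `K` normal and `K₁ ⊇ [K, E] [K, K]` normal in `M`, then `M' ≤ E K₁`. -/
theorem bg1217_comm_le {M K E K₁ : Subgroup G} (hE : IsComplIn E K M)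
    (hK₁n : M ≤ normalizer (K₁ : Set G)) (hKE : ⁅K, E⁆ ≤ K₁) (hKK : ⁅K, K⁆ ≤ K₁) :
    ⁅M, M⁆ ≤ bg1217Prod E K₁ (hE.1.trans hK₁n) := by
  obtain ⟨T, hT⟩ : ∃ T, T = bg1217Prod E K₁ (hE.1.trans hK₁n) := ⟨_, rfl⟩
  rw [← hT]
  have hET : E ≤ T := hT ▸ bg1217_le_prod_left E K₁ _
  have hKT : K₁ ≤ T := hT ▸ bg1217_le_prod_right E K₁ _
  have hconj : ∀ m ∈ M, ∀ y ∈ K₁, m * y * m⁻¹ ∈ K₁ := fun m hm y hy =>
    (mem_normalizer_iff.mp (hK₁n hm) y).mp hy
  rw [commutator_le]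
  intro m₁ hm₁ m₂ hm₂
  obtain ⟨e₁, he₁, k₁, hk₁, rfl⟩ := hE.2.2.2 m₁ hm₁
  obtain ⟨e₂, he₂, k₂, hk₂, rfl⟩ := hE.2.2.2 m₂ hm₂
  have h1 : ⁅k₁, e₂⁆ ∈ K₁ := hKE (commutator_mem_commutator hk₁ he₂)
  have h2 : e₂ * ⁅k₁, k₂⁆ * e₂⁻¹ ∈ K₁ :=
    hconj e₂ (hE.1 he₂) _ (hKK (commutator_mem_commutator hk₁ hk₂))
  have h3 : e₁ * (⁅k₁, e₂⁆ * (e₂ * ⁅k₁, k₂⁆ * e₂⁻¹)) * e₁⁻¹ ∈ K₁ :=
    hconj e₁ (hE.1 he₁) _ (mul_mem h1 h2)
  have h4 : ⁅e₁, e₂⁆ ∈ E := by
    rw [commutatorElement_def]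
    exact mul_mem (mul_mem (mul_mem he₁ he₂) (inv_mem he₁)) (inv_mem he₂)
  have h5 : e₂ * ⁅e₁, k₂⁆ * e₂⁻¹ ∈ K₁ := by
    apply hconj e₂ (hE.1 he₂)
    rw [← commutatorElement_inv]
    exact inv_mem (hKE (commutator_mem_commutator hk₂ he₁))
  have e : ⁅e₁ * k₁, e₂ * k₂⁆ = e₁ * (⁅k₁, e₂⁆ * (e₂ * ⁅k₁, k₂⁆ * e₂⁻¹)) * e₁⁻¹ *
      (⁅e₁, e₂⁆ * (e₂ * ⁅e₁, k₂⁆ * e₂⁻¹)) := by
    simp only [commutatorElement_def]; group
  rw [e]
  exact mul_mem (hKT h3) (mul_mem (hET h4) (hKT h5))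

omit [Finite G] in
/-- A solvable group that is perfect modulo a normal subgroup `N` equals `N`. -/
theorem bg1217_le_of_perfect_mod {K N : Subgroup G} [hsolv : Group.IsSolvable ↥K] (hNK : N ≤ K)
    (hKN : K ≤ normalizer (N : Set G)) (h : K ≤ N ⊔ ⁅K, K⁆) : K ≤ N := by
  have hnorm : (N.subgroupOf K).Normal := (normal_subgroupOf_iff_le_normalizer hNK).mpr hKN
  have hKK : ⁅K, K⁆ ≤ K := bg11_commutator_le_self K
  have htop : N.subgroupOf K ⊔ _root_.commutator ↥K = ⊤ := by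
    have h1 : (N ⊔ ⁅K, K⁆).subgroupOf K = ⊤ := subgroupOf_eq_top.mpr h
    rw [subgroupOf_sup hNK hKK] at h1
    have h2 : (⁅K, K⁆ : Subgroup G).subgroupOf K = _root_.commutator ↥K := by
      apply Subgroup.map_injective K.subtype_injective
      rw [subgroupOf_map_subtype, map_subtype_commutator, inf_eq_left.mpr hKK]
    rwa [h2] at h1
  have hcomm : _root_.commutator (↥K ⧸ N.subgroupOf K) = ⊤ := by
    rw [eq_top_iff]
    have h3 : (N.subgroupOf K ⊔ _root_.commutator ↥K).map (QuotientGroup.mk' (N.subgroupOf K))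
        = ⊤ := by
      rw [htop]
      exact map_top_of_surjective _ (QuotientGroup.mk'_surjective _)
    rw [Subgroup.map_sup, QuotientGroup.map_mk'_self, bot_sup_eq] at h3
    rw [← h3, _root_.commutator_def, _root_.commutator_def, map_commutator]
    exact commutator_mono le_top le_top
  have hsub : Subsingleton (↥K ⧸ N.subgroupOf K) := by
    by_contra hns
    have hnt : Nontrivial (↥K ⧸ N.subgroupOf K) := not_subsingleton_iff_nontrivial.mp hns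
    have h4 := Group.IsSolvable.commutator_lt_top_of_nontrivial (↥K ⧸ N.subgroupOf K)
    rw [hcomm] at h4
    exact lt_irrefl _ h4
  have h5 := QuotientGroup.subgroup_eq_top_of_subsingleton _ hsub
  exact subgroupOf_eq_top.mp h5

/-- Averaging: if `E` acts coprimely on `K = [K, E]`, then `C_K(E) ≤ K'`. -/
theorem bg1217_cent_le_comm {K E : Subgroup G} (hEK : E ≤ normalizer (K : Set G))
    (hcop : (Nat.card E).Coprime (Nat.card K)) (hKE : K ≤ ⁅K, E⁆) :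
    K ⊓ centralizer (E : Set G) ≤ ⁅K, K⁆ := by
  classical
  have := Fintype.ofFinite ↥E
  -- conjugation by `e` on `K`
  let cj : ↥E → (↥K →* ↥K) := fun e =>
    { toFun := fun k => ⟨(e : G) * k * (e : G)⁻¹, (mem_normalizer_iff.mp (hEK e.2) k).mp k.2⟩
      map_one' := by apply Subtype.ext; simp
      map_mul' := by intro a b; apply Subtype.ext; simp only [Subgroup.coe_mul]; group }
  have hcj : ∀ (e : ↥E) (k : ↥K), ((cj e k : ↥K) : G) = (e : G) * k * (e : G)⁻¹ := fun e k => rfl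
  let ν : ↥K →* Abelianization ↥K := ∏ e : ↥E, (Abelianization.of).comp (cj e)
  have hν : ∀ k : ↥K, ν k = ∏ e : ↥E, Abelianization.of (cj e k) := by
    intro k
    simp only [ν, MonoidHom.finsetProd_apply, MonoidHom.comp_apply]
  have hinv : ∀ (e₀ : ↥E) (k : ↥K), ν (cj e₀ k) = ν k := by
    intro e₀ k
    rw [hν, hν]
    refine Fintype.prod_equiv (Equiv.mulRight e₀) _ _ (fun e => ?_)
    congr 1
    apply Subtype.ext
    rw [hcj, hcj, hcj]
    simp only [Equiv.coe_mulRight, Subgroup.coe_mul]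
    group
  -- `ν` is trivial on `K`
  have hker : K ≤ (ν.ker).map K.subtype := by
    refine hKE.trans ?_
    rw [commutator_le]
    intro k hk e he
    have hkinv : (⟨k, hk⟩ : ↥K)⁻¹ = ⟨k⁻¹, inv_mem hk⟩ := rfl
    refine ⟨⟨k, hk⟩ * cj ⟨e, he⟩ (⟨k, hk⟩⁻¹), ?_, ?_⟩
    · rw [SetLike.mem_coe, MonoidHom.mem_ker, map_mul, hinv, ← map_mul, mul_inv_cancel, map_one]
    · rw [Subgroup.subtype_apply, Subgroup.coe_mul, hcj, commutatorElement_def]
      simp only [Subgroup.coe_inv]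
      group
  intro c hc
  obtain ⟨hcK, hcE⟩ := Subgroup.mem_inf.mp hc
  have hνc : ν ⟨c, hcK⟩ = 1 := by
    obtain ⟨c', hc', hcc⟩ := hker hcK
    have h1 : c' = ⟨c, hcK⟩ := Subtype.ext hcc
    rw [← h1]; exact MonoidHom.mem_ker.mp hc'
  have hfix : ∀ e : ↥E, cj e ⟨c, hcK⟩ = ⟨c, hcK⟩ := by
    intro e
    apply Subtype.ext
    rw [hcj]
    have h2 : (e : G) * c = c * (e : G) := mem_centralizer_iff.mp hcE e e.2
    show (e : G) * c * (e : G)⁻¹ = c
    rw [h2]; group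
  have hpow : (⟨c, hcK⟩ : ↥K) ^ Nat.card ↥E ∈ _root_.commutator ↥K := by
    rw [← Abelianization.ker_of, MonoidHom.mem_ker, map_pow]
    rw [hν] at hνc
    simp only [hfix] at hνc
    rw [Finset.prod_const, Finset.card_univ, ← Nat.card_eq_fintype_card] at hνc
    exact hνc
  have hpowK : (⟨c, hcK⟩ : ↥K) ^ Nat.card ↥K = 1 := pow_card_eq_one'
  have hbez := Int.gcd_eq_gcd_ab (Nat.card ↥E : ℤ) (Nat.card ↥K : ℤ)
  have hg1 : Int.gcd (Nat.card ↥E : ℤ) (Nat.card ↥K : ℤ) = 1 := by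
    rw [Int.gcd_natCast_natCast]; exact hcop
  rw [hg1] at hbez
  have hmem : (⟨c, hcK⟩ : ↥K) ∈ _root_.commutator ↥K := by
    have h3 : (⟨c, hcK⟩ : ↥K) = ((⟨c, hcK⟩ : ↥K) ^ Nat.card ↥E) ^
        (Int.gcdA (Nat.card ↥E : ℤ) (Nat.card ↥K : ℤ)) *
        ((⟨c, hcK⟩ : ↥K) ^ Nat.card ↥K) ^ (Int.gcdB (Nat.card ↥E : ℤ) (Nat.card ↥K : ℤ)) := by
      rw [← zpow_natCast, ← zpow_natCast, ← zpow_mul, ← zpow_mul, ← zpow_add, ← hbez]
      simp
    rw [h3, hpowK, one_zpow, mul_one]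
    exact zpow_mem hpow _
  rw [← map_subtype_commutator]
  exact ⟨⟨c, hcK⟩, hmem, rfl⟩

/-! ### Lemma 12.17 -/

section Main

variable {M E : Subgroup G}

theorem bg1217_coprime (hG : IsMinSimpleOddOrder G) (hU : BGUniq G) (hM : IsCoatom M)
    (hE : IsComplIn E (sigmaCore M) M) : (Nat.card E).Coprime (Nat.card (sigmaCore M)) := by
  apply Nat.coprime_of_dvd
  intro r hr hrE hrK
  exact bg12_not_sigma_of_dvd hG hU hM hE hr hrE
    (mem_of_dvd_card_piCoreOf (sigma M) M hr hrK)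

/-- `M_σ ≤ M'`. -/
theorem bg1217_sigmaCore_le_comm (hG : IsMinSimpleOddOrder G) (hU : BGUniq G)
    (hM : IsCoatom M) : sigmaCore M ≤ ⁅M, M⁆ := by
  apply bg11_le_of_sylows
  intro r hr
  have := Fact.mk hr
  obtain ⟨Q, hQ⟩ := sylowSet_nonempty (p := r) (sigmaCore M)
  refine ⟨Q, hQ, ?_⟩
  by_cases hrσ : r ∈ sigma M
  · obtain ⟨-, hQM, hN⟩ := bg11_sigma_sylow hG hU hM hrσ hQ
    exact bg10_sylow_le_commutator hG hU hM hQM hN
  · have hnd : ¬ r ∣ Nat.card (sigmaCore M) := fun hd =>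
      hrσ (mem_of_dvd_card_piCoreOf (sigma M) M hr hd)
    have h1 := hQ.2
    rw [Nat.factorization_eq_zero_of_not_dvd hnd, pow_zero] at h1
    rw [Subgroup.card_eq_one.mp h1]
    exact bot_le

/-- **B&G Lemma 12.17(b)**: `[M_σ, E] = M_σ`. -/
theorem bg1217_comm_eq (hG : IsMinSimpleOddOrder G) (hU : BGUniq G) (hM : IsCoatom M)
    (hE : IsComplIn E (sigmaCore M) M) : ⁅sigmaCore M, E⁆ = sigmaCore M := by
  have hMK0 : M ≤ normalizer (sigmaCore M : Set G) := le_normalizer_piCoreOf (sigma M) M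
  have hK_comm0 : sigmaCore M ≤ ⁅M, M⁆ := bg1217_sigmaCore_le_comm hG hU hM
  obtain ⟨K, hKdef⟩ : ∃ K, K = sigmaCore M := ⟨_, rfl⟩
  rw [← hKdef] at hE hMK0 hK_comm0 ⊢
  have hKM : K ≤ M := hE.2.1
  have hEK : E ≤ normalizer (K : Set G) := hE.1.trans hMK0
  have hKEle : ⁅K, E⁆ ≤ K := by
    rw [commutator_le]
    intro k hk e he
    rw [commutatorElement_def]
    have h1 : e * k⁻¹ * e⁻¹ ∈ K := (mem_normalizer_iff.mp (hEK he) k⁻¹).mp (inv_mem hk)
    have e1 : k * e * k⁻¹ * e⁻¹ = k * (e * k⁻¹ * e⁻¹) := by group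
    rw [e1]; exact mul_mem hk h1
  have hKKle : ⁅K, K⁆ ≤ K := bg11_commutator_le_self K
  have hMn1 : M ≤ normalizer ((⁅K, E⁆ : Subgroup G) : Set G) := by
    intro m hm
    obtain ⟨e, he, k, hk, rfl⟩ := hE.2.2.2 m hm
    exact mul_mem (bg1217_normalizer_commutator hEK (le_normalizer (H := E)) he)
      (bg1217_left_normalizes K E hk)
  have hMn2 : M ≤ normalizer ((⁅K, K⁆ : Subgroup G) : Set G) :=
    bg1217_normalizer_commutator hMK0 hMK0
  have hMn : M ≤ normalizer ((⁅K, E⁆ ⊔ ⁅K, K⁆ : Subgroup G) : Set G) :=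
    bg1217_normalizer_sup hMn1 hMn2
  have h1 := bg1217_comm_le hE hMn le_sup_left le_sup_right
  have h2 : K ≤ ⁅K, E⁆ ⊔ ⁅K, K⁆ :=
    le_trans (le_inf le_rfl (hK_comm0.trans h1))
      (bg1217_inf_prod hE.2.2.1 (sup_le hKEle hKKle) _)
  have hKne : K ≠ ⊤ := fun e => hM.1 (top_le_iff.mp (e ▸ hKM))
  have hsolv : Group.IsSolvable ↥K := uq_isSolvable hG hKne
  exact le_antisymm hKEle (bg1217_le_of_perfect_mod hKEle (bg1217_left_normalizes K E) h2)

/-- A nontrivial `q`-subgroup `X` of `M ∩ gMg⁻¹`, `q ∈ σ(M)`, with `C_G(X) ≤ M` forces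
`g ∈ M`. -/
theorem bg1217_TI (hG : IsMinSimpleOddOrder G) (hM : IsCoatom M) {q : ℕ} [Fact q.Prime]
    (hq : q ∈ sigma M) {X : Subgroup G} (hXq : IsPGroup q X) (hX1 : X ≠ ⊥) (hXM : X ≤ M)
    (hC : centralizer (X : Set G) ≤ M) {g : G}
    (hXg : X ≤ M.map (MulAut.conj g).toMonoidHom) : g ∈ M := by
  have h1 := (Cfsg.Agent.S1404.result hG M hM q hq X hXq hX1 hXM).1 g⁻¹ (by
    rintro _ ⟨x, hx, rfl⟩
    obtain ⟨m, hm, hmx⟩ := hXg hx
    have hmx' : g * m * g⁻¹ = x := hmx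
    show g⁻¹ * x * g⁻¹⁻¹ ∈ M
    have e : g⁻¹ * x * g⁻¹⁻¹ = m := by rw [← hmx']; group
    rw [e]; exact hm)
  obtain ⟨m, hm, c, hc, hgmc⟩ := h1
  have h2 : g⁻¹ ∈ M := hgmc ▸ mul_mem hm (hC hc)
  simpa using inv_mem h2

/-- **B&G Lemma 12.17(c)**. -/
theorem bg1217_inter (hG : IsMinSimpleOddOrder G) (hM : IsCoatom M)
    (h1416 : ∀ (q : ℕ) [Fact q.Prime] (A : Subgroup G), A ≤ M → IsElementaryAbelian q A →
      Nat.card A = q ^ 2 → centralizer (A : Set G) ≤ M)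
    (h1423 : ∀ (q : ℕ) [Fact q.Prime], q ∈ sigma M → ∀ X : Subgroup G, X ≤ M → Nat.card X = q →
      (q ∈ beta M ∨ X ≤ ⁅sigmaCore M, sigmaCore M⁆) → centralizer (X : Set G) ≤ M)
    {g : G} (hg : g ∉ M) :
    IsCyclic ↥(sigmaCore M ⊓ M.map (MulAut.conj g).toMonoidHom) ∧
      (∀ p : ℕ, p.Prime → p ∣ Nat.card ↥(sigmaCore M ⊓ M.map (MulAut.conj g).toMonoidHom) →
        p ∉ beta M) ∧
      sigmaCore M ⊓ M.map (MulAut.conj g).toMonoidHom ⊓ ⁅sigmaCore M, sigmaCore M⁆ = ⊥ := by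
  obtain ⟨D, hDdef⟩ : ∃ D, D = sigmaCore M ⊓ M.map (MulAut.conj g).toMonoidHom := ⟨_, rfl⟩
  rw [← hDdef]
  have hDK : D ≤ sigmaCore M := hDdef ▸ inf_le_left
  have hDg : D ≤ M.map (MulAut.conj g).toMonoidHom := hDdef ▸ inf_le_right
  have hDM : D ≤ M := hDK.trans (piCoreOf_le (sigma M) M)
  have hkey : ∀ (q : ℕ) [Fact q.Prime] (X : Subgroup G), X ≤ D → IsPGroup q X → X ≠ ⊥ →
      ¬ centralizer (X : Set G) ≤ M := by
    intro q _ X hXD hXq hX1 hC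
    have hq : q.Prime := Fact.out
    have hqσ : q ∈ sigma M := by
      apply mem_of_dvd_card_piCoreOf (sigma M) M hq
      exact (bg11_dvd_card_of_isPGroup hXq hX1).trans (Subgroup.card_dvd_of_le (hXD.trans hDK))
    exact hg (bg1217_TI hG hM hqσ hXq hX1 (hXD.trans hDM) hC (hXD.trans hDg))
  have hcauchy : ∀ (q : ℕ) [Fact q.Prime] (Y : Subgroup G), q ∣ Nat.card Y →
      ∃ X : Subgroup G, X ≤ Y ∧ Nat.card X = q := by
    intro q _ Y hd
    obtain ⟨y, hy⟩ := exists_prime_orderOf_dvd_card' (G := ↥Y) q hd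
    refine ⟨zpowers (y : G), zpowers_le.mpr y.2, ?_⟩
    rw [Nat.card_zpowers, Subgroup.orderOf_coe, hy]
  have hprime : ∀ (q : ℕ) [Fact q.Prime] (X : Subgroup G), Nat.card X = q →
      IsPGroup q X ∧ X ≠ ⊥ := by
    intro q _ X hX
    refine ⟨IsPGroup.of_card (n := 1) (by rw [hX, pow_one]), ?_⟩
    rintro rfl
    rw [Subgroup.card_bot] at hX
    exact (Fact.out : q.Prime).one_lt.ne hX
  have hβ : ∀ p : ℕ, p.Prime → p ∣ Nat.card ↥D → p ∉ beta M := by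
    intro p hp hpD hpβ
    have := Fact.mk hp
    obtain ⟨X, hXD, hXc⟩ := hcauchy p D hpD
    obtain ⟨hXp, hX1⟩ := hprime p X hXc
    have hpσ : p ∈ sigma M :=
      mem_of_dvd_card_piCoreOf (sigma M) M hp (hpD.trans (Subgroup.card_dvd_of_le hDK))
    exact hkey p X hXD hXp hX1 (h1423 p hpσ X (hXD.trans hDM) hXc (Or.inl hpβ))
  have hcomm0 : D ⊓ ⁅sigmaCore M, sigmaCore M⁆ = ⊥ := by
    by_contra hne
    have hc1 : Nat.card ↥(D ⊓ ⁅sigmaCore M, sigmaCore M⁆) ≠ 1 := fun e =>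
      hne (Subgroup.card_eq_one.mp e)
    obtain ⟨p, hp, hpd⟩ := Nat.exists_prime_and_dvd hc1
    have := Fact.mk hp
    obtain ⟨X, hXD, hXc⟩ := hcauchy p _ hpd
    obtain ⟨hXp, hX1⟩ := hprime p X hXc
    have hpσ : p ∈ sigma M :=
      mem_of_dvd_card_piCoreOf (sigma M) M hp
        ((hpd.trans (Subgroup.card_dvd_of_le inf_le_left)).trans (Subgroup.card_dvd_of_le hDK))
    exact hkey p X (hXD.trans inf_le_left) hXp hX1
      (h1423 p hpσ X ((hXD.trans inf_le_left).trans hDM) hXc (Or.inr (hXD.trans inf_le_right)))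
  refine ⟨?_, hβ, hcomm0⟩
  have hDab : ∀ x ∈ D, ∀ y ∈ D, x * y = y * x := by
    intro x hx y hy
    have h0 : ⁅x, y⁆ ∈ D := by
      rw [commutatorElement_def]
      exact mul_mem (mul_mem (mul_mem hx hy) (inv_mem hx)) (inv_mem hy)
    have h1 : ⁅x, y⁆ ∈ D ⊓ ⁅sigmaCore M, sigmaCore M⁆ :=
      Subgroup.mem_inf.mpr ⟨h0, commutator_mem_commutator (hDK hx) (hDK hy)⟩
    rw [hcomm0] at h1
    exact commutatorElement_eq_one_iff_mul_comm.mp (mem_bot.mp h1)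
  have hDrk : RankLE 1 ↥D := by
    intro q hq
    by_contra hnr
    have := Fact.mk hq
    obtain ⟨A, hAD, hAcomm, hAexp, hAc⟩ := bg10_exists_elemAb_sq hq hnr
    have hAel : IsElementaryAbelian q A :=
      ⟨⟨⟨fun a b => Subtype.ext (hAcomm a a.2 b b.2)⟩⟩, hAexp⟩
    have hAq : IsPGroup q A := bg11_isPGroup_of_elemAb hAel
    have hA1 : A ≠ ⊥ := by
      rintro rfl
      rw [Subgroup.card_bot] at hAc
      have h3 := hq.one_lt
      nlinarith
    exact hkey q A hAD hAq hA1 (h1416 q A (hAD.trans hDM) hAel hAc)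
  have hDnil : Group.IsNilpotent ↥D := by
    refine ⟨⟨1, ?_⟩⟩
    rw [Subgroup.upperCentralSeries_one, eq_top_iff]
    intro x _
    rw [Subgroup.mem_center_iff]
    intro y
    exact Subtype.ext (hDab y y.2 x x.2)
  exact bg12_isCyclic_of_comm hG.1 hDrk hDnil

/-- **B&G Lemma 12.17**, given the first parts of 12.4 and 12.13. -/
theorem bg1217_main (hG : IsMinSimpleOddOrder G) (hU : BGUniq G) (hM : IsCoatom M)
    (h1416 : ∀ (q : ℕ) [Fact q.Prime] (A : Subgroup G), A ≤ M → IsElementaryAbelian q A →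
      Nat.card A = q ^ 2 → centralizer (A : Set G) ≤ M)
    (h1423 : ∀ (q : ℕ) [Fact q.Prime], q ∈ sigma M → ∀ X : Subgroup G, X ≤ M → Nat.card X = q →
      (q ∈ beta M ∨ X ≤ ⁅sigmaCore M, sigmaCore M⁆) → centralizer (X : Set G) ≤ M)
    (hE : IsComplIn E (sigmaCore M) M) :
    sigmaCore M ⊓ centralizer (E : Set G) ≤ ⁅sigmaCore M, sigmaCore M⁆ ∧
      ⁅sigmaCore M, E⁆ = sigmaCore M ∧
      ∀ g : G, g ∉ M → IsCyclic ↥(sigmaCore M ⊓ M.map (MulAut.conj g).toMonoidHom) ∧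
        (∀ p : ℕ, p.Prime → p ∣ Nat.card ↥(sigmaCore M ⊓ M.map (MulAut.conj g).toMonoidHom) →
          p ∉ beta M) ∧
        sigmaCore M ⊓ M.map (MulAut.conj g).toMonoidHom ⊓ ⁅sigmaCore M, sigmaCore M⁆ = ⊥ := by
  have h2 := bg1217_comm_eq hG hU hM hE
  refine ⟨?_, h2, fun g hg => bg1217_inter hG hM h1416 h1423 hg⟩
  exact bg1217_cent_le_comm (hE.1.trans (le_normalizer_piCoreOf (sigma M) M))
    (bg1217_coprime hG hU hM hE) h2.ge

end Main

end Cfsg.Agent.Helper24
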