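/-
helper24: block (A1) for S1428 (Bender–Glauberman Theorem 13.4).
`FACT F` (B&G 13.1(a)-type, commutator form), `τ₃`-elements lie in the derived subgroup,
`LEMMA X` (the `τ₂` case) and their combination: an element of prime order `r ∉ σ(M)`,
`r ∉ τ₁(H)`, of `H` centralizes every subgroup of `M_σ ∩ H` which it normalizes.
-/
import Cfsg.Agent.Helper54.BG13b
import Cfsg.Agent.Helper20.BG13P4
import Cfsg.Agent.Helper4.BG127P2
import Cfsg.Agent.Helper49.BG1216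
import Cfsg.Agent.Helper24.BG1217
import Cfsg.Agent.S1403
import Cfsg.Agent.S1414
import Cfsg.Agent.S1417
import Cfsg.Agent.S1418

set_option autoImplicit false

namespace Cfsg.Agent.Helper24

open Cfsg Subgroup Cfsg.Agent.Helper22 Cfsg.Agent.Helper23 Cfsg.Agent.Helper35
open scoped Pointwise

universe u

variable {G : Type u} [Group G] [Finite G]

/-- **FACT F**: for non-conjugate maximal subgroups `M`, `L`, an `r`-subgroup `R` of `L'`
(`r ∉ σ(M)`) centralizes every subgroup of `M_σ ∩ L` which it normalizes. -/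
theorem bg13_factF (hG : IsMinSimpleOddOrder G) {M L : Subgroup G} (hM : IsCoatom M)
    (hL : IsCoatom L) (hnc : ∀ g : G, L ≠ M.map (MulAut.conj g).toMonoidHom) {r : ℕ}
    [Fact r.Prime] (hrM : r ∉ sigma M) {R D : Subgroup G} (hR : IsPGroup r R)
    (hRL : R ≤ ⁅L, L⁆) (hDM : D ≤ sigmaCore M) (hDL : D ≤ L)
    (hRD : R ≤ normalizer (D : Set G)) : ∀ d ∈ D, ∀ x ∈ R, x * d = d * x := by
  have hrr : r.Prime := Fact.out
  have hU : BGUniq G := fun K hK h1 h2 => Cfsg.Agent.S1403.result hG K hK h1 h2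
  intro d hd x hx
  obtain ⟨k, hk⟩ := hR ⟨x, hx⟩
  have hxk : x ^ r ^ k = 1 := by simpa using congrArg Subtype.val hk
  have hxL' : x ∈ ⁅L, L⁆ := hRL hx
  have hxN := hRD hx
  have hLn : L ≤ normalizer ((⁅L, L⁆ : Subgroup G) : Set G) :=
    bg1217_normalizer_commutator le_normalizer le_normalizer
  have hconjD : ∀ y ∈ D, x * y * x⁻¹ * y⁻¹ ∈ D := fun y hy =>
    D.mul_mem ((mem_normalizer_iff.mp hxN y).mp hy) (D.inv_mem hy)
  have hconjL : ∀ y ∈ L, x * y * x⁻¹ * y⁻¹ ∈ ⁅L, L⁆ := by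
    intro y hy
    have h : y * x⁻¹ * y⁻¹ ∈ ⁅L, L⁆ :=
      (mem_normalizer_iff.mp (hLn hy) x⁻¹).mp (inv_mem hxL')
    have e : x * y * x⁻¹ * y⁻¹ = x * (y * x⁻¹ * y⁻¹) := by group
    rw [e]; exact mul_mem hxL' h
  have hcD := hconjD d hd
  have hcL := hconjL d (hDL hd)
  have hrD : (r ^ k).Coprime (Nat.card D) := by
    apply Nat.Coprime.pow_left
    rw [Nat.Prime.coprime_iff_not_dvd hrr]
    intro h
    exact hrM (mem_of_dvd_card_piCoreOf (sigma M) M hrr (h.trans (Subgroup.card_dvd_of_le hDM)))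
  -- `x` commutes with `c = [x, d]`
  have hxc : x * (x * d * x⁻¹ * d⁻¹) = (x * d * x⁻¹ * d⁻¹) * x := by
    apply Helper68.bg123_comm_of_eq_one
    have hc'D := hconjD _ hcD
    have hord : orderOf ((⟨x, hxL'⟩ : ↥⁅L, L⁆) * ⟨x * d * x⁻¹ * d⁻¹, hcL⟩ *
        (⟨x, hxL'⟩ : ↥⁅L, L⁆)⁻¹ * (⟨x * d * x⁻¹ * d⁻¹, hcL⟩ : ↥⁅L, L⁆)⁻¹) = 1 := by
      by_contra hne
      obtain ⟨q, hq, hqd⟩ := Nat.exists_prime_and_dvd hne
      have hqd' : q ∣ orderOf (x * (x * d * x⁻¹ * d⁻¹) * x⁻¹ * (x * d * x⁻¹ * d⁻¹)⁻¹) := by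
        rw [← Subgroup.orderOf_coe] at hqd
        simpa using hqd
      have hqD : q ∣ Nat.card D := hqd'.trans (Subgroup.orderOf_dvd_natCard D hc'D)
      have hqσ : q ∈ sigma M :=
        mem_of_dvd_card_piCoreOf (sigma M) M hq (hqD.trans (Subgroup.card_dvd_of_le hDM))
      have hqL : q ∣ Nat.card L := hqD.trans (Subgroup.card_dvd_of_le hDL)
      have hqβ : q ∉ beta L := fun h => Helper49.bg1216_alpha_disjoint hU hM hL hnc h.1 hqσ
      have hcompl : HasNormalPComplement q ↥⁅L, L⁆ :=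
        ((Cfsg.Agent.S1414.result hG L hL).2.2.2.2 q hq hqL hqβ).1
      have hqr : q ≠ r := fun h => hrM (h ▸ hqσ)
      have hcop : (r ^ k).Coprime q :=
        Nat.Coprime.pow_left k ((Nat.coprime_primes hrr hq).2 (Ne.symm hqr))
      have hb : (⟨x, hxL'⟩ : ↥⁅L, L⁆) ^ r ^ k = 1 := Subtype.ext (by simpa using hxk)
      exact Helper4.bg127_comm_order hq hcop hcompl (b := ⟨x, hxL'⟩)
        (c := ⟨x * d * x⁻¹ * d⁻¹, hcL⟩) hb hqd
    have h3 := orderOf_eq_one_iff.mp hord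
    simpa using congrArg Subtype.val h3
  apply Helper68.bg123_comm_of_eq_one
  have h4 := Helper68.bg123_conj_pow (a := x) (x := d) (c := x * d * x⁻¹ * d⁻¹) rfl hxc (r ^ k)
  rw [hxk] at h4
  have h5 : (x * d * x⁻¹ * d⁻¹) ^ r ^ k = 1 := by
    have h6 : (x * d * x⁻¹ * d⁻¹) ^ r ^ k * d = d := by rw [← h4]; group
    exact mul_eq_right.mp h6
  exact Helper68.bg123_eq_one_of_coprime hcD h5 hrD

/-- For `r ∈ τ₃(H)`, every `r`-element of `H` lies in `H'`. -/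
theorem bg13_tau3_mem_commutator (hG : IsMinSimpleOddOrder G) {H : Subgroup G}
    (hH : IsCoatom H) {r : ℕ} (hr : r ∈ tau3 H) {x : G} (hxH : x ∈ H) {k : ℕ}
    (hx : x ^ r ^ k = 1) : x ∈ ⁅H, H⁆ := by
  have hU : BGUniq G := fun K hK h1 h2 => Cfsg.Agent.S1403.result hG K hK h1 h2
  have hrr : r.Prime := hr.1
  have hrσ : (r ^ k).Coprime (Nat.card (sigmaCore H)) := by
    apply Nat.Coprime.pow_left
    rw [Nat.Prime.coprime_iff_not_dvd hrr]
    exact fun h => hr.2.1 (mem_of_dvd_card_piCoreOf (sigma H) H hrr h)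
  have hcop : (Nat.card (zpowers x)).Coprime (Nat.card (sigmaCore H)) := by
    rw [Nat.card_zpowers]
    exact Nat.Coprime.coprime_dvd_left (orderOf_dvd_of_pow_eq_one hx) hrσ
  obtain ⟨E, hE, hxE⟩ := Helper20.bg13_exists_compl_ge hG hU hH ((zpowers_le).mpr hxH) hcop
  have hxE' : x ∈ E := hxE (mem_zpowers x)
  have hidx := bg12_tau3_not_dvd_index hG hE hr
  have h1 : x ∈ ⁅E, E⁆ := by
    refine Helper68.bg123_mem_of_coprime (T := ⁅E, E⁆) (H := E) ?_ hxE' hx ?_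
    · exact bg1217_normalizer_commutator le_normalizer le_normalizer
    · rw [← Subgroup.map_subtype_commutator, bg10_relIndex_map_subtype]
      apply Nat.Coprime.pow_left
      rw [Nat.Prime.coprime_iff_not_dvd hrr]
      exact hidx
  exact Subgroup.commutator_mono hE.1 hE.1 h1

/-- **LEMMA X**: the case `r ∈ τ₂(H)`. -/
theorem bg13_lemmaX (hG : IsMinSimpleOddOrder G) {M H : Subgroup G} (hM : IsCoatom M)
    (hH : IsCoatom H) (hnc : ∀ g : G, H ≠ M.map (MulAut.conj g).toMonoidHom) {r : ℕ}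
    [Fact r.Prime] (hrM : r ∉ sigma M) (hrH : r ∈ tau2 H) {x : G} (hxH : x ∈ H)
    (hxr : x ^ r = 1) {D : Subgroup G} (hDM : D ≤ sigmaCore M) (hDH : D ≤ H)
    (hxD : x ∈ normalizer (D : Set G)) : ∀ d ∈ D, x * d = d * x := by
  have hrr : r.Prime := Fact.out
  have hU : BGUniq G := fun K hK h1 h2 => Cfsg.Agent.S1403.result hG K hK h1 h2
  by_cases hx1 : x = 1
  · intro d _; rw [hx1]; simp
  obtain ⟨A₀, hA₀H, hA₀, hA₀c⟩ := Helper72.b12c_exists_elemAb hrH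
  obtain ⟨hnil, -⟩ := Cfsg.Agent.S1417.result hG H hH r hrH A₀ ⟨hA₀H, hA₀, hA₀c⟩
  have hrD : r.Coprime (Nat.card D) := by
    rw [Nat.Prime.coprime_iff_not_dvd hrr]
    intro h
    exact hrM (mem_of_dvd_card_piCoreOf (sigma M) M hrr (h.trans (Subgroup.card_dvd_of_le hDM)))
  have hDcop : (Nat.card D).Coprime (Nat.card (sigmaCore H)) := by
    apply Nat.coprime_of_dvd
    intro q hq hqD hqH
    exact (Helper49.bg1216_sigma_disjoint hG hU hM hH hnc hnil hq hqH)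
      (mem_of_dvd_card_piCoreOf (sigma M) M hq (hqD.trans (Subgroup.card_dvd_of_le hDM)))
  have hZn : zpowers x ≤ normalizer (D : Set G) := (zpowers_le).mpr hxD
  have hxcard : Nat.card (zpowers x) = r := by
    rw [Nat.card_zpowers]; exact orderOf_eq_prime hxr hx1
  have hYcop : (Nat.card ↥(zpowers x ⊔ D)).Coprime (Nat.card (sigmaCore H)) := by
    refine Nat.Coprime.coprime_dvd_left
      (Cfsg.Agent.Helper22.card_sup_dvd_of_le_normalizer hZn) ?_
    rw [hxcard]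
    refine Nat.Coprime.mul_left ?_ hDcop
    rw [Nat.Prime.coprime_iff_not_dvd hrr]
    exact fun h => hrH.2.1 (mem_of_dvd_card_piCoreOf (sigma H) H hrr h)
  obtain ⟨E, hE, hYE⟩ := Helper20.bg13_exists_compl_ge hG hU hH
    (sup_le ((zpowers_le).mpr hxH) hDH) hYcop
  have hxE : x ∈ E := hYE ((le_sup_left : zpowers x ≤ zpowers x ⊔ D) (mem_zpowers x))
  have hDE : D ≤ E := le_sup_right.trans hYE
  obtain ⟨A, hAE, hA, hAc⟩ := Helper4.bg127_exists_in_compl hE hrH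
  obtain ⟨⟨hEA, hXA⟩, -, -⟩ :=
    Cfsg.Agent.S1418.result hG H hH E hE r hrH A ⟨hAE, hA, hAc⟩
  have hxA : x ∈ A := hXA (zpowers x) ((zpowers_le).mpr hxE) hxcard (mem_zpowers x)
  have hAD : A ⊓ D = ⊥ := by
    apply Helper68.bg123_inf_eq_bot
    rw [hAc]
    exact Nat.Coprime.pow_left 2 hrD
  intro d hd
  apply Helper68.bg123_comm_of_eq_one
  have h1 : x * d * x⁻¹ * d⁻¹ ∈ D :=
    D.mul_mem ((mem_normalizer_iff.mp hxD d).mp hd) (D.inv_mem hd)
  have h2 : x * d * x⁻¹ * d⁻¹ ∈ A := by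
    have h : d * x⁻¹ * d⁻¹ ∈ A := (mem_normalizer_iff.mp (hEA (hDE hd)) x⁻¹).mp (A.inv_mem hxA)
    have e : x * d * x⁻¹ * d⁻¹ = x * (d * x⁻¹ * d⁻¹) := by group
    rw [e]; exact A.mul_mem hxA h
  have h3 : x * d * x⁻¹ * d⁻¹ ∈ A ⊓ D := ⟨h2, h1⟩
  rw [hAD] at h3
  exact Subgroup.mem_bot.mp h3

/-- **(A1)**: an element `x` of prime order `r ∉ σ(M)` of `H`, `r ∉ τ₁(H)`, centralizes every
subgroup of `M_σ ∩ H` which it normalizes (`M`, `H` non-conjugate maximal subgroups). -/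
theorem bg13_cent_of_not_tau1 (hG : IsMinSimpleOddOrder G) {M H : Subgroup G} (hM : IsCoatom M)
    (hH : IsCoatom H) (hnc : ∀ g : G, H ≠ M.map (MulAut.conj g).toMonoidHom) {r : ℕ}
    [Fact r.Prime] (hrM : r ∉ sigma M) (hrH : r ∉ tau1 H) {x : G} (hxH : x ∈ H)
    (hxr : x ^ r = 1) {D : Subgroup G} (hDM : D ≤ sigmaCore M) (hDH : D ≤ H)
    (hxD : x ∈ normalizer (D : Set G)) : ∀ d ∈ D, x * d = d * x := by
  have hrr : r.Prime := Fact.out
  have hU : BGUniq G := fun K hK h1 h2 => Cfsg.Agent.S1403.result hG K hK h1 h2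
  by_cases hx1 : x = 1
  · intro d _; rw [hx1]; simp
  have hβ : Helper68.BGSigmaCompl G := fun M hM q hq hqM hqβ =>
    ((Cfsg.Agent.S1414.result hG M hM).2.2.2.2 q hq hqM hqβ).2.1
  have hZr : IsPGroup r (zpowers x) := bg11_isPGroup_of_elemAb (bg11_zpowers_elemAb hxr)
  have hrdvd : r ∣ Nat.card H := by
    have h1 : orderOf x = r := orderOf_eq_prime hxr hx1
    rw [← h1]
    exact Subgroup.orderOf_dvd_natCard H hxH
  by_cases hσ : r ∈ sigma H
  · intro d hd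
    exact Helper54.bg13_prime_action_sigma hG hU hβ hM hH hrM hσ hZr ((zpowers_le).mpr hxH)
      hDM hDH ((zpowers_le).mpr hxD) d hd x (mem_zpowers x)
  by_cases hr1 : PRankLE r 1 ↥H
  · have hd' : r ∣ Nat.card ↥⁅H, H⁆ := by
      by_contra h
      exact hrH ⟨hrr, hσ, hrdvd, h, hr1⟩
    have hτ3 : r ∈ tau3 H := ⟨hrr, hσ, hd', hr1⟩
    have hxc : x ∈ ⁅H, H⁆ :=
      bg13_tau3_mem_commutator hG hH hτ3 hxH (k := 1) (by rw [pow_one]; exact hxr)
    intro d hd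
    exact bg13_factF hG hM hH hnc hrM hZr ((zpowers_le).mpr hxc) hDM hDH
      ((zpowers_le).mpr hxD) d hd x (mem_zpowers x)
  · have hτ2 : r ∈ tau2 H := ⟨hrr, hσ, bg10_pRank_of_not_alpha H r hrr
      (fun h => hσ (bg10_alpha_sub_sigma hG hU hH h)), hr1⟩
    exact bg13_lemmaX hG hM hH hnc hrM hτ2 hxH hxr hDM hDH hxD

end Cfsg.Agent.Helper24
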