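/-
helper24: pieces A1 (`bg13_r_tau1`) of CALL S1428 (helper2), B&G Theorem 13.4,
plus the non-conjugacy / type lemma `bg13_nc_over` used by the blocks.
-/
import Cfsg.Agent.Helper2.BG13Defs
import Cfsg.Agent.Helper24.BG13A1
import Cfsg.Agent.Helper21.PRank
import Cfsg.Agent.Helper41.BG13P1
import Cfsg.Agent.S1409

set_option autoImplicit false

namespace Cfsg.Agent.Helper24

open Cfsg Subgroup Cfsg.Agent.Helper2 Cfsg.Agent.Helper22 Cfsg.Agent.Helper23 Cfsg.Agent.Helper35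
open scoped Pointwise

universe u

variable {G : Type u} [Group G] [Finite G]

/-- A maximal subgroup `H` over `N_G(P)`, `P ≤ M` of order `p ∈ τ₁(M)`, is not conjugate to `M`,
and `p ∈ σ(H) ∪ τ₂(H)`. -/
theorem bg13_nc_over (hG : IsMinSimpleOddOrder G) {M P H : Subgroup G} {p : ℕ} (_hM : IsCoatom M)
    (hp : p ∈ tau1 M) (hP : Nat.card P = p) (hH : IsCoatom H)
    (hNP : normalizer (P : Set G) ≤ H) :
    (∀ g : G, H ≠ M.map (MulAut.conj g).toMonoidHom) ∧ (p ∈ sigma H ∨ p ∈ tau2 H) := by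
  have hpp : p.Prime := hp.1
  have : Fact p.Prime := ⟨hpp⟩
  have key : p ∈ sigma H ∨ p ∈ tau2 H := by
    by_cases hσ : p ∈ sigma H
    · exact Or.inl hσ
    · right
      obtain ⟨⟨h2, h1⟩, -, -⟩ := Cfsg.Agent.S1409.result hG H hH p hσ P hP hNP
      exact ⟨hpp, hσ, h2, h1⟩
  refine ⟨?_, key⟩
  intro g hg
  rcases key with hσ | hτ
  · apply hp.2.1
    have h1 := Helper41.bg13_sigma_conj (M := H) hσ g⁻¹
    have e : MulAut.conj g⁻¹ • H = M := by
      rw [hg]
      ext x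
      rw [mem_conj_smul, Subgroup.mem_map]
      constructor
      · rintro ⟨m, hm, hmx⟩
        have h2 : g * m * g⁻¹ = g⁻¹⁻¹ * x * g⁻¹ := hmx
        have h3 : m = x := by
          rw [inv_inv] at h2
          exact mul_left_cancel (mul_right_cancel h2)
        rw [← h3]; exact hm
      · intro hx
        refine ⟨x, hx, ?_⟩
        show g * x * g⁻¹ = g⁻¹⁻¹ * x * g⁻¹
        rw [inv_inv]
    rwa [e] at h1
  · apply hτ.2.2.2
    rw [hg]
    exact Helper21.pRankLE_of_injective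
      (M.equivMapOfInjective (MulAut.conj g).toMonoidHom (MulAut.conj g).injective).symm.toMonoidHom
      (M.equivMapOfInjective (MulAut.conj g).toMonoidHom
        (MulAut.conj g).injective).symm.injective hp.2.2.2.2

/-- **BLOCK A1** of CALL S1428: `r ∈ τ₁(H)`. -/
theorem bg13_r_tau1 (hG : IsMinSimpleOddOrder G) {M E P R H Q : Subgroup G} {p r q : ℕ}
    (c : T1Ctx M E P R H Q p r q) : r ∈ tau1 H := by
  by_contra hrH
  have hU : BGUniq G := fun K hK h1 h2 => Cfsg.Agent.S1403.result hG K hK h1 h2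
  have : Fact r.Prime := ⟨c.hr⟩
  obtain ⟨hnc, -⟩ := bg13_nc_over hG c.hM c.hp c.hP c.hH c.hNP
  have hrM : r ∉ sigma M := bg12_not_sigma_of_dvd hG hU c.hM c.hE c.hr
    (by rw [← c.hR]; exact Subgroup.card_dvd_of_le c.hRE)
  have hCN : centralizer (P : Set G) ≤ H := (centralizer_le_normalizer _).trans c.hNP
  have hQH : Q ≤ H := c.hQP.trans hCN
  have hRH : R ≤ H := c.hRP.trans hCN
  apply c.hQ1
  rw [eq_bot_iff, ← c.hCQ]
  refine le_inf le_rfl ?_
  intro d hd
  rw [mem_centralizer_iff]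
  intro x hx
  have hxr : x ^ r = 1 := by
    have h1 : (⟨x, hx⟩ : ↥R) ^ Nat.card ↥R = 1 := pow_card_eq_one'
    rw [c.hR] at h1
    simpa using congrArg Subtype.val h1
  exact bg13_cent_of_not_tau1 hG c.hM c.hH hnc hrM hrH (hRH hx) hxr c.hQM hQH (c.hRQ hx) d hd

end Cfsg.Agent.Helper24
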