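/-
helper24: BLOCK II (`bg13_p_sigma`) of CALL S1428 (helper2), B&G Theorem 13.4:
in the situation `T1Ctx` with `r ∈ τ₁(H)`, the prime `p` lies in `σ(H)`
(exclusion of `p ∈ τ₂(H)`, step (A2) of insight 3428, with helper22's shortcut: the case
distinction is made in a maximal subgroup `L` over `N_G(⟨x⟩)`, `x ∈ Q ∩ E_H'` of order `q`).
-/
import Cfsg.Agent.Helper24.BG13A1w
import Cfsg.Agent.Helper68.BG13CTX
import Cfsg.Agent.Helper72.BG12Cor
import Cfsg.Agent.Helper23.Uniq3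
import Cfsg.Agent.S1415
import Cfsg.Agent.S1416
import Cfsg.Agent.S1420
import Cfsg.Agent.S1424

set_option autoImplicit false

namespace Cfsg.Agent.Helper24

open Cfsg Subgroup Cfsg.Agent.Helper2 Cfsg.Agent.Helper22 Cfsg.Agent.Helper23 Cfsg.Agent.Helper35
open scoped Pointwise commutatorElement

universe u

variable {G : Type u} [Group G] [Finite G]

/-- A Sylow subgroup in the maximality sense is one in the cardinality sense. -/
theorem bg13ii_mem_sylowSet {p : ℕ} [Fact p.Prime] {S K : Subgroup G} (h : IsSylowOf p S K) :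
    S ∈ sylowSet p K := by
  obtain ⟨P, hP⟩ := h.exists_sylow
  have h1 := sylow_map_mem_sylowSet P
  rwa [hP, Subgroup.map_subgroupOf_eq_of_le h.1] at h1

/-- A `p`-group is its own Sylow `p`-subgroup. -/
theorem bg13ii_self_mem_sylowSet {p : ℕ} [Fact p.Prime] {S : Subgroup G} (hS : IsPGroup p S) :
    S ∈ sylowSet p S := by
  have hp : p.Prime := Fact.out
  refine ⟨le_rfl, ?_⟩
  obtain ⟨n, hn⟩ := IsPGroup.iff_card.mp hS
  rw [hn, Nat.Prime.factorization_pow hp, Finsupp.single_eq_same]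

/-- Conjugates of Sylow subgroups of `G` are Sylow subgroups of `G`. -/
theorem bg13ii_conj_isSylowOf_top {p : ℕ} [Fact p.Prime] {S : Subgroup G} (h : IsSylowOf p S ⊤)
    (g : G) : IsSylowOf p (MulAut.conj g • S) ⊤ := by
  have hp : p.Prime := Fact.out
  have h1 : MulAut.conj g • S ∈ sylowSet p (⊤ : Subgroup G) :=
    conj_mem_sylowSet (le_normalizer (Subgroup.mem_top g)) (bg13ii_mem_sylowSet h)
  exact bg10_isSylowOf_of_sylowSet le_rfl (by rw [Subgroup.relIndex_self]; exact hp.not_dvd_one) h1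

omit [Finite G] in
/-- An element commuting with `x` normalizes `⟨x⟩`. -/
theorem bg13ii_mem_normalizer_zpowers {a x : G} (h : a * x = x * a) :
    a ∈ normalizer ((zpowers x : Subgroup G) : Set G) := by
  apply centralizer_le_normalizer
  rw [mem_centralizer_iff]
  intro y hy
  obtain ⟨k, rfl⟩ := mem_zpowers_iff.mp hy
  exact (Commute.zpow_left (show Commute x a from h.symm) k).eq

/-- If a Sylow `q`-subgroup `S` of `G` with `N_G(S) ≤ M`, `q ∈ σ(M)`, lies in a complement `E₂`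
of `H_σ` in `H`, where `q ∉ σ(H)` divides `|H'|`, then `E₂ ≤ M`. -/
theorem bg13ii_compl_le (hG : IsMinSimpleOddOrder G) {M H E₂ S : Subgroup G} (hM : IsCoatom M)
    (hH : IsCoatom H) {q : ℕ} [Fact q.Prime] (hqM : q ∈ sigma M) (hqH : q ∉ sigma H)
    (hqd : q ∣ Nat.card ↥⁅H, H⁆) (hE₂ : IsComplIn E₂ (sigmaCore H) H)
    (hS : IsSylowOf q S ⊤) (hSE : S ≤ E₂) (hNS : normalizer (S : Set G) ≤ M) : E₂ ≤ M := by
  have hq : q.Prime := Fact.out
  have hU : BGUniq G := fun K hK h1 h2 => Cfsg.Agent.S1403.result hG K hK h1 h2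
  have hP4 : Helper72.B12P4 G := fun M hM p _ A hA => Cfsg.Agent.S1416.result hG M hM p A hA
  have hSM : S ≤ M := le_normalizer.trans hNS
  have hEn : E₂ ≤ normalizer ((⁅E₂, E₂⁆ : Subgroup G) : Set G) :=
    bg1217_normalizer_commutator le_normalizer le_normalizer
  by_cases hr1 : PRankLE q 1 ↥H
  · have hτ3 : q ∈ tau3 H := ⟨hq, hqH, hqd, hr1⟩
    have hidx := bg12_tau3_not_dvd_index hG hE₂ hτ3
    have hSE' : S ≤ ⁅E₂, E₂⁆ := by
      intro s hs
      obtain ⟨k, hk⟩ := hS.2.1 ⟨s, hs⟩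
      have hsk : s ^ q ^ k = 1 := by simpa using congrArg Subtype.val hk
      refine Helper68.bg123_mem_of_coprime (T := ⁅E₂, E₂⁆) (H := E₂) hEn (hSE hs) hsk ?_
      rw [← Subgroup.map_subtype_commutator, bg10_relIndex_map_subtype]
      apply Nat.Coprime.pow_left
      rw [Nat.Prime.coprime_iff_not_dvd hq]
      exact hidx
    have hnil : Group.IsNilpotent ↥⁅E₂, E₂⁆ := (Cfsg.Agent.S1415.result hG H hH E₂ hE₂).1
    have hS' : S ∈ sylowSet q ⁅E₂, E₂⁆ := bg13ii_mem_sylowSet (hS.of_le hSE' le_top)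
    exact (bg11_sylow_normal_of_nilpotent hEn hnil hS').trans hNS
  · have hτ2 : q ∈ tau2 H := ⟨hq, hqH, bg10_pRank_of_not_alpha H q hq
      (fun h => hqH (bg10_alpha_sub_sigma hG hU hH h)), hr1⟩
    obtain ⟨A, hAE, hA, hAc⟩ := Helper4.bg127_exists_in_compl hE₂ hτ2
    obtain ⟨⟨hEA, -⟩, -, -⟩ := Cfsg.Agent.S1418.result hG H hH E₂ hE₂ q hτ2 A ⟨hAE, hA, hAc⟩
    have hSE₂ : S ∈ sylowSet q E₂ := bg13ii_mem_sylowSet (hS.of_le hSE le_top)
    have hAS : A ≤ S :=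
      le_of_mem_sylowSet_of_le_normalizer hSE₂ hAE (bg11_isPGroup_of_elemAb hA) hEA
    have hAnc : ¬ IsCyclic ↥A := Helper23.not_isCyclic_of_card_gt hq hA.2 (by
      rw [hAc, sq]; nlinarith [hq.two_le])
    have hNA : normalizer (A : Set G) ≤ M :=
      Helper72.b12c_norm_noncyclic hG hU hP4 hM hqM (bg11_isPGroup_of_elemAb hA)
        (hAS.trans hSM) hAnc
    exact hEA.trans hNA

/-- **BLOCK II** of CALL S1428: `p ∈ σ(H)`. -/
theorem bg13_p_sigma (hG : IsMinSimpleOddOrder G) {M E P R H Q : Subgroup G} {p r q : ℕ}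
    (c : T1Ctx M E P R H Q p r q) (hrH : r ∈ tau1 H) : p ∈ sigma H := by
  by_contra hpσ
  have hU : BGUniq G := fun K hK h1 h2 => Cfsg.Agent.S1403.result hG K hK h1 h2
  have hP4 : Helper72.B12P4 G := fun M hM p _ A hA => Cfsg.Agent.S1416.result hG M hM p A hA
  have hM := c.hM
  have hH := c.hH
  have hpp : p.Prime := c.hp.1
  have hq : q.Prime := c.hq
  have hr : r.Prime := c.hr
  have : Fact p.Prime := ⟨hpp⟩
  have : Fact q.Prime := ⟨hq⟩
  have : Fact r.Prime := ⟨hr⟩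
  have hpow : ∀ s : ℕ, s.Prime → ¬ s ^ 2 ≤ s ^ 1 := fun s hs h => by
    rw [pow_one, sq] at h; nlinarith [hs.two_le]
  have hPM : P ≤ M := c.hPE.trans c.hE.1
  have hCN : centralizer (P : Set G) ≤ H := (centralizer_le_normalizer _).trans c.hNP
  have hQH : Q ≤ H := c.hQP.trans hCN
  have hRH : R ≤ H := c.hRP.trans hCN
  have hPH : P ≤ H := le_normalizer.trans c.hNP
  have hPp : IsPGroup p P := IsPGroup.of_card (n := 1) (by rw [c.hP, pow_one])
  have hσM : sigmaCore M ≤ M := piCoreOf_le (sigma M) M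
  obtain ⟨hnc, hor⟩ := bg13_nc_over hG hM c.hp c.hP hH c.hNP
  have hp2 : p ∈ tau2 H := hor.resolve_left hpσ
  have hpM1 : PRankLE p 1 ↥M := c.hp.2.2.2.2
  have hpσM : p ∉ sigma M := c.hp.2.1
  -- `H_σ` is nilpotent
  obtain ⟨A₁, hA₁H, hA₁, hA₁c⟩ := Helper72.b12c_exists_elemAb hp2
  obtain ⟨hnil, -⟩ := Cfsg.Agent.S1417.result hG H hH p hp2 A₁ ⟨hA₁H, hA₁, hA₁c⟩
  -- `q ∈ σ(M)`, `q ∉ σ(H)`
  obtain ⟨nQ, hnQ⟩ := IsPGroup.iff_card.mp c.hQq
  have hqQ : q ∣ Nat.card Q := by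
    rw [hnQ]
    apply dvd_pow_self
    rintro rfl
    rw [pow_zero] at hnQ
    exact c.hQ1 (Subgroup.card_eq_one.mp hnQ)
  have hqM : q ∈ sigma M :=
    mem_of_dvd_card_piCoreOf (sigma M) M hq (hqQ.trans (Subgroup.card_dvd_of_le c.hQM))
  have hqp : q ≠ p := fun h => hpσM (h ▸ hqM)
  have hqH : q ∉ sigma H := by
    intro h
    exact Helper49.bg1216_sigma_disjoint hG hU hM hH hnc hnil hq
      (hqQ.trans (Subgroup.card_dvd_of_le (bg12_le_sigmaCore hG hU hH hq h hQH c.hQq))) hqM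
  -- `P ⊔ (R ⊔ Q)` lies in a complement `E_H` of `H_σ`
  have hcopQ : (Nat.card Q).Coprime (Nat.card (sigmaCore H)) := by
    rw [hnQ]
    apply Nat.Coprime.pow_left
    rw [Nat.Prime.coprime_iff_not_dvd hq]
    exact fun h => hqH (mem_of_dvd_card_piCoreOf (sigma H) H hq h)
  have hcopR : (Nat.card R).Coprime (Nat.card (sigmaCore H)) := by
    rw [c.hR, Nat.Prime.coprime_iff_not_dvd hr]
    exact fun h => hrH.2.1 (mem_of_dvd_card_piCoreOf (sigma H) H hr h)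
  have hcopP : (Nat.card P).Coprime (Nat.card (sigmaCore H)) := by
    rw [c.hP, Nat.Prime.coprime_iff_not_dvd hpp]
    exact fun h => hpσ (mem_of_dvd_card_piCoreOf (sigma H) H hpp h)
  have hPn : P ≤ normalizer ((R ⊔ Q : Subgroup G) : Set G) := by
    have h1 : R ⊔ Q ≤ centralizer (P : Set G) := sup_le c.hRP c.hQP
    have h2 : P ≤ centralizer ((R ⊔ Q : Subgroup G) : Set G) := by
      intro y hy
      rw [mem_centralizer_iff]
      intro z hz
      exact (mem_centralizer_iff.mp (h1 hz) y hy).symm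
    exact h2.trans (centralizer_le_normalizer _)
  have hYcop : (Nat.card ↥(P ⊔ (R ⊔ Q))).Coprime (Nat.card (sigmaCore H)) := by
    refine Nat.Coprime.coprime_dvd_left
      (Cfsg.Agent.Helper22.card_sup_dvd_of_le_normalizer hPn) ?_
    refine Nat.Coprime.mul_left hcopP ?_
    refine Nat.Coprime.coprime_dvd_left
      (Cfsg.Agent.Helper22.card_sup_dvd_of_le_normalizer c.hRQ) ?_
    exact Nat.Coprime.mul_left hcopR hcopQ
  obtain ⟨EH, hEH, hYE⟩ := Helper20.bg13_exists_compl_ge hG hU hH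
    (sup_le hPH (sup_le hRH hQH)) hYcop
  have hRE : R ≤ EH := (le_sup_left.trans le_sup_right).trans hYE
  have hQE : Q ≤ EH := (le_sup_right.trans le_sup_right).trans hYE
  -- the `E_{p²}` of `E_H`, normal in `E_H`
  obtain ⟨A, hAE, hA, hAc⟩ := Helper4.bg127_exists_in_compl hEH hp2
  obtain ⟨⟨hEA, -⟩, -, -⟩ := Cfsg.Agent.S1418.result hG H hH EH hEH p hp2 A ⟨hAE, hA, hAc⟩
  -- `E_H'` is abelian
  obtain ⟨-, hEab, -, -⟩ := Cfsg.Agent.S1420.result hG H hH EH hEH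
  -- a non-trivial commutator `w = [z, y] ∈ Q ∩ E_H'`
  obtain ⟨y, hyQ, hy1⟩ : ∃ y : G, y ∈ Q ∧ y ≠ 1 := by
    by_contra hno
    push Not at hno
    exact c.hQ1 ((Subgroup.eq_bot_iff_forall _).mpr hno)
  obtain ⟨z, hzR, hzy⟩ : ∃ z ∈ R, z * y ≠ y * z := by
    by_contra hno
    push Not at hno
    have h1 : y ∈ Q ⊓ centralizer (R : Set G) :=
      Subgroup.mem_inf.mpr ⟨hyQ, mem_centralizer_iff.mpr (fun z hz => hno z hz)⟩
    rw [c.hCQ] at h1
    exact hy1 (Subgroup.mem_bot.mp h1)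
  obtain ⟨w, hwdef⟩ : ∃ w : G, w = z * y * z⁻¹ * y⁻¹ := ⟨_, rfl⟩
  have hw1 : w ≠ 1 := by
    intro h
    apply hzy
    rw [hwdef] at h
    exact mul_inv_eq_iff_eq_mul.mp (mul_inv_eq_one.mp h)
  have hwQ : w ∈ Q := by
    rw [hwdef]
    exact Q.mul_mem ((mem_normalizer_iff.mp (c.hRQ hzR) y).mp hyQ) (Q.inv_mem hyQ)
  have hwE' : w ∈ ⁅EH, EH⁆ := by
    rw [hwdef, ← commutatorElement_def]
    exact Subgroup.commutator_mem_commutator (hRE hzR) (hQE hyQ)
  -- an element `x` of order `q` in `⟨w⟩`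
  have hwq : q ∣ Nat.card (zpowers w) := by
    obtain ⟨n, hn⟩ := IsPGroup.iff_card.mp (c.hQq.to_le ((zpowers_le).mpr hwQ))
    rw [hn]
    apply dvd_pow_self
    rintro rfl
    rw [pow_zero] at hn
    exact hw1 (Subgroup.zpowers_eq_bot.mp (Subgroup.card_eq_one.mp hn))
  obtain ⟨x₀, hx₀⟩ := exists_prime_orderOf_dvd_card' (G := ↥(zpowers w)) q hwq
  obtain ⟨x, hxdef⟩ : ∃ x : G, x = (x₀ : G) := ⟨_, rfl⟩
  have hxo : orderOf x = q := by rw [hxdef, Subgroup.orderOf_coe]; exact hx₀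
  have hxw : x ∈ zpowers w := by rw [hxdef]; exact x₀.2
  have hxq : x ^ q = 1 := by rw [← hxo]; exact pow_orderOf_eq_one _
  have hx1 : x ≠ 1 := by
    intro h
    rw [h, orderOf_one] at hxo
    exact hq.one_lt.ne hxo
  have hxQ : x ∈ Q := (zpowers_le).mpr hwQ hxw
  have hxE' : x ∈ ⁅EH, EH⁆ := (zpowers_le).mpr hwE' hxw
  have hxM : x ∈ M := hσM (c.hQM hxQ)
  have hxE : x ∈ EH := hQE hxQ
  -- `x` centralizes `A`
  have hEn : EH ≤ normalizer ((⁅EH, EH⁆ : Subgroup G) : Set G) :=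
    bg1217_normalizer_commutator le_normalizer le_normalizer
  have hxA : ∀ a ∈ A, a * x = x * a := by
    intro a ha
    have haE : a ∈ EH := hAE ha
    have h1 : ⁅a, x⁆ ∈ A := by
      rw [commutatorElement_def]
      have h : x * a⁻¹ * x⁻¹ ∈ A := (mem_normalizer_iff.mp (hEA hxE) a⁻¹).mp (A.inv_mem ha)
      have e : a * x * a⁻¹ * x⁻¹ = a * (x * a⁻¹ * x⁻¹) := by group
      rw [e]
      exact A.mul_mem ha h
    have h2 : ⁅a, x⁆ ∈ ⁅EH, EH⁆ := by
      rw [commutatorElement_def]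
      have h : a * x * a⁻¹ ∈ ⁅EH, EH⁆ := (mem_normalizer_iff.mp (hEn haE) x).mp hxE'
      exact Subgroup.mul_mem _ h (Subgroup.inv_mem _ hxE')
    have h3 : ⁅a, x⁆ * x = x * ⁅a, x⁆ := by
      have h := hEab.is_comm.comm (⟨⁅a, x⁆, h2⟩ : ↥⁅EH, EH⁆) ⟨x, hxE'⟩
      exact congrArg Subtype.val h
    exact comm_of_commutator_comm a x q p ((Nat.coprime_primes hq hpp).mpr hqp) hxq
      (hA.2 _ h1) h3
  -- the maximal subgroup `L ≥ N(⟨x⟩)`
  have hXc : Nat.card (zpowers x) = q := by rw [Nat.card_zpowers]; exact hxo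
  obtain ⟨L, hL, hNX⟩ := Helper68.bg13_exists_over hG hq hXc
  have hAL : A ≤ L := fun a ha => hNX (bg13ii_mem_normalizer_zpowers (hxA a ha))
  have hPL : P ≤ L := fun y hy =>
    hNX (bg13ii_mem_normalizer_zpowers (mem_centralizer_iff.mp (c.hQP hxQ) y hy))
  have hp1L : ¬ PRankLE p 1 ↥L :=
    Helper21.not_pRankLE_of_elemAb hAL hA.1 hA.2 (by rw [hAc]; exact hpow p hpp)
  have hLM : L ≠ M := fun h => hp1L (h ▸ hpM1)
  -- S1424
  have hXq : IsPGroup q (zpowers x) := bg11_isPGroup_of_elemAb (bg11_zpowers_elemAb hxq)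
  have hX1 : zpowers x ≠ ⊥ := fun hb => hx1 (Subgroup.zpowers_eq_bot.mp hb)
  have hXML : zpowers x ≤ M ⊓ L :=
    (zpowers_le).mpr ⟨hxM, hNX (le_normalizer (mem_zpowers x))⟩
  obtain ⟨S, hSsyl, hXS⟩ := exists_isSylowOf_ge hXq hXML
  obtain ⟨S₀, hS₀⟩ := hSsyl.exists_sylow
  have hS₀map : (S₀ : Subgroup ↥(M ⊓ L)).map (M ⊓ L).subtype = S := by
    rw [hS₀, Subgroup.map_subgroupOf_eq_of_le hSsyl.1]
  obtain ⟨hncL, hNS, hidx⟩ := Cfsg.Agent.S1424.result hG M hM q hqM (zpowers x) hXq hX1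
    ((zpowers_le).mpr hxM) L hL hLM hNX S₀ (by rw [hS₀map]; exact hXS)
  rw [hS₀map] at hNS hidx
  have hSM : S ≤ M := hSsyl.1.trans inf_le_left
  have hSL : S ≤ L := hSsyl.1.trans inf_le_right
  have hSq : IsPGroup q S := hSsyl.2.1
  have hSσ : S ≤ sigmaCore M := bg12_le_sigmaCore hG hU hM hq hqM hSM hSq
  have hSLsyl : IsSylowOf q S L :=
    bg10_isSylowOf_of_sylowSet hSL hidx (bg13ii_self_mem_sylowSet hSq)
  -- an `E_{q²}` in `S` when `q ∈ τ₂(L)`
  have hAq : q ∈ tau2 L →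
      ∃ B : Subgroup G, B ≤ S ∧ IsElementaryAbelian q B ∧ Nat.card B = q ^ 2 := by
    intro hq2
    obtain ⟨B₀, hB₀L, hB₀, hB₀c⟩ := Helper72.b12c_exists_elemAb hq2
    obtain ⟨S', hS'syl, hB₀S'⟩ := exists_isSylowOf_ge (bg11_isPGroup_of_elemAb hB₀) hB₀L
    obtain ⟨h, -, hconj⟩ := bg10_sylow_conj hS'syl hSLsyl
    refine ⟨MulAut.conj h • B₀, ?_, Helper72.b12c_conj_elemAb hB₀ h, by
      rw [card_conj_smul, hB₀c]⟩
    rw [hconj]
    exact conj_smul_le_conj_smul hB₀S'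
  have hqtype := Helper68.bg13_type_over hG hL hq hXc hNX
  by_cases hpL : p ∈ sigma L
  · -- `p ∈ σ(L)`
    have hLH : L ≠ H := fun h => hpσ (h ▸ hpL)
    have hPLσ : P ≤ sigmaCore L := bg12_le_sigmaCore hG hU hL hpp hpL hPL hPp
    have hPL' : P ≤ ⁅L, L⁆ := hPLσ.trans (bg1217_sigmaCore_le_comm hG hU hL)
    have hPnD : P ≤ normalizer ((sigmaCore M ⊓ L : Subgroup G) : Set G) := by
      intro y hy
      have h1 : y ∈ normalizer ((sigmaCore M : Subgroup G) : Set G) :=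
        le_normalizer_piCoreOf (sigma M) M (hPM hy)
      have h2 : y ∈ L := hPL hy
      rw [mem_normalizer_iff]
      intro h
      constructor
      · rintro ⟨ha, hb⟩
        exact ⟨(mem_normalizer_iff.mp h1 h).mp ha, L.mul_mem (L.mul_mem h2 hb) (L.inv_mem h2)⟩
      · rintro ⟨ha, hb⟩
        refine ⟨(mem_normalizer_iff.mp h1 h).mpr ha, ?_⟩
        have e : h = y⁻¹ * (y * h * y⁻¹) * y := by group
        rw [e]
        exact L.mul_mem (L.mul_mem (L.inv_mem h2) hb) h2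
    have hFF := bg13_factF hG hM hL hncL hpσM hPp hPL' inf_le_left inf_le_right hPnD
    have hSH : S ≤ H := by
      intro s hs
      apply hCN
      rw [mem_centralizer_iff]
      intro y hy
      exact hFF s ⟨hSσ hs, hSL hs⟩ y hy
    rcases hqtype with hqL | hq2L
    · -- `S` is a Sylow `q`-subgroup of `G`
      obtain ⟨Q₀, hQ₀⟩ := sylowSet_nonempty (p := q) (sigmaCore L)
      obtain ⟨hQ₀top, hQ₀L, -⟩ := bg11_sigma_sylow hG hU hL hqL hQ₀
      obtain ⟨h, -, hconj⟩ := bg10_sylow_conj hQ₀L hSLsyl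
      have hStop : IsSylowOf q S ⊤ := by
        rw [hconj]
        exact bg13ii_conj_isSylowOf_top hQ₀top h
      have hcopS : (Nat.card S).Coprime (Nat.card (sigmaCore H)) := by
        obtain ⟨n, hn⟩ := IsPGroup.iff_card.mp hSq
        rw [hn]
        apply Nat.Coprime.pow_left
        rw [Nat.Prime.coprime_iff_not_dvd hq]
        exact fun h => hqH (mem_of_dvd_card_piCoreOf (sigma H) H hq h)
      obtain ⟨E₂, hE₂, hSE₂⟩ := Helper20.bg13_exists_compl_ge hG hU hH hSH hcopS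
      have hqd : q ∣ Nat.card ↥⁅H, H⁆ := by
        rw [← hxo]
        exact Subgroup.orderOf_dvd_natCard _ (Subgroup.commutator_mono hEH.1 hEH.1 hxE')
      have hE₂M : E₂ ≤ M := bg13ii_compl_le hG hM hH hqM hqH hqd hE₂ hStop hSE₂ hNS
      obtain ⟨B, hBE, hB, hBc⟩ := Helper4.bg127_exists_in_compl hE₂ hp2
      exact Helper21.not_pRankLE_of_elemAb (hBE.trans hE₂M) hB.1 hB.2
        (by rw [hBc]; exact hpow p hpp) hpM1
    · obtain ⟨B, hBS, hB, hBc⟩ := hAq hq2L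
      obtain ⟨-, -, -, -, hTI, -⟩ :=
        Cfsg.Agent.S1417.result hG L hL q hq2L B ⟨hBS.trans hSL, hB, hBc⟩
      have h0 := hTI H hH (fun h => hLH h.symm) (hBS.trans hSH)
      have h1 : P ≤ sigmaCore L ⊓ H := le_inf hPLσ hPH
      rw [h0] at h1
      have h2 : Nat.card P = 1 := by rw [le_bot_iff.mp h1, Subgroup.card_bot]
      rw [c.hP] at h2
      exact hpp.one_lt.ne' h2
  · -- `p ∈ τ₂(L)`
    have hp2L : p ∈ tau2 L := ⟨hpp, hpL, bg10_pRank_of_not_alpha L p hpp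
      (fun h => hpL (bg10_alpha_sub_sigma hG hU hL h)), hp1L⟩
    obtain ⟨A₂, hA₂L, hA₂, hA₂c⟩ := Helper72.b12c_exists_elemAb hp2L
    obtain ⟨hnilL, -⟩ := Cfsg.Agent.S1417.result hG L hL p hp2L A₂ ⟨hA₂L, hA₂, hA₂c⟩
    have hqL : q ∉ sigma L := by
      intro h
      have hXσ : zpowers x ≤ sigmaCore L :=
        bg12_le_sigmaCore hG hU hL hq h (hXML.trans inf_le_right) hXq
      have hqd : q ∣ Nat.card (sigmaCore L) := by
        rw [← hXc]
        exact Subgroup.card_dvd_of_le hXσ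
      exact Helper49.bg1216_sigma_disjoint hG hU hM hL hncL hnilL hq hqd hqM
    have hq2L : q ∈ tau2 L := hqtype.resolve_left hqL
    obtain ⟨B, hBS, hB, hBc⟩ := hAq hq2L
    have hcopB : (Nat.card B).Coprime (Nat.card (sigmaCore L)) := by
      rw [hBc]
      apply Nat.Coprime.pow_left
      rw [Nat.Prime.coprime_iff_not_dvd hq]
      exact fun h => hqL (mem_of_dvd_card_piCoreOf (sigma L) L hq h)
    obtain ⟨EL, hEL, hBEL⟩ := Helper20.bg13_exists_compl_ge hG hU hL (hBS.trans hSL) hcopB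
    obtain ⟨⟨hELB, -⟩, -, -⟩ :=
      Cfsg.Agent.S1418.result hG L hL EL hEL q hq2L B ⟨hBEL, hB, hBc⟩
    have hBnc : ¬ IsCyclic ↥B := Helper23.not_isCyclic_of_card_gt hq hB.2 (by
      rw [hBc, sq]; nlinarith [hq.two_le])
    have hNB : normalizer (B : Set G) ≤ M :=
      Helper72.b12c_norm_noncyclic hG hU hP4 hM hqM (bg11_isPGroup_of_elemAb hB)
        (hBS.trans hSM) hBnc
    have hELM : EL ≤ M := hELB.trans hNB
    obtain ⟨B₂, hB₂E, hB₂, hB₂c⟩ := Helper4.bg127_exists_in_compl hEL hp2L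
    exact Helper21.not_pRankLE_of_elemAb (hB₂E.trans hELM) hB₂.1 hB₂.2
      (by rw [hB₂c]; exact hpow p hpp) hpM1

end Cfsg.Agent.Helper24
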