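/-
helper24: piece B1 (`bg14_compl_of_norm`) of CALL S1352 (helper22), B&G Lemma 14.2.
-/
import Cfsg.Agent.Helper24.BG13II
import Cfsg.Agent.Helper72.BG12Cor2
import Cfsg.Agent.Helper49.OddCyclic
import Cfsg.Agent.Helper20.BG13P4
import Cfsg.Agent.S1417
import Cfsg.Agent.S1418

set_option autoImplicit false

namespace Cfsg.Agent.Helper24

open Cfsg Subgroup Cfsg.Agent.Helper22 Cfsg.Agent.Helper23 Cfsg.Agent.Helper35
open scoped Pointwise commutatorElement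

universe u

variable {G : Type u} [Group G] [Finite G]

/-- **PIECE B1** (12.15 + S1417 + S1418): `u ∈ σ(M) \ σ(L)`, `X ≤ M` a nontrivial `u`-subgroup
with `N_G(X) ≤ L ≠ M`: then `M ∩ L` is a complement of `L_σ` in `L`. -/
theorem bg14_compl_of_norm (hG : IsMinSimpleOddOrder G) {M L X : Subgroup G} (hM : IsCoatom M)
    (hL : IsCoatom L) (hLM : L ≠ M) {u : ℕ} [Fact u.Prime] (hu : u ∈ sigma M) (huL : u ∉ sigma L)
    (hXM : X ≤ M) (hXu : IsPGroup u X) (hX1 : X ≠ ⊥) (hNX : normalizer (X : Set G) ≤ L) :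
    IsComplIn (M ⊓ L) (sigmaCore L) L := by
  have hup : u.Prime := Fact.out
  have hU : BGUniq G := fun K hK h1 h2 => Cfsg.Agent.S1403.result hG K hK h1 h2
  have hP4 : Helper72.B12P4 G := fun M hM p _ A hA => Cfsg.Agent.S1416.result hG M hM p A hA
  have hXML : X ≤ M ⊓ L := le_inf hXM (le_normalizer.trans hNX)
  obtain ⟨S, hSsyl, hXS⟩ := exists_isSylowOf_ge hXu hXML
  obtain ⟨S₀, hS₀⟩ := hSsyl.exists_sylow
  have hS₀map : (S₀ : Subgroup ↥(M ⊓ L)).map (M ⊓ L).subtype = S := by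
    rw [hS₀, Subgroup.map_subgroupOf_eq_of_le hSsyl.1]
  obtain ⟨-, hNS, hidx⟩ := Cfsg.Agent.S1424.result hG M hM u hu X hXu hX1 hXM L hL hLM hNX S₀
    (by rw [hS₀map]; exact hXS)
  rw [hS₀map] at hNS hidx
  have hSM : S ≤ M := hSsyl.1.trans inf_le_left
  have hSL : S ≤ L := hSsyl.1.trans inf_le_right
  have hSu : IsPGroup u S := hSsyl.2.1
  have hSLsyl : IsSylowOf u S L :=
    bg10_isSylowOf_of_sylowSet hSL hidx (bg13ii_self_mem_sylowSet hSu)
  have hS1 : S ≠ ⊥ := fun h => hX1 (le_bot_iff.mp (h ▸ hXS))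
  -- `S` is not cyclic
  have hSnc : ¬ IsCyclic ↥S := by
    intro hc
    exact huL (bg12_mem_sigma hSLsyl hS1
      ((Helper72.b12c_normalizer_cyclic_le hc hXS).trans hNX))
  have hodd : u ≠ 2 := by
    intro h2
    have h3 : u ∣ Nat.card S := bg11_dvd_card_of_isPGroup hSu hS1
    rw [h2] at h3
    exact (Nat.not_even_iff_odd.mpr (uq_odd hG S)) (even_iff_two_dvd.mpr h3)
  have hr1 : ¬ PRankLE u 1 ↥L := by
    intro h
    exact hSnc (Helper49.isCyclic_of_pRankLE_one hodd hSu (pRankLE_of_le hSL h))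
  have hτ2 : u ∈ tau2 L := ⟨hup, huL, bg10_pRank_of_not_alpha L u hup
    (fun h => huL (bg10_alpha_sub_sigma hG hU hL h)), hr1⟩
  -- an `E_{u²}` inside `S`
  obtain ⟨B₀, hB₀L, hB₀, hB₀c⟩ := Helper72.b12c_exists_elemAb hτ2
  obtain ⟨S', hS'syl, hB₀S'⟩ := exists_isSylowOf_ge (bg11_isPGroup_of_elemAb hB₀) hB₀L
  obtain ⟨h, -, hconj⟩ := bg10_sylow_conj hS'syl hSLsyl
  obtain ⟨A, hAdef⟩ : ∃ A : Subgroup G, A = MulAut.conj h • B₀ := ⟨_, rfl⟩
  have hAS : A ≤ S := by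
    rw [hAdef, hconj]
    exact conj_smul_le_conj_smul hB₀S'
  have hA : IsElementaryAbelian u A := by
    rw [hAdef]
    exact Helper72.b12c_conj_elemAb hB₀ h
  have hAc : Nat.card A = u ^ 2 := by rw [hAdef, card_conj_smul, hB₀c]
  obtain ⟨-, -, -, -, hTI, -⟩ :=
    Cfsg.Agent.S1417.result hG L hL u hτ2 A ⟨hAS.trans hSL, hA, hAc⟩
  have h0 : sigmaCore L ⊓ M = ⊥ := hTI M hM (fun h => hLM h.symm) (hAS.trans hSM)
  have hcopA : (Nat.card A).Coprime (Nat.card (sigmaCore L)) := by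
    rw [hAc]
    apply Nat.Coprime.pow_left
    rw [Nat.Prime.coprime_iff_not_dvd hup]
    exact fun h => huL (mem_of_dvd_card_piCoreOf (sigma L) L hup h)
  obtain ⟨EL, hEL, hAEL⟩ := Helper20.bg13_exists_compl_ge hG hU hL (hAS.trans hSL) hcopA
  obtain ⟨⟨hELA, -⟩, -, -⟩ :=
    Cfsg.Agent.S1418.result hG L hL EL hEL u hτ2 A ⟨hAEL, hA, hAc⟩
  have hAnc : ¬ IsCyclic ↥A := Helper23.not_isCyclic_of_card_gt hup hA.2 (by
    rw [hAc, sq]; nlinarith [hup.two_le])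
  have hNA : normalizer (A : Set G) ≤ M :=
    Helper72.b12c_norm_noncyclic hG hU hP4 hM hu (bg11_isPGroup_of_elemAb hA)
      (hAS.trans hSM) hAnc
  have hELM : EL ≤ M := hELA.trans hNA
  refine ⟨inf_le_right, piCoreOf_le _ _, ?_, ?_⟩
  · rw [eq_bot_iff, ← h0]
    exact le_inf inf_le_right (inf_le_left.trans inf_le_left)
  · intro m hm
    obtain ⟨a, ha, b, hb, hab⟩ := hEL.2.2.2 m hm
    exact ⟨a, ⟨hELM ha, hEL.1 ha⟩, b, hb, hab⟩

end Cfsg.Agent.Helper24
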