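/-
helper24: blocks for S1428 (Bender–Glauberman Theorem 13.4), after helper2's paper proof.
`bg13_tau2_of_cent` is step (A3)(1): an element of order `q ∈ τ₂(H)` of `M_σ ∩ H` cannot
centralize a non-identity element of `H_σ ∩ M` unless `H = M`.
-/
import Cfsg.Agent.Helper24.BG13A1
import Cfsg.Agent.Helper72.BG12Cor
import Cfsg.Agent.S1404
import Cfsg.Agent.S1416
import Cfsg.Agent.S1425

set_option autoImplicit false

namespace Cfsg.Agent.Helper24

open Cfsg Subgroup Cfsg.Agent.Helper22 Cfsg.Agent.Helper23 Cfsg.Agent.Helper35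
open scoped Pointwise

universe u

variable {G : Type u} [Group G] [Finite G]

/-- **(A3)(1)**: if `x ∈ M_σ ∩ H` has prime order `q ∈ τ₂(H)` and centralizes a non-identity
element `y` of `H_σ ∩ M`, then `H = M`. -/
theorem bg13_tau2_of_cent (hG : IsMinSimpleOddOrder G) {M H : Subgroup G} (hM : IsCoatom M)
    (hH : IsCoatom H) {q : ℕ} [Fact q.Prime] (hq : q ∈ tau2 H) {x : G}
    (hxM : x ∈ sigmaCore M) (hxH : x ∈ H) (hxq : x ^ q = 1) (hx1 : x ≠ 1) {y : G}
    (hyH : y ∈ sigmaCore H) (hy1 : y ≠ 1) (hyM : y ∈ M) (hxy : x * y = y * x) : H = M := by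
  by_contra hne
  have hqq : q.Prime := Fact.out
  have hU : BGUniq G := fun K hK h1 h2 => Cfsg.Agent.S1403.result hG K hK h1 h2
  have hT5 : Helper72.B12T5 G := fun M hM p _ hp A hA =>
    Cfsg.Agent.S1417.result hG M hM p hp A hA
  have hord : orderOf x = q := orderOf_eq_prime hxq hx1
  -- `C_G(x) ≤ H`
  obtain ⟨hCx, -⟩ := Helper72.b12c_cent_uniq hG hU hT5 hH hxH hx1
    (fun p hp hpd => by
      rw [hord] at hpd
      rw [(Nat.prime_dvd_prime_iff_eq hp hqq).mp hpd]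
      exact hq)
    ⟨hxH, y, hyH, hy1, hxy⟩
  -- `x` lies in an elementary abelian subgroup `A` of order `q ^ 2` of `H`
  obtain ⟨A₀, hA₀H, hA₀, hA₀c⟩ := Helper72.b12c_exists_elemAb hq
  have hZq : IsPGroup q (zpowers x) := bg11_isPGroup_of_elemAb (bg11_zpowers_elemAb hxq)
  obtain ⟨S, hSsyl, hxS⟩ := exists_isSylowOf_ge hZq ((zpowers_le).mpr hxH)
  obtain ⟨S', hS'syl, hA₀S'⟩ := exists_isSylowOf_ge (bg11_isPGroup_of_elemAb hA₀) hA₀H
  obtain ⟨h, -, hconj⟩ := bg10_sylow_conj hS'syl hSsyl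
  obtain ⟨A, hAdef⟩ : ∃ A : Subgroup G, A = MulAut.conj h • A₀ := ⟨_, rfl⟩
  have hA : IsElementaryAbelian q A := by rw [hAdef]; exact Helper72.b12c_conj_elemAb hA₀ h
  have hAc : Nat.card A = q ^ 2 := by rw [hAdef, card_conj_smul, hA₀c]
  have hAS : A ≤ S := by rw [hAdef, hconj]; exact conj_smul_le_conj_smul hA₀S'
  have hAH : A ≤ H := hAS.trans hSsyl.1
  obtain ⟨-, hP, -⟩ := Cfsg.Agent.S1417.result hG H hH q hq A ⟨hAH, hA, hAc⟩
  obtain ⟨P, hPeq⟩ := hSsyl.exists_sylow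
  have hPmap : (P : Subgroup ↥H).map H.subtype = S := by
    rw [hPeq, Subgroup.map_subgroupOf_eq_of_le hSsyl.1]
  have hxA : x ∈ A := by
    have h1 := ((hP P).2 (by rw [hPmap]; exact hAS)).1 x
      (by rw [hPmap]; exact hxS (mem_zpowers x))
    exact h1.mp hxq
  have hA1 : A ≠ ⊥ := fun hb => hx1 (by rw [hb] at hxA; exact Subgroup.mem_bot.mp hxA)
  have hqσM : q ∈ sigma M := by
    apply mem_of_dvd_card_piCoreOf (sigma M) M hqq
    rw [← hord]
    exact Subgroup.orderOf_dvd_natCard _ hxM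
  -- conjugate `A` into `M_σ`
  obtain ⟨g, hg⟩ := Cfsg.Agent.S1425.result hG M hM A hA1 (fun p hp hpd => by
    rw [hAc] at hpd
    rw [(Nat.prime_dvd_prime_iff_eq hp hqq).mp (hp.dvd_of_dvd_pow hpd)]
    exact hqσM)
  have hσM : sigmaCore M ≤ M := piCoreOf_le (sigma M) M
  have hxMM : x ∈ M := hσM hxM
  have hZ1 : zpowers x ≠ ⊥ := fun hb => hx1 (by
    have := mem_zpowers x
    rw [hb] at this
    exact Subgroup.mem_bot.mp this)
  obtain ⟨hfus, -⟩ := Cfsg.Agent.S1404.result hG M hM q hqσM (zpowers x) hZq hZ1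
    ((zpowers_le).mpr hxMM)
  obtain ⟨m, hm, c, hc, hgmc⟩ := hfus g
    ((Subgroup.map_mono ((zpowers_le).mpr hxA)).trans (hg.trans hσM))
  have hcH : c ∈ H := by
    apply hCx
    rw [mem_centralizer_iff]
    intro z hz
    rw [Set.mem_singleton_iff] at hz
    subst hz
    exact mem_centralizer_iff.mp hc z (mem_zpowers z)
  have hA'M : MulAut.conj c • A ≤ M := by
    intro z hz
    rw [mem_conj_smul] at hz
    have h1 : g * (c⁻¹ * z * c) * g⁻¹ ∈ M := hσM (hg ⟨_, hz, rfl⟩)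
    rw [hgmc] at h1
    have e : z = m⁻¹ * (m * c * (c⁻¹ * z * c) * (m * c)⁻¹) * m := by group
    rw [e]
    exact M.mul_mem (M.mul_mem (M.inv_mem hm) h1) hm
  have hA'H : MulAut.conj c • A ≤ H := by
    intro z hz
    rw [mem_conj_smul] at hz
    have e : z = c * (c⁻¹ * z * c) * c⁻¹ := by group
    rw [e]
    exact H.mul_mem (H.mul_mem hcH (hAH hz)) (H.inv_mem hcH)
  have hA' : IsElementaryAbelian q (MulAut.conj c • A) := Helper72.b12c_conj_elemAb hA c
  have hA'c : Nat.card (MulAut.conj c • A : Subgroup G) = q ^ 2 := by rw [card_conj_smul, hAc]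
  obtain ⟨-, -, -, -, hTI, -⟩ :=
    Cfsg.Agent.S1417.result hG H hH q hq (MulAut.conj c • A) ⟨hA'H, hA', hA'c⟩
  have h0 := hTI M hM (fun h => hne h.symm) hA'M
  have h1 : y ∈ sigmaCore H ⊓ M := ⟨hyH, hyM⟩
  rw [h0] at h1
  exact hy1 (Subgroup.mem_bot.mp h1)

end Cfsg.Agent.Helper24
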