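/-
helper24: piece NB1 (`bg13_no_tau2`) of CALL S1428 (helper2), B&G Theorem 13.4:
no prime of `C_{M_σ}(P)` is in `τ₂(H)` when `p ∈ σ(H)`.
-/
import Cfsg.Agent.Helper24.BG13A1w
import Cfsg.Agent.Helper24.BG13A3

set_option autoImplicit false

namespace Cfsg.Agent.Helper24

open Cfsg Subgroup Cfsg.Agent.Helper2 Cfsg.Agent.Helper22 Cfsg.Agent.Helper23 Cfsg.Agent.Helper35
open scoped Pointwise

universe u

variable {G : Type u} [Group G] [Finite G]

/-- **PIECE NB1** (step (1) of (A3)): no prime of `C_{M_σ}(P)` is in `τ₂(H)` when `p ∈ σ(H)`. -/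
theorem bg13_no_tau2 (hG : IsMinSimpleOddOrder G) {M P H : Subgroup G} {p : ℕ} (hM : IsCoatom M)
    (hp : p ∈ tau1 M) (hPM : P ≤ M) (hP : Nat.card P = p) (hH : IsCoatom H)
    (hNP : normalizer (P : Set G) ≤ H) (hpσ : p ∈ sigma H) {q : ℕ} (hq : q.Prime)
    (hqK : q ∣ Nat.card ↥(sigmaCore M ⊓ centralizer (P : Set G))) : q ∉ tau2 H := by
  intro hq2
  have hU : BGUniq G := fun K hK h1 h2 => Cfsg.Agent.S1403.result hG K hK h1 h2
  have hpp : p.Prime := hp.1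
  have : Fact q.Prime := ⟨hq⟩
  have : Fact p.Prime := ⟨hpp⟩
  obtain ⟨x₀, hx₀⟩ := exists_prime_orderOf_dvd_card' (G := ↥(sigmaCore M ⊓ centralizer (P : Set G)))
    q hqK
  have hxo : orderOf (x₀ : G) = q := by rw [Subgroup.orderOf_coe]; exact hx₀
  have hxq : (x₀ : G) ^ q = 1 := by rw [← hxo]; exact pow_orderOf_eq_one _
  have hx1 : (x₀ : G) ≠ 1 := by
    intro h
    rw [h, orderOf_one] at hxo
    exact hq.one_lt.ne hxo
  have hxM : (x₀ : G) ∈ sigmaCore M := x₀.2.1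
  have hxC : (x₀ : G) ∈ centralizer (P : Set G) := x₀.2.2
  have hxH : (x₀ : G) ∈ H := hNP (centralizer_le_normalizer _ hxC)
  -- a generator of `P`
  have hP1 : P ≠ ⊥ := by
    intro h
    rw [h, Subgroup.card_bot] at hP
    exact hpp.one_lt.ne hP
  obtain ⟨y, hyP, hy1⟩ := (Subgroup.ne_bot_iff_exists_ne_one.mp hP1 |>.imp fun y hy => hy) |> fun
    ⟨y, hy⟩ => (⟨(y : G), y.2, fun h => hy (Subtype.ext h)⟩ : ∃ y : G, y ∈ P ∧ y ≠ 1)
  have hPH : P ≤ H := le_normalizer.trans hNP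
  have hPp : IsPGroup p P := IsPGroup.of_card (n := 1) (by rw [hP, pow_one])
  have hyH : y ∈ sigmaCore H := bg12_le_sigmaCore hG hU hH hpp hpσ hPH hPp hyP
  have hxy : (x₀ : G) * y = y * (x₀ : G) := by
    have := mem_centralizer_iff.mp hxC y hyP
    exact this.symm
  have hHM : H = M := bg13_tau2_of_cent hG hM hH hq2 hxM hxH hxq hx1 hyH hy1 (hPM hyP) hxy
  exact hp.2.1 (hHM ▸ hpσ)

end Cfsg.Agent.Helper24
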