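/-
helper24: piece CX (`bg14_cent_elemAb`) of CALL S1352 (helper22), B&G Lemma 14.2.
-/
import Cfsg.Agent.Helper24.BG13II

set_option autoImplicit false

namespace Cfsg.Agent.Helper24

open Cfsg Subgroup Cfsg.Agent.Helper22 Cfsg.Agent.Helper23 Cfsg.Agent.Helper35
open scoped Pointwise commutatorElement

universe u

variable {G : Type u} [Group G] [Finite G]

/-- **PIECE CX** (S1418 + 12.1): in a complement `E` of `H_σ`, an element of prime order `u ≠ q`
with `u ∣ |H'|` centralizes an elementary abelian subgroup of order `q²`, `q ∈ τ₂(H)`. -/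
theorem bg14_cent_elemAb (hG : IsMinSimpleOddOrder G) {H E A : Subgroup G} (hH : IsCoatom H)
    (hE : IsComplIn E (sigmaCore H) H) {q u : ℕ} [Fact q.Prime] [Fact u.Prime] (hq2 : q ∈ tau2 H)
    (hAE : A ≤ E) (hA : IsElementaryAbelian q A) (hAc : Nat.card A = q ^ 2) (huq : u ≠ q)
    (hud : u ∣ Nat.card ↥⁅H, H⁆) {x : G} (hxE : x ∈ E) (hxu : x ^ u = 1) :
    ∀ a ∈ A, a * x = x * a := by
  have hq : q.Prime := Fact.out
  have hu : u.Prime := Fact.out
  have hU : BGUniq G := fun K hK h1 h2 => Cfsg.Agent.S1403.result hG K hK h1 h2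
  by_cases hx1 : x = 1
  · intro a _; rw [hx1]; simp
  have hxo : orderOf x = u := orderOf_eq_prime hxu hx1
  have huσ : u ∉ sigma H := bg12_not_sigma_of_dvd hG hU hH hE hu (by
    rw [← hxo]
    exact Subgroup.orderOf_dvd_natCard _ hxE)
  obtain ⟨⟨hEA, -⟩, -, -⟩ := Cfsg.Agent.S1418.result hG H hH E hE q hq2 A ⟨hAE, hA, hAc⟩
  have hcA : ∀ a ∈ A, ⁅a, x⁆ ∈ A := by
    intro a ha
    rw [commutatorElement_def]
    have h : x * a⁻¹ * x⁻¹ ∈ A := (mem_normalizer_iff.mp (hEA hxE) a⁻¹).mp (A.inv_mem ha)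
    have e : a * x * a⁻¹ * x⁻¹ = a * (x * a⁻¹ * x⁻¹) := by group
    rw [e]
    exact A.mul_mem ha h
  by_cases hr1 : PRankLE u 1 ↥H
  · -- `u ∈ τ₃(H)`: `x ∈ E'`, which is abelian
    have hτ3 : u ∈ tau3 H := ⟨hu, huσ, hud, hr1⟩
    have hidx := bg12_tau3_not_dvd_index hG hE hτ3
    have hEn : E ≤ normalizer ((⁅E, E⁆ : Subgroup G) : Set G) :=
      bg1217_normalizer_commutator le_normalizer le_normalizer
    have hxE' : x ∈ ⁅E, E⁆ := by
      refine Helper68.bg123_mem_of_coprime (T := ⁅E, E⁆) (H := E) hEn hxE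
        (n := u ^ 1) (by rw [pow_one]; exact hxu) ?_
      rw [← Subgroup.map_subtype_commutator, bg10_relIndex_map_subtype]
      apply Nat.Coprime.pow_left
      rw [Nat.Prime.coprime_iff_not_dvd hu]
      exact hidx
    obtain ⟨-, hEab, -, -⟩ := Cfsg.Agent.S1420.result hG H hH E hE
    intro a ha
    have h2 : ⁅a, x⁆ ∈ ⁅E, E⁆ := by
      rw [commutatorElement_def]
      have h : a * x * a⁻¹ ∈ ⁅E, E⁆ := (mem_normalizer_iff.mp (hEn (hAE ha)) x).mp hxE'
      exact Subgroup.mul_mem _ h (Subgroup.inv_mem _ hxE')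
    have h3 : ⁅a, x⁆ * x = x * ⁅a, x⁆ := by
      have h := hEab.is_comm.comm (⟨⁅a, x⁆, h2⟩ : ↥⁅E, E⁆) ⟨x, hxE'⟩
      exact congrArg Subtype.val h
    exact comm_of_commutator_comm a x u q ((Nat.coprime_primes hu hq).mpr huq) hxu
      (hA.2 _ (hcA a ha)) h3
  · -- `u ∈ τ₂(H)`: `x` lies in the normal `E_{u²}` of `E`
    have hτ2 : u ∈ tau2 H := ⟨hu, huσ, bg10_pRank_of_not_alpha H u hu
      (fun h => huσ (bg10_alpha_sub_sigma hG hU hH h)), hr1⟩
    obtain ⟨B, hBE, hB, hBc⟩ := Helper4.bg127_exists_in_compl hE hτ2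
    obtain ⟨⟨hEB, hXB⟩, -, -⟩ := Cfsg.Agent.S1418.result hG H hH E hE u hτ2 B ⟨hBE, hB, hBc⟩
    have hxB : x ∈ B := hXB (zpowers x) ((zpowers_le).mpr hxE)
      (by rw [Nat.card_zpowers]; exact hxo) (mem_zpowers x)
    have hAB : A ⊓ B = ⊥ := by
      apply Helper68.bg123_inf_eq_bot
      rw [hAc, hBc]
      exact Nat.Coprime.pow _ _ ((Nat.coprime_primes hq hu).mpr (Ne.symm huq))
    intro a ha
    have h2 : ⁅a, x⁆ ∈ B := by
      rw [commutatorElement_def]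
      have h : a * x * a⁻¹ ∈ B := (mem_normalizer_iff.mp (hEB (hAE ha)) x).mp hxB
      exact B.mul_mem h (B.inv_mem hxB)
    have h3 : ⁅a, x⁆ ∈ A ⊓ B := ⟨hcA a ha, h2⟩
    rw [hAB] at h3
    have h4 : ⁅a, x⁆ = 1 := Subgroup.mem_bot.mp h3
    rw [commutatorElement_eq_one_iff_mul_comm] at h4
    exact h4

end Cfsg.Agent.Helper24
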