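/-
helper24: piece KP (`bg14d_exists_tau1`) of CALL S1365 (helper22), B&G Lemma 14.2.
-/
import Cfsg.Agent.Helper22.BG14Main
import Cfsg.Agent.Helper47.BG14SET2
import Cfsg.Agent.Helper47.BG14SET4
import Cfsg.Agent.Helper47.BG14RK

set_option autoImplicit false

namespace Cfsg.Agent.Helper24

open Cfsg Subgroup Cfsg.Agent.Helper22 Cfsg.Agent.Helper23 Cfsg.Agent.Helper35

universe u

variable {G : Type u} [Group G] [Finite G]

/-- **PIECE KP**: a nontrivial cyclic Hall `κ(M)`-subgroup `K` contains a subgroup `P` of prime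
order `p ∈ κ(M) ∩ τ₁(M)` with `C_{M_σ}(P) ≠ 1`. -/
theorem bg14d_exists_tau1 (hG : IsMinSimpleOddOrder G) (hσp : BGSigmaPart G) {M K : Subgroup G}
    (hM : IsCoatom M) (hKc : IsCyclic K) (hK : IsPiHallOf (kappa M) K M) (hK1 : K ≠ ⊥) :
    ∃ (p : ℕ) (P : Subgroup G), p ∈ tau1 M ∧ p ∈ kappa M ∧ P ≤ K ∧ Nat.card P = p ∧
      sigmaCore M ⊓ centralizer (P : Set G) ≠ ⊥ := by
  have hcard : Nat.card K ≠ 1 := fun h => hK1 (Subgroup.card_eq_one.mp h)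
  obtain ⟨p, hp, hpd⟩ := Nat.exists_prime_and_dvd hcard
  have hpκ : p ∈ kappa M := hK.2.1 p hp hpd
  obtain ⟨Q, hQK, hQp, -, -, hQi⟩ := Helper47.bg14_sylow_of_hall hKc hK hpκ
  obtain ⟨Q₁, hQ₁Q, hQ₁c, hQ₁D⟩ := Helper47.bg14_kappa_cent hpκ (hQK.trans hK.1) hQp hQi
  have hcop := bg14_kappa_coprime hG hσp hM hKc hK
  have hnd : ¬ p ∣ Nat.card ↥⁅M, M⁆ :=
    (Nat.Prime.coprime_iff_not_dvd hp).mp (Nat.Coprime.coprime_dvd_left hpd hcop)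
  exact ⟨p, Q₁, ⟨hp, hpκ.2.2.1, hpκ.2.1, hnd, Helper47.bg14_rank_of_kappa hpκ⟩, hpκ,
    hQ₁Q.trans hQK, hQ₁c, hQ₁D⟩

end Cfsg.Agent.Helper24
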