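/-
helper24: piece T1 (`bg14d_fpf_tau1`) of CALL S1365 (helper22), B&G Lemma 14.2.
-/
import Cfsg.Agent.Helper49.BG14U
import Cfsg.Agent.S1428

set_option autoImplicit false

namespace Cfsg.Agent.Helper24

open Cfsg Subgroup Cfsg.Agent.Helper22 Cfsg.Agent.Helper23 Cfsg.Agent.Helper35

universe u

variable {G : Type u} [Group G] [Finite G]

/-- **PIECE T1**: an element of `E` of order `r ∈ τ₁(M) \ κ(M)` cannot centralize a subgroup `P`
of order `p ∈ τ₁(M)` of `E` with `C_{M_σ}(P) ≠ 1`. -/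
theorem bg14d_fpf_tau1 (hG : IsMinSimpleOddOrder G) {M E P : Subgroup G} {p r : ℕ}
    (hM : IsCoatom M) (hE : IsComplIn E (sigmaCore M) M) (hp : p ∈ tau1 M) (hPE : P ≤ E)
    (hP : Nat.card P = p) (hD : sigmaCore M ⊓ centralizer (P : Set G) ≠ ⊥) (hr : r ∈ tau1 M)
    (hrκ : r ∉ kappa M) {y : G} (hyE : y ∈ E) (hyo : orderOf y = r)
    (hyP : y ∈ centralizer (P : Set G)) : False := by
  have hrp : r.Prime := hr.1
  have hR : (Nat.card (zpowers y)).Prime := by rw [Nat.card_zpowers, hyo]; exact hrp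
  have hRE : zpowers y ≤ E ⊓ centralizer (P : Set G) :=
    (zpowers_le).mpr (Subgroup.mem_inf.mpr ⟨hyE, hyP⟩)
  have h28 := Cfsg.Agent.S1428.result hG M hM E hE p hp P hPE hP (zpowers y) hRE hR
  obtain ⟨⟨d, hd⟩, hd1⟩ := (Subgroup.ne_bot_iff_exists_ne_one).mp hD
  have hd' := h28 hd
  have hcomm : y * d = d * y :=
    mem_centralizer_iff.mp (Subgroup.mem_inf.mp hd').2 y (mem_zpowers y)
  have h1 : d = 1 :=
    Helper49.bg14u_regular_of_not_kappa hG (Or.inl hr) hrκ (hE.1 hyE) hyo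
      (Subgroup.mem_inf.mp hd).1 hcomm
  exact hd1 (Subtype.ext h1)

end Cfsg.Agent.Helper24
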