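/-
helper24: piece TR (`bg14d_tau_cases`) of CALL S1365 (helper22), B&G Lemma 14.2.
-/
import Cfsg.Agent.Helper22.BG12a
import Cfsg.Agent.Helper22.BG12b
import Cfsg.Agent.Helper22.BG10e
import Cfsg.Agent.S1403

set_option autoImplicit false

namespace Cfsg.Agent.Helper24

open Cfsg Subgroup Cfsg.Agent.Helper22 Cfsg.Agent.Helper23 Cfsg.Agent.Helper35

universe u

variable {G : Type u} [Group G] [Finite G]

/-- **PIECE TR**: a prime divisor of the order of a complement `E` of `M_σ` lies in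
`τ₁(M) ∪ τ₂(M) ∪ τ₃(M)`. -/
theorem bg14d_tau_cases (hG : IsMinSimpleOddOrder G) {M E : Subgroup G} (hM : IsCoatom M)
    (hE : IsComplIn E (sigmaCore M) M) {r : ℕ} (hr : r.Prime) (hd : r ∣ Nat.card E) :
    r ∈ tau1 M ∨ r ∈ tau2 M ∨ r ∈ tau3 M := by
  have hU : BGUniq G := fun K hK h1 h2 => Cfsg.Agent.S1403.result hG K hK h1 h2
  have hrσ : r ∉ sigma M := bg12_not_sigma_of_dvd hG hU hM hE hr hd
  have hrM : r ∣ Nat.card M := hd.trans (Subgroup.card_dvd_of_le hE.1)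
  have hr2 : PRankLE r 2 ↥M :=
    bg10_pRank_of_not_alpha M r hr (fun h => hrσ (bg10_alpha_sub_sigma hG hU hM h))
  by_cases h1 : PRankLE r 1 ↥M
  · by_cases h3 : r ∣ Nat.card ↥⁅M, M⁆
    · exact Or.inr (Or.inr ⟨hr, hrσ, h3, h1⟩)
    · exact Or.inl ⟨hr, hrσ, hrM, h3, h1⟩
  · exact Or.inr (Or.inl ⟨hr, hrσ, hr2, h1⟩)

end Cfsg.Agent.Helper24
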