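/-
helper24: B&G Lemma 13.2-type uniqueness statements for centralizers of elements of `M_σ`
commuting with a subgroup of prime order `p ∈ τ₁(M) ∪ τ₃(M)`:
* `bg13u_nc_over`: a maximal subgroup over `N_G(P)`, `P ≤ M` of order `p ∉ σ(M)` of rank one,
  is not conjugate to `M`, and `p ∈ σ(H) ∪ τ₂(H)`;
* `bg13u_elemAb_cent_false`: no `E_{q²}`, `q ∈ σ(M)`, of `M` centralizes such a `P`;
* `bg13u_cent_uniq_tau1`: for `p ∈ τ₁(M)` and `X ≤ C_{M_σ}(P)` of prime order, `M` is the unique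
  maximal subgroup over `C_G(X)`;
* `bg13u_norm_uniq_tau3`: for `p ∈ τ₃(M)` and `X ≤ C_{M_σ}(P)` of prime order, `M` is the unique
  maximal subgroup over `N_G(X)`;
* `bg13u_cent_le`: for `p ∈ τ₁(M) ∪ τ₃(M)` and `1 ≠ x ∈ C_{M_σ}(P)`, `C_G(x) ≤ M`.
-/
import Cfsg.Agent.Helper1.BGZMain
import Cfsg.Agent.Helper24.BG14B1
import Cfsg.Agent.Helper24.BG13II
import Cfsg.Agent.Helper68.BG13CTX
import Cfsg.Agent.S1378
import Cfsg.Agent.S1409
import Cfsg.Agent.S1414
import Cfsg.Agent.S1417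
import Cfsg.Agent.S1418
import Cfsg.Agent.S1423
import Cfsg.Agent.S1424

set_option autoImplicit false

namespace Cfsg.Agent.Helper24

open Cfsg Subgroup Cfsg.Agent.Helper22 Cfsg.Agent.Helper23 Cfsg.Agent.Helper35
open scoped Pointwise commutatorElement

universe u

variable {G : Type u} [Group G] [Finite G]

/-- A maximal subgroup `H` over `N_G(P)`, `P` of order `p ∉ σ(M)` with `M` of `p`-rank one, is not
conjugate to `M`, and `p ∈ σ(H) ∪ τ₂(H)`. -/
theorem bg13u_nc_over (hG : IsMinSimpleOddOrder G) {M P H : Subgroup G} {p : ℕ}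
    (hpp : p.Prime) (hpσ : p ∉ sigma M) (hp1 : PRankLE p 1 ↥M) (hP : Nat.card P = p)
    (hH : IsCoatom H) (hNP : normalizer (P : Set G) ≤ H) :
    (∀ g : G, H ≠ M.map (MulAut.conj g).toMonoidHom) ∧ (p ∈ sigma H ∨ p ∈ tau2 H) := by
  have : Fact p.Prime := ⟨hpp⟩
  have key : p ∈ sigma H ∨ p ∈ tau2 H := by
    by_cases hσ : p ∈ sigma H
    · exact Or.inl hσ
    · right
      obtain ⟨⟨h2, h1⟩, -, -⟩ := Cfsg.Agent.S1409.result hG H hH p hσ P hP hNP
      exact ⟨hpp, hσ, h2, h1⟩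
  refine ⟨?_, key⟩
  intro g hg
  rcases key with hσ | hτ
  · apply hpσ
    have h1 := Helper41.bg13_sigma_conj (M := H) hσ g⁻¹
    have e : MulAut.conj g⁻¹ • H = M := by
      rw [hg]
      ext x
      rw [mem_conj_smul, Subgroup.mem_map]
      constructor
      · rintro ⟨m, hm, hmx⟩
        have h2 : g * m * g⁻¹ = g⁻¹⁻¹ * x * g⁻¹ := hmx
        have h3 : m = x := by
          rw [inv_inv] at h2
          exact mul_left_cancel (mul_right_cancel h2)
        rw [← h3]; exact hm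
      · intro hx
        refine ⟨x, hx, ?_⟩
        show g * x * g⁻¹ = g⁻¹⁻¹ * x * g⁻¹
        rw [inv_inv]
    rwa [e] at h1
  · apply hτ.2.2.2
    rw [hg]
    exact Helper21.pRankLE_of_injective
      (M.equivMapOfInjective (MulAut.conj g).toMonoidHom (MulAut.conj g).injective).symm.toMonoidHom
      (M.equivMapOfInjective (MulAut.conj g).toMonoidHom
        (MulAut.conj g).injective).symm.injective hp1

/-- No elementary abelian subgroup of order `q²`, `q ∈ σ(M)`, of `M` centralizes a subgroup `P ≤ M`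
of prime order `p ∉ σ(M)` when `M` has `p`-rank one. -/
theorem bg13u_elemAb_cent_false (hG : IsMinSimpleOddOrder G) {M P A : Subgroup G} {p q : ℕ}
    (hM : IsCoatom M) (hpp : p.Prime) (hpσ : p ∉ sigma M) (hp1 : PRankLE p 1 ↥M) (hPM : P ≤ M)
    (hP : Nat.card P = p) [Fact q.Prime] (hqσ : q ∈ sigma M) (hAM : A ≤ M)
    (hA : IsElementaryAbelian q A) (hAc : Nat.card A = q ^ 2)
    (hAP : A ≤ centralizer (P : Set G)) : False := by
  have hq : q.Prime := Fact.out
  have hU : BGUniq G := fun K hK h1 h2 => Cfsg.Agent.S1403.result hG K hK h1 h2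
  have hP4 : Helper72.B12P4 G := fun M hM p _ A hA => Cfsg.Agent.S1416.result hG M hM p A hA
  have : Fact p.Prime := ⟨hpp⟩
  have hpow : ∀ s : ℕ, s.Prime → ¬ s ^ 2 ≤ s ^ 1 := fun s hs h => by
    rw [pow_one, sq] at h; nlinarith [hs.two_le]
  have hPp : IsPGroup p P := IsPGroup.of_card (n := 1) (by rw [hP, pow_one])
  have hqp : q ≠ p := fun h => hpσ (h ▸ hqσ)
  obtain ⟨H, hH, hNP⟩ := Helper68.bg13_exists_over hG hpp hP
  obtain ⟨hnc, hor⟩ := bg13u_nc_over hG hpp hpσ hp1 hP hH hNP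
  have hAH : A ≤ H := hAP.trans ((centralizer_le_normalizer _).trans hNP)
  have hPH : P ≤ H := le_normalizer.trans hNP
  have hqH : q ∉ sigma H := by
    intro h
    obtain ⟨g, hg⟩ := (Cfsg.Agent.S1378.result hG).2 M H hM hH ⟨q, hqσ, h⟩
    exact hnc g hg
  have hMH : M ≠ H := fun h => hqH (h ▸ hqσ)
  have hq1 : ¬ PRankLE q 1 ↥H :=
    Helper21.not_pRankLE_of_elemAb hAH hA.1 hA.2 (by rw [hAc]; exact hpow q hq)
  have hq2 : q ∈ tau2 H := ⟨hq, hqH, bg10_pRank_of_not_alpha H q hq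
    (fun h => hqH (bg10_alpha_sub_sigma hG hU hH h)), hq1⟩
  obtain ⟨-, -, -, -, hTI, -⟩ := Cfsg.Agent.S1417.result hG H hH q hq2 A ⟨hAH, hA, hAc⟩
  have h0 : sigmaCore H ⊓ M = ⊥ := hTI M hM hMH hAM
  rcases hor with hpH | hp2
  · have hPσ : P ≤ sigmaCore H := bg12_le_sigmaCore hG hU hH hpp hpH hPH hPp
    have h1 : P ≤ sigmaCore H ⊓ M := le_inf hPσ hPM
    rw [h0] at h1
    have h2 : Nat.card P = 1 := by rw [le_bot_iff.mp h1, Subgroup.card_bot]
    rw [hP] at h2
    exact hpp.one_lt.ne' h2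
  · have hcopA : (Nat.card A).Coprime (Nat.card (sigmaCore H)) := by
      rw [hAc]
      apply Nat.Coprime.pow_left
      rw [Nat.Prime.coprime_iff_not_dvd hq]
      exact fun h => hqH (mem_of_dvd_card_piCoreOf (sigma H) H hq h)
    have hcopP : (Nat.card P).Coprime (Nat.card (sigmaCore H)) := by
      rw [hP, Nat.Prime.coprime_iff_not_dvd hpp]
      exact fun h => hp2.2.1 (mem_of_dvd_card_piCoreOf (sigma H) H hpp h)
    have hPn : P ≤ normalizer (A : Set G) := by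
      intro y hy
      apply centralizer_le_normalizer
      rw [mem_centralizer_iff]
      intro z hz
      exact (mem_centralizer_iff.mp (hAP hz) y hy).symm
    have hYcop : (Nat.card ↥(P ⊔ A)).Coprime (Nat.card (sigmaCore H)) :=
      Nat.Coprime.coprime_dvd_left (Cfsg.Agent.Helper22.card_sup_dvd_of_le_normalizer hPn)
        (Nat.Coprime.mul_left hcopP hcopA)
    obtain ⟨EH, hEH, hYE⟩ := Helper20.bg13_exists_compl_ge hG hU hH (sup_le hPH hAH) hYcop
    have hAE : A ≤ EH := le_sup_right.trans hYE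
    obtain ⟨⟨hEA, -⟩, -, -⟩ := Cfsg.Agent.S1418.result hG H hH EH hEH q hq2 A ⟨hAE, hA, hAc⟩
    obtain ⟨B, hBE, hB, hBc⟩ := Helper4.bg127_exists_in_compl hEH hp2
    obtain ⟨⟨hEB, -⟩, -, -⟩ := Cfsg.Agent.S1418.result hG H hH EH hEH p hp2 B ⟨hBE, hB, hBc⟩
    have hAB : A ⊓ B = ⊥ := Helper68.bg123_inf_eq_bot (by
      rw [hAc, hBc]
      exact Nat.Coprime.pow _ _ ((Nat.coprime_primes hq hpp).mpr hqp))
    have hBcA : B ≤ centralizer (A : Set G) := by
      intro b hb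
      rw [mem_centralizer_iff]
      intro a ha
      have h1 : a * b * a⁻¹ * b⁻¹ ∈ A := by
        have h : b * a⁻¹ * b⁻¹ ∈ A := (mem_normalizer_iff.mp (hEA (hBE hb)) a⁻¹).mp (A.inv_mem ha)
        have e : a * b * a⁻¹ * b⁻¹ = a * (b * a⁻¹ * b⁻¹) := by group
        rw [e]
        exact A.mul_mem ha h
      have h2 : a * b * a⁻¹ * b⁻¹ ∈ B := by
        have h : a * b * a⁻¹ ∈ B := (mem_normalizer_iff.mp (hEB (hAE ha)) b).mp hb
        exact B.mul_mem h (B.inv_mem hb)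
      have h3 : a * b * a⁻¹ * b⁻¹ ∈ A ⊓ B := ⟨h1, h2⟩
      rw [hAB] at h3
      exact mul_inv_eq_iff_eq_mul.mp (mul_inv_eq_one.mp (Subgroup.mem_bot.mp h3))
    have hAnc : ¬ IsCyclic ↥A := Helper23.not_isCyclic_of_card_gt hq hA.2 (by
      rw [hAc, sq]; nlinarith [hq.two_le])
    have hNA : normalizer (A : Set G) ≤ M :=
      Helper72.b12c_norm_noncyclic hG hU hP4 hM hqσ (bg11_isPGroup_of_elemAb hA) hAM hAnc
    have hBM : B ≤ M := hBcA.trans ((centralizer_le_normalizer _).trans hNA)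
    exact Helper21.not_pRankLE_of_elemAb hBM hB.1 hB.2 (by rw [hBc]; exact hpow p hpp) hp1

/-- **B&G Lemma 13.2**: for `p ∈ τ₁(M)`, `P ≤ M` of order `p` and `X ≤ C_{M_σ}(P)` of prime
order, `M` is the unique maximal subgroup containing `C_G(X)`. -/
theorem bg13u_cent_uniq_tau1 (hG : IsMinSimpleOddOrder G) {M P X : Subgroup G} {p q : ℕ}
    (hM : IsCoatom M) (hp : p ∈ tau1 M) (hPM : P ≤ M) (hP : Nat.card P = p) (hq : q.Prime)
    (hX : Nat.card X = q) (hXD : X ≤ sigmaCore M ⊓ centralizer (P : Set G)) :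
    centralizer (X : Set G) ≤ M ∧
      ∀ L : Subgroup G, IsCoatom L → centralizer (X : Set G) ≤ L → L = M := by
  have : Fact q.Prime := ⟨hq⟩
  have hσM : sigmaCore M ≤ M := piCoreOf_le (sigma M) M
  have hXσ : X ≤ sigmaCore M := hXD.trans inf_le_left
  have hXM : X ≤ M := hXσ.trans hσM
  have hqσ : q ∈ sigma M := mem_of_dvd_card_piCoreOf (sigma M) M hq (by
    rw [← hX]; exact Subgroup.card_dvd_of_le hXσ)
  by_cases hqβ : q ∈ beta M
  · exact (Cfsg.Agent.S1423.result hG M hM q hqσ X hXM hX (Classical.arbitrary _) (Or.inl hqβ)).1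
  have hXq : IsPGroup q X := IsPGroup.of_card (n := 1) (by rw [hX, pow_one])
  have hX1 : X ≠ ⊥ := by
    intro h
    rw [h, Subgroup.card_bot] at hX
    exact hq.one_lt.ne hX
  obtain ⟨Es, S₁, c, hEs, hPEs, hS₁, hS₁s, hEsS, hc, hXc⟩ :=
    Helper31.bgz_compl_sylow hG hM hq hp hPM hP hXq hXD
  have hD : sigmaCore M ⊓ centralizer (P : Set G) ≠ ⊥ := fun h => hX1 (le_bot_iff.mp (h ▸ hXD))
  have h2 : ∀ y ∈ Es ⊓ centralizer (P : Set G), (orderOf y).Prime → orderOf y ∉ tau2 M := by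
    intro y hy _ hτ
    exact Helper1.bg14_lemmaZ hG hM hEs hp hPEs hP hD hτ ((zpowers_le).mpr hy.1)
      (Nat.card_zpowers y) ((zpowers_le).mpr hy.2)
  have hcc := Helper1.bgz_cent hG hM hEs hp hPEs hP h2
  have he0 := Helper1.bgz_E0_cent hG hM hEs hqσ hqβ hS₁ hS₁s hEsS
  have hfr := Helper31.bgz_frattini (E := Es) (K := Es ⊓ ⁅M, M⁆) (P := P) hp.1 inf_le_left
    (le_inf (Subgroup.commutator_le.mpr fun a ha b hb =>
        Es.mul_mem (Es.mul_mem (Es.mul_mem ha hb) (Es.inv_mem ha)) (Es.inv_mem hb))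
      (Subgroup.commutator_mono hEs.1 hEs.1)) hPEs hP
    (fun h => hp.2.2.2.1 (h.trans (Subgroup.card_dvd_of_le inf_le_right)))
  have hX1c : Nat.card (X.map (MulAut.conj c).toMonoidHom) = q := by
    rw [Subgroup.card_map_of_injective (MulAut.conj c).injective, hX]
  have hX1D : X.map (MulAut.conj c).toMonoidHom ≤ sigmaCore M ⊓ centralizer (P : Set G) := by
    rintro _ ⟨x, hx, rfl⟩
    have hxD := hXD hx
    show c * x * c⁻¹ ∈ _
    exact mul_mem (mul_mem hc hxD) (inv_mem hc)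
  have hX1E : X.map (MulAut.conj c).toMonoidHom ≤
      sigmaCore M ⊓ centralizer (Es : Set G) := by
    intro x1 hx1
    refine ⟨hS₁ (hXc hx1), ?_⟩
    show x1 ∈ centralizer (Es : Set G)
    rw [Subgroup.mem_centralizer_iff]
    intro e he
    obtain ⟨k, hk, c', hc', rfl⟩ := hfr e he
    have h1 : k * x1 = x1 * k := he0 k hk x1 (hXc hx1)
    have h2' : c' * x1 = x1 * c' := hcc c' hc' x1 (hX1D hx1)
    rw [mul_assoc, h2', ← mul_assoc, h1, mul_assoc]
  have h26 := (Cfsg.Agent.S1426.result hG M hM Es hEs).1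
  have hX1comm : X.map (MulAut.conj c).toMonoidHom ≤ ⁅sigmaCore M, sigmaCore M⁆ :=
    hX1E.trans h26
  have h23 := (Cfsg.Agent.S1423.result hG M hM q hqσ _ ((hX1D.trans inf_le_left).trans hσM) hX1c
    (Classical.arbitrary _) (Or.inr hX1comm)).1
  have hcM : c ∈ M := hσM hc.1
  constructor
  · intro z hz
    have h1 : c * z * c⁻¹ ∈
        centralizer ((X.map (MulAut.conj c).toMonoidHom : Subgroup G) : Set G) := by
      rw [Helper23.centralizer_map_conj]
      exact ⟨z, hz, rfl⟩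
    have h3 := h23.1 h1
    have e : z = c⁻¹ * (c * z * c⁻¹) * c := by group
    rw [e]
    exact M.mul_mem (M.mul_mem (M.inv_mem hcM) h3) hcM
  · intro L hL hCL
    have hcent : centralizer ((X.map (MulAut.conj c).toMonoidHom : Subgroup G) : Set G) ≤
        L.map (MulAut.conj c).toMonoidHom := by
      rw [Helper23.centralizer_map_conj]
      exact Subgroup.map_mono hCL
    have hLc := h23.2 _ (Helper47.isCoatom_map_conj hL c) hcent
    have hLM : L ≤ M := by
      intro l hl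
      have h1 : c * l * c⁻¹ ∈ M := by
        rw [← hLc]; exact ⟨l, hl, rfl⟩
      have e : l = c⁻¹ * (c * l * c⁻¹) * c := by group
      rw [e]
      exact M.mul_mem (M.mul_mem (M.inv_mem hcM) h1) hcM
    exact (Helper23.uq_eq_of_coatom_le hL hM.1 hLM).symm

/-- The `τ₃` analogue of B&G Lemma 13.2: for `p ∈ τ₃(M)`, `P ≤ M` of order `p` and
`X ≤ C_{M_σ}(P)` of prime order, `M` is the unique maximal subgroup containing `N_G(X)`. -/
theorem bg13u_norm_uniq_tau3 (hG : IsMinSimpleOddOrder G) {M P X : Subgroup G} {p q : ℕ}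
    (hM : IsCoatom M) (hp : p ∈ tau3 M) (hPM : P ≤ M) (hP : Nat.card P = p) (hq : q.Prime)
    (hX : Nat.card X = q) (hXD : X ≤ sigmaCore M ⊓ centralizer (P : Set G)) :
    ∀ L : Subgroup G, IsCoatom L → normalizer (X : Set G) ≤ L → L = M := by
  intro L hL hNX
  by_contra hLM
  have hU : BGUniq G := fun K hK h1 h2 => Cfsg.Agent.S1403.result hG K hK h1 h2
  have : Fact q.Prime := ⟨hq⟩
  have hpp : p.Prime := hp.1
  have : Fact p.Prime := ⟨hpp⟩
  have hσM : sigmaCore M ≤ M := piCoreOf_le (sigma M) M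
  have hXσ : X ≤ sigmaCore M := hXD.trans inf_le_left
  have hXM : X ≤ M := hXσ.trans hσM
  have hqσ : q ∈ sigma M := mem_of_dvd_card_piCoreOf (sigma M) M hq (by
    rw [← hX]; exact Subgroup.card_dvd_of_le hXσ)
  have hpq : p ≠ q := fun h => hp.2.1 (h ▸ hqσ)
  by_cases hqβ : q ∈ beta M
  · exact hLM ((Cfsg.Agent.S1423.result hG M hM q hqσ X hXM hX (Classical.arbitrary _)
      (Or.inl hqβ)).1.2 L hL ((centralizer_le_normalizer _).trans hNX))
  have hXq : IsPGroup q X := IsPGroup.of_card (n := 1) (by rw [hX, pow_one])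
  have hX1 : X ≠ ⊥ := by
    intro h
    rw [h, Subgroup.card_bot] at hX
    exact hq.one_lt.ne hX
  have hXML : X ≤ M ⊓ L := le_inf hXM (le_normalizer.trans hNX)
  obtain ⟨S, hSsyl, hXS⟩ := exists_isSylowOf_ge hXq hXML
  obtain ⟨S₀, hS₀⟩ := hSsyl.exists_sylow
  have hS₀map : (S₀ : Subgroup ↥(M ⊓ L)).map (M ⊓ L).subtype = S := by
    rw [hS₀, Subgroup.map_subgroupOf_eq_of_le hSsyl.1]
  obtain ⟨hnc, -, -⟩ := Cfsg.Agent.S1424.result hG M hM q hqσ X hXq hX1 hXM L hL hLM hNX S₀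
    (by rw [hS₀map]; exact hXS)
  have hqL : q ∉ sigma L := by
    intro h
    obtain ⟨g, hg⟩ := (Cfsg.Agent.S1378.result hG).2 M L hM hL ⟨q, hqσ, h⟩
    exact hnc g hg
  have hcompl := bg14_compl_of_norm hG hM hL hLM hqσ hqL hXM hXq hX1 hNX
  have hq2 : q ∈ tau2 L := (Helper68.bg13_type_over hG hL hq hX hNX).resolve_left hqL
  obtain ⟨A, hAE, hA, hAc⟩ := Helper4.bg127_exists_in_compl hcompl hq2
  obtain ⟨⟨hEA, -⟩, -, -⟩ :=
    Cfsg.Agent.S1418.result hG L hL (M ⊓ L) hcompl q hq2 A ⟨hAE, hA, hAc⟩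
  have hPL : P ≤ L := by
    intro y hy
    apply hNX
    apply centralizer_le_normalizer
    rw [mem_centralizer_iff]
    intro z hz
    exact (mem_centralizer_iff.mp (hXD hz).2 y hy).symm
  have hAM : A ≤ M := hAE.trans inf_le_left
  have hAq : IsPGroup q A := bg11_isPGroup_of_elemAb hA
  have hAσ : A ≤ sigmaCore M := bg12_le_sigmaCore hG hU hM hq hqσ hAM hAq
  have hAM' : A ≤ ⁅M, M⁆ := hAσ.trans (bg1217_sigmaCore_le_comm hG hU hM)
  have hnpc : HasNormalPComplement q ↥⁅M, M⁆ :=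
    ((Cfsg.Agent.S1414.result hG M hM).2.2.2.2 q hq hqσ.2.1 hqβ).1
  have hAP : A ≤ centralizer (P : Set G) := by
    intro a ha
    rw [mem_centralizer_iff]
    intro y hy
    have hyM : y ∈ M := hPM hy
    have hyp : y ^ p = 1 := by
      have h1 : (⟨y, hy⟩ : ↥P) ^ Nat.card ↥P = 1 := pow_card_eq_one'
      rw [hP] at h1
      simpa using congrArg Subtype.val h1
    have hyK : y ∈ ⁅M, M⁆ :=
      bg13_tau3_mem_commutator hG hM hp hyM (k := 1) (by rw [pow_one]; exact hyp)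
    have hycop : (orderOf y).Coprime q :=
      Nat.Coprime.coprime_dvd_left (orderOf_dvd_of_pow_eq_one hyp)
        ((Nat.coprime_primes hpp hq).mpr hpq)
    have hyN : y ∈ normalizer (A : Set G) := hEA ⟨hyM, hPL hy⟩
    exact Helper4.bgz_npc_centralizes hq hnpc hAM' hAq hyK hycop hyN a ha
  exact bg13u_elemAb_cent_false hG hM hpp hp.2.1 hp.2.2.2 hPM hP hqσ hAM hA hAc hAP

/-- For `p ∈ τ₁(M) ∪ τ₃(M)`, `P ≤ M` of order `p` and `1 ≠ x ∈ C_{M_σ}(P)`: `C_G(x) ≤ M`. -/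
theorem bg13u_cent_le (hG : IsMinSimpleOddOrder G) {M P : Subgroup G} {p : ℕ}
    (hM : IsCoatom M) (hp : p ∈ tau1 M ∪ tau3 M) (hPM : P ≤ M) (hP : Nat.card P = p) {x : G}
    (hx : x ∈ sigmaCore M) (hx1 : x ≠ 1) (hxP : x ∈ centralizer (P : Set G)) :
    centralizer ({x} : Set G) ≤ M := by
  have hox : orderOf x ≠ 0 := (orderOf_pos x).ne'
  have hox1 : orderOf x ≠ 1 := fun h => hx1 (orderOf_eq_one_iff.mp h)
  obtain ⟨q, hq, hqx⟩ := Nat.exists_prime_and_dvd hox1
  obtain ⟨y, hydef⟩ : ∃ y : G, y = x ^ (orderOf x / q) := ⟨_, rfl⟩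
  have hyo : orderOf y = q := by
    rw [hydef]
    exact orderOf_pow_orderOf_div hox hqx
  have hX : Nat.card (zpowers y) = q := by rw [Nat.card_zpowers]; exact hyo
  have hyD : y ∈ sigmaCore M ⊓ centralizer (P : Set G) := by
    rw [hydef]
    exact Subgroup.pow_mem _ (Subgroup.mem_inf.mpr ⟨hx, hxP⟩) _
  have hXD : zpowers y ≤ sigmaCore M ⊓ centralizer (P : Set G) := (zpowers_le).mpr hyD
  have hCC : centralizer ({x} : Set G) ≤ centralizer ((zpowers y : Subgroup G) : Set G) := by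
    intro z hz
    have hzx : x * z = z * x := mem_centralizer_iff.mp hz x rfl
    rw [mem_centralizer_iff]
    intro w hw
    obtain ⟨k, rfl⟩ := mem_zpowers_iff.mp hw
    have h1 : Commute x z := hzx
    have h2 : Commute y z := by
      rw [hydef]
      exact h1.pow_left _
    exact (h2.zpow_left k).eq
  rcases hp with hp | hp
  · exact hCC.trans (bg13u_cent_uniq_tau1 hG hM hp hPM hP hq hX hXD).1
  · obtain ⟨L, hL, hNX⟩ := Helper68.bg13_exists_over hG hq hX
    have hLM := bg13u_norm_uniq_tau3 hG hM hp hPM hP hq hX hXD L hL hNX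
    rw [← hLM]
    exact hCC.trans ((centralizer_le_normalizer _).trans hNX)

end Cfsg.Agent.Helper24
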