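/-
helper24: `p ∈ σ(H)` for a maximal subgroup `H` over `N_G(P)`, `P ≤ M` of prime order `p ∉ σ(M)`
with `M` of `p`-rank one and `C_{M_σ}(P) ≠ 1` (a "nonregular" `τ₁`- or `τ₃`-subgroup); this is the
last clause of B&G Theorem 14.3(c) ("USE 1" of the S1351 discussion).  Consequences:
* `bg13u_star_not_tau2`: a prime `t ∈ σ(M)` of a subgroup `T₀ ≤ M ∩ H` of order `t` nonregular on
  `H_σ` is not in `τ₂(H)` when `M ∩ H ∩ H_σ ≠ 1`;
* `bg13u_star_norm_le`: `N_G(T₀) ≤ M` for every subgroup `T₀ ≤ C_{M_σ}(P)` of prime order.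
-/
import Cfsg.Agent.Helper24.BG13U
import Cfsg.Agent.Helper24.BG11b
import Cfsg.Agent.S1404
import Cfsg.Agent.S1420

set_option autoImplicit false

namespace Cfsg.Agent.Helper24

open Cfsg Subgroup Cfsg.Agent.Helper22 Cfsg.Agent.Helper23 Cfsg.Agent.Helper35
open scoped Pointwise commutatorElement

universe u

variable {G : Type u} [Group G] [Finite G]

omit [Finite G] in
/-- An element normalizing a maximal subgroup lies in it. -/
theorem bg13v_mem_of_map_conj_eq (hG : IsMinSimpleOddOrder G) {L : Subgroup G} (hL : IsCoatom L)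
    {n : G} (h : L.map (MulAut.conj n).toMonoidHom = L) : n ∈ L := by
  have := hG.2.1
  by_contra hn
  have hnN : n ∈ normalizer (L : Set G) := by
    rw [mem_normalizer_iff]
    intro x
    constructor
    · intro hx
      have h1 : n * x * n⁻¹ ∈ L.map (MulAut.conj n).toMonoidHom := ⟨x, hx, rfl⟩
      rwa [h] at h1
    · intro hx
      have h1 : n * x * n⁻¹ ∈ L.map (MulAut.conj n).toMonoidHom := by rw [h]; exact hx
      obtain ⟨y, hy, hyx⟩ := h1
      have h2 : n * y * n⁻¹ = n * x * n⁻¹ := hyx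
      have h3 : y = x := mul_left_cancel (mul_right_cancel h2)
      rw [← h3]
      exact hy
  have hlt : L < normalizer (L : Set G) :=
    lt_of_le_of_ne le_normalizer (fun e => hn (by rw [e]; exact hnN))
  exact Helper23.normalizer_ne_top_of_simple (bg11b_coatom_ne_bot hG hL) hL.1 (hL.2 _ hlt)

/-- If `L` is the only maximal subgroup over `C_G(X)`, then `N_G(X) ≤ L`. -/
theorem bg13v_norm_le_of_cent_uniq (hG : IsMinSimpleOddOrder G) {L X : Subgroup G}
    (hL : IsCoatom L) (hCL : centralizer (X : Set G) ≤ L)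
    (huniq : ∀ L' : Subgroup G, IsCoatom L' → centralizer (X : Set G) ≤ L' → L' = L) :
    normalizer (X : Set G) ≤ L := by
  intro n hn
  apply bg13v_mem_of_map_conj_eq hG hL
  apply huniq _ (Helper47.isCoatom_map_conj hL n)
  intro c hc
  have h1 : n⁻¹ * c * n ∈ centralizer (X : Set G) := by
    rw [mem_centralizer_iff]
    intro h hh
    have h2 : n * h * n⁻¹ ∈ X := (mem_normalizer_iff.mp hn h).mp hh
    have h3 : n * h * n⁻¹ * c = c * (n * h * n⁻¹) := mem_centralizer_iff.mp hc _ h2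
    have e1 : h * (n⁻¹ * c * n) = n⁻¹ * (n * h * n⁻¹ * c) * n := by group
    have e2 : n⁻¹ * c * n * h = n⁻¹ * (c * (n * h * n⁻¹)) * n := by group
    rw [e1, e2, h3]
  refine ⟨n⁻¹ * c * n, hCL h1, ?_⟩
  show n * (n⁻¹ * c * n) * n⁻¹ = c
  group

/-- `σ` of a conjugate. -/
theorem bg13v_sigma_of_map_conj {M N : Subgroup G} {q : ℕ} {g : G}
    (hg : N = M.map (MulAut.conj g).toMonoidHom) (h : q ∈ sigma N) : q ∈ sigma M := by
  have h1 := Helper41.bg13_sigma_conj (M := N) h g⁻¹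
  have e : MulAut.conj g⁻¹ • N = M := by
    rw [hg]
    ext x
    rw [mem_conj_smul, Subgroup.mem_map]
    constructor
    · rintro ⟨m, hm, hmx⟩
      have h2 : g * m * g⁻¹ = g⁻¹⁻¹ * x * g⁻¹ := hmx
      have h3 : m = x := by
        rw [inv_inv] at h2
        exact mul_left_cancel (mul_right_cancel h2)
      rw [← h3]; exact hm
    · intro hx
      refine ⟨x, hx, ?_⟩
      show g * x * g⁻¹ = g⁻¹⁻¹ * x * g⁻¹
      rw [inv_inv]
  rwa [e] at h1

/-- A prime `t ∈ σ(M) \ σ(H)` with a subgroup `T₀ ≤ M ∩ H` of order `t` that is nonregular on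
`H_σ` is not in `τ₂(H)` when `M ∩ H ∩ H_σ ≠ 1`. -/
theorem bg13u_star_not_tau2 (hG : IsMinSimpleOddOrder G) {M H T₀ : Subgroup G} {t : ℕ}
    (hM : IsCoatom M) (hH : IsCoatom H) (hHM : H ≠ M) (ht : t ∈ sigma M) (htH : t ∉ sigma H)
    (hTM : T₀ ≤ M) (hTH : T₀ ≤ H) (hT : Nat.card T₀ = t)
    (hC : sigmaCore H ⊓ centralizer (T₀ : Set G) ≠ ⊥) (hne : (M ⊓ H) ⊓ sigmaCore H ≠ ⊥) :
    t ∉ tau2 H := by
  intro ht2
  have htp : t.Prime := ht.1
  have : Fact t.Prime := ⟨htp⟩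
  obtain ⟨hCL, huniq⟩ := Helper1.bgz_tau2_unique hG hH ht2 hTH hT hC
  have hNT : normalizer (T₀ : Set G) ≤ H := bg13v_norm_le_of_cent_uniq hG hH hCL huniq
  have hTt : IsPGroup t T₀ := IsPGroup.of_card (n := 1) (by rw [hT, pow_one])
  have hT1 : T₀ ≠ ⊥ := by
    intro h
    rw [h, Subgroup.card_bot] at hT
    exact htp.one_lt.ne hT
  have hcompl := bg14_compl_of_norm hG hM hH hHM ht htH hTM hTt hT1 hNT
  exact hne hcompl.2.2.1

/-- **USE 1** (B&G 14.3(c), last clause): if `P ≤ M` has prime order `p ∉ σ(M)`, `M` has `p`-rank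
one and `C_{M_σ}(P) ≠ 1`, then `p ∈ σ(H)` for every maximal subgroup `H` over `N_G(P)`. -/
theorem bg13u_over_sigma (hG : IsMinSimpleOddOrder G) {M P H : Subgroup G} {p : ℕ}
    (hM : IsCoatom M) (hpp : p.Prime) (hpσ : p ∉ sigma M) (hp1 : PRankLE p 1 ↥M) (hPM : P ≤ M)
    (hP : Nat.card P = p) (hD : sigmaCore M ⊓ centralizer (P : Set G) ≠ ⊥) (hH : IsCoatom H)
    (hNP : normalizer (P : Set G) ≤ H) : p ∈ sigma H := by
  by_contra hpH
  have hU : BGUniq G := fun K hK h1 h2 => Cfsg.Agent.S1403.result hG K hK h1 h2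
  have : Fact p.Prime := ⟨hpp⟩
  have hσM : sigmaCore M ≤ M := piCoreOf_le (sigma M) M
  obtain ⟨hnc, hor⟩ := bg13u_nc_over hG hpp hpσ hp1 hP hH hNP
  have hp2 : p ∈ tau2 H := hor.resolve_left hpH
  have hPp : IsPGroup p P := IsPGroup.of_card (n := 1) (by rw [hP, pow_one])
  have hP1 : P ≠ ⊥ := by
    intro h
    rw [h, Subgroup.card_bot] at hP
    exact hpp.one_lt.ne hP
  -- a subgroup `T₀` of prime order of `C_{M_σ}(P)`
  obtain ⟨⟨d, hdD⟩, hd1'⟩ := (Subgroup.ne_bot_iff_exists_ne_one).mp hD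
  have hd1 : d ≠ 1 := fun h => hd1' (Subtype.ext h)
  have hod : orderOf d ≠ 0 := (orderOf_pos d).ne'
  have hod1 : orderOf d ≠ 1 := fun h => hd1 (orderOf_eq_one_iff.mp h)
  obtain ⟨t, ht, htd⟩ := Nat.exists_prime_and_dvd hod1
  have : Fact t.Prime := ⟨ht⟩
  obtain ⟨y, hydef⟩ : ∃ y : G, y = d ^ (orderOf d / t) := ⟨_, rfl⟩
  have hyo : orderOf y = t := by rw [hydef]; exact orderOf_pow_orderOf_div hod htd
  have hT : Nat.card (zpowers y) = t := by rw [Nat.card_zpowers]; exact hyo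
  have hyD : y ∈ sigmaCore M ⊓ centralizer (P : Set G) := by
    rw [hydef]; exact Subgroup.pow_mem _ hdD _
  have hTD : zpowers y ≤ sigmaCore M ⊓ centralizer (P : Set G) := (zpowers_le).mpr hyD
  have hTσ : zpowers y ≤ sigmaCore M := hTD.trans inf_le_left
  have hTM : zpowers y ≤ M := hTσ.trans hσM
  have hTP : zpowers y ≤ centralizer (P : Set G) := hTD.trans inf_le_right
  have htM : t ∈ sigma M := mem_of_dvd_card_piCoreOf (sigma M) M ht (by
    rw [← hT]; exact Subgroup.card_dvd_of_le hTσ)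
  have htH : t ∉ sigma H := by
    intro h
    obtain ⟨g, hg⟩ := (Cfsg.Agent.S1378.result hG).2 M H hM hH ⟨t, htM, h⟩
    exact hnc g hg
  have hTH : zpowers y ≤ H := hTP.trans ((centralizer_le_normalizer _).trans hNP)
  have hPH : P ≤ H := le_normalizer.trans hNP
  have hPcT : P ≤ centralizer ((zpowers y : Subgroup G) : Set G) := by
    intro a ha
    rw [mem_centralizer_iff]
    intro z hz
    exact (mem_centralizer_iff.mp (hTP hz) a ha).symm
  -- a complement `E_H` of `H_σ` over `P T₀`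
  have hcopP : (Nat.card P).Coprime (Nat.card (sigmaCore H)) := by
    rw [hP, Nat.Prime.coprime_iff_not_dvd hpp]
    exact fun h => hpH (mem_of_dvd_card_piCoreOf (sigma H) H hpp h)
  have hcopT : (Nat.card (zpowers y)).Coprime (Nat.card (sigmaCore H)) := by
    rw [hT, Nat.Prime.coprime_iff_not_dvd ht]
    exact fun h => htH (mem_of_dvd_card_piCoreOf (sigma H) H ht h)
  have hYcop : (Nat.card ↥(P ⊔ zpowers y)).Coprime (Nat.card (sigmaCore H)) :=
    Nat.Coprime.coprime_dvd_left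
      (Cfsg.Agent.Helper22.card_sup_dvd_of_le_normalizer
        (hPcT.trans (centralizer_le_normalizer _)))
      (Nat.Coprime.mul_left hcopP hcopT)
  obtain ⟨EH, hEH, hYE⟩ := Helper20.bg13_exists_compl_ge hG hU hH (sup_le hPH hTH) hYcop
  obtain ⟨A, hAE, hA, hAc⟩ := Helper4.bg127_exists_in_compl hEH hp2
  have h18 := Cfsg.Agent.S1418.result hG H hH EH hEH p hp2 A ⟨hAE, hA, hAc⟩
  have hEA : EH ≤ normalizer (A : Set G) := h18.1.1
  have hPA : P ≤ A := h18.1.2 P (le_sup_left.trans hYE) hP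
  obtain ⟨L, hL, hLH, hNA, hpL, -, -⟩ := Helper31.bgz_exists_Mstar hG hH hEH hp2 hAE hA hAc
  have hEL : EH ≤ L := hEA.trans hNA
  have hTL : zpowers y ≤ L := (le_sup_right.trans hYE).trans hEL
  have hAL : A ≤ L := le_normalizer.trans hNA
  have hPL : P ≤ L := hPA.trans hAL
  have hPLσ : P ≤ sigmaCore L := bg12_le_sigmaCore hG hU hL hpp hpL hPL hPp
  have hLM : L ≠ M := fun h => hpσ (h ▸ hpL)
  have htL : t ∉ sigma L := by
    intro h
    obtain ⟨g, hg⟩ := (Cfsg.Agent.S1378.result hG).2 M L hM hL ⟨t, htM, h⟩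
    exact hpσ (bg13v_sigma_of_map_conj hg hpL)
  have hPD : P ≤ sigmaCore L ⊓ centralizer ((zpowers y : Subgroup G) : Set G) :=
    le_inf hPLσ hPcT
  have htdL : t ∣ Nat.card L := by rw [← hT]; exact Subgroup.card_dvd_of_le hTL
  by_cases hr1 : PRankLE t 1 ↥L
  · by_cases hd : t ∣ Nat.card ↥⁅L, L⁆
    · have ht3 : t ∈ tau3 L := ⟨ht, htL, hd, hr1⟩
      exact hLH (bg13u_norm_uniq_tau3 hG hL ht3 hTL hT hpp hP hPD H hH hNP).symm
    · have ht1 : t ∈ tau1 L := ⟨ht, htL, htdL, hd, hr1⟩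
      exact hLH ((bg13u_cent_uniq_tau1 hG hL ht1 hTL hT hpp hP hPD).2 H hH
        ((centralizer_le_normalizer _).trans hNP)).symm
  · have ht2 : t ∈ tau2 L := ⟨ht, htL, bg10_pRank_of_not_alpha L t ht
      (fun h => htL (bg10_alpha_sub_sigma hG hU hL h)), hr1⟩
    refine bg13u_star_not_tau2 hG hM hL hLM htM htL hTM hTL hT ?_ ?_ ht2
    · intro h
      rw [h] at hPD
      exact hP1 (le_bot_iff.mp hPD)
    · intro h
      have h1 : P ≤ (M ⊓ L) ⊓ sigmaCore L := le_inf (le_inf hPM hPL) hPLσ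
      rw [h] at h1
      exact hP1 (le_bot_iff.mp h1)

/-- In the situation of `bg13u_over_sigma`: `N_G(T₀) ≤ M` for every subgroup `T₀` of prime order
of `C_{M_σ}(P)`. -/
theorem bg13u_star_norm_le (hG : IsMinSimpleOddOrder G) {M P T₀ : Subgroup G} {p t : ℕ}
    (hM : IsCoatom M) (hpp : p.Prime) (hpσ : p ∉ sigma M) (hp1 : PRankLE p 1 ↥M) (hPM : P ≤ M)
    (hP : Nat.card P = p) (ht : t.Prime) (hT : Nat.card T₀ = t)
    (hTD : T₀ ≤ sigmaCore M ⊓ centralizer (P : Set G)) : normalizer (T₀ : Set G) ≤ M := by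
  have hU : BGUniq G := fun K hK h1 h2 => Cfsg.Agent.S1403.result hG K hK h1 h2
  have : Fact p.Prime := ⟨hpp⟩
  have : Fact t.Prime := ⟨ht⟩
  have hσM : sigmaCore M ≤ M := piCoreOf_le (sigma M) M
  have hTσ : T₀ ≤ sigmaCore M := hTD.trans inf_le_left
  have hTM : T₀ ≤ M := hTσ.trans hσM
  have hTP : T₀ ≤ centralizer (P : Set G) := hTD.trans inf_le_right
  have hTt : IsPGroup t T₀ := IsPGroup.of_card (n := 1) (by rw [hT, pow_one])
  have hT1 : T₀ ≠ ⊥ := by
    intro h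
    rw [h, Subgroup.card_bot] at hT
    exact ht.one_lt.ne hT
  have hPp : IsPGroup p P := IsPGroup.of_card (n := 1) (by rw [hP, pow_one])
  have hP1 : P ≠ ⊥ := by
    intro h
    rw [h, Subgroup.card_bot] at hP
    exact hpp.one_lt.ne hP
  have hD : sigmaCore M ⊓ centralizer (P : Set G) ≠ ⊥ := fun h => hT1 (le_bot_iff.mp (h ▸ hTD))
  have htM : t ∈ sigma M := mem_of_dvd_card_piCoreOf (sigma M) M ht (by
    rw [← hT]; exact Subgroup.card_dvd_of_le hTσ)
  -- `H` over `N_G(P)`, `p ∈ σ(H)`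
  obtain ⟨H, hH, hNP⟩ := Helper68.bg13_exists_over hG hpp hP
  have hpH : p ∈ sigma H := bg13u_over_sigma hG hM hpp hpσ hp1 hPM hP hD hH hNP
  obtain ⟨hnc, -⟩ := bg13u_nc_over hG hpp hpσ hp1 hP hH hNP
  have hHM : H ≠ M := fun h => hpσ (h ▸ hpH)
  have htH : t ∉ sigma H := by
    intro h
    obtain ⟨g, hg⟩ := (Cfsg.Agent.S1378.result hG).2 M H hM hH ⟨t, htM, h⟩
    exact hnc g hg
  have hTH : T₀ ≤ H := hTP.trans ((centralizer_le_normalizer _).trans hNP)
  have hPH : P ≤ H := le_normalizer.trans hNP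
  have hPHσ : P ≤ sigmaCore H := bg12_le_sigmaCore hG hU hH hpp hpH hPH hPp
  have hPcT : P ≤ centralizer (T₀ : Set G) := by
    intro a ha
    rw [mem_centralizer_iff]
    intro z hz
    exact (mem_centralizer_iff.mp (hTP hz) a ha).symm
  have hC : sigmaCore H ⊓ centralizer (T₀ : Set G) ≠ ⊥ := by
    intro h
    have h1 : P ≤ sigmaCore H ⊓ centralizer (T₀ : Set G) := le_inf hPHσ hPcT
    rw [h] at h1
    exact hP1 (le_bot_iff.mp h1)
  have hne : (M ⊓ H) ⊓ sigmaCore H ≠ ⊥ := by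
    intro h
    have h1 : P ≤ (M ⊓ H) ⊓ sigmaCore H := le_inf (le_inf hPM hPH) hPHσ
    rw [h] at h1
    exact hP1 (le_bot_iff.mp h1)
  have ht2 : t ∉ tau2 H := bg13u_star_not_tau2 hG hM hH hHM htM htH hTM hTH hT hC hne
  have hr1 : PRankLE t 1 ↥H := by
    by_contra h
    exact ht2 ⟨ht, htH, bg10_pRank_of_not_alpha H t ht
      (fun h' => htH (bg10_alpha_sub_sigma hG hU hH h')), h⟩
  -- `L'` over `N_G(T₀)` has `t ∈ σ(L')`, so it is a conjugate of `M`
  obtain ⟨L', hL', hNT⟩ := Helper68.bg13_exists_over hG ht hT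
  have htL' : t ∈ sigma L' := bg13u_over_sigma hG hH ht htH hr1 hTH hT hC hL' hNT
  obtain ⟨g, hg⟩ := (Cfsg.Agent.S1378.result hG).2 M L' hM hL' ⟨t, htM, htL'⟩
  have hTL' : T₀ ≤ L' := le_normalizer.trans hNT
  have hconj : T₀.map (MulAut.conj g⁻¹).toMonoidHom ≤ M := by
    rintro _ ⟨z, hz, rfl⟩
    have h1 : z ∈ M.map (MulAut.conj g).toMonoidHom := by rw [← hg]; exact hTL' hz
    obtain ⟨m, hm, hmz⟩ := h1
    have h2 : g * m * g⁻¹ = z := hmz
    show g⁻¹ * z * g⁻¹⁻¹ ∈ M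
    rw [← h2]
    have e : g⁻¹ * (g * m * g⁻¹) * g⁻¹⁻¹ = m := by group
    rw [e]
    exact hm
  obtain ⟨m, hm, c, hc, hgmc⟩ :=
    (Cfsg.Agent.S1404.result hG M hM t htM T₀ hTt hT1 hTM).1 g⁻¹ hconj
  intro n hn
  have hcN : c ∈ normalizer (T₀ : Set G) := centralizer_le_normalizer _ hc
  have hn' : c⁻¹ * n * c ∈ normalizer (T₀ : Set G) :=
    Subgroup.mul_mem _ (Subgroup.mul_mem _ (Subgroup.inv_mem _ hcN) hn) hcN
  have h1 : c⁻¹ * n * c ∈ M.map (MulAut.conj g).toMonoidHom := by rw [← hg]; exact hNT hn'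
  obtain ⟨m0, hm0, hm0n⟩ := h1
  have h2 : g * m0 * g⁻¹ = c⁻¹ * n * c := hm0n
  have hg' : g = c⁻¹ * m⁻¹ := by
    have h3 : g = (g⁻¹)⁻¹ := (inv_inv g).symm
    rw [h3, hgmc, mul_inv_rev]
  rw [hg'] at h2
  have e : n = m⁻¹ * m0 * m := by
    have h4 : c⁻¹ * m⁻¹ * m0 * (c⁻¹ * m⁻¹)⁻¹ = c⁻¹ * n * c := h2
    have h5 : n = c * (c⁻¹ * n * c) * c⁻¹ := by group
    rw [h5, ← h4]
    group
  rw [e]
  exact M.mul_mem (M.mul_mem (M.inv_mem hm) hm0) hm

end Cfsg.Agent.Helper24
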