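/- helper24: piece D3 of CALL S1351D (helper1). -/
import Cfsg.Agent.Helper1.BGSDefs
import Cfsg.Agent.Helper68.BG123

set_option autoImplicit false

namespace Cfsg.Agent.Helper24

open Cfsg Subgroup Cfsg.Agent.Helper1

universe u v

variable {G : Type u} [Group G]

/-- D3: `starHat` is a TI-subset with normalizer inside `W`. -/
theorem bgs_hat_ti [Finite G] (hG : IsMinSimpleOddOrder G) {ι : Type v}
    {M : ι → Subgroup G} {W : Subgroup G} (h : StarFamily M W) {w c : G}
    (hw : w ∈ starHat M W) (hc : c * w * c⁻¹ ∈ starHat M W) : c ∈ W := by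
  have hU : Helper22.BGUniq G := fun K hK h1 h2 => Cfsg.Agent.S1403.result hG K hK h1 h2
  obtain ⟨hwW, i, k, hik, ⟨p, hp, hpw⟩, ⟨q, hq, hqw⟩⟩ := hw
  have hcW : c * w * c⁻¹ ∈ W := hc.1
  have how : orderOf w ≠ 0 := (orderOf_pos w).ne'
  -- the key claim: a prime of `σ(M i)` dividing the order of `w` forces `c ∈ M i`
  have key : ∀ (i : ι) (p : ℕ), W ≤ M i → p ∈ sigma (M i) → p ∣ orderOf w → c ∈ M i := by
    intro i p hWi hp hpw
    have hpp : p.Prime := hp.1
    obtain ⟨d, hddef⟩ : ∃ d : G, d = w ^ (orderOf w / p) := ⟨_, rfl⟩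
    have hdo : orderOf d = p := by rw [hddef]; exact orderOf_pow_orderOf_div how hpw
    have hdW : d ∈ W := by rw [hddef]; exact W.pow_mem hwW _
    have hdp : d ^ p = 1 := by rw [← hdo]; exact pow_orderOf_eq_one d
    have hd1 : d ≠ 1 := by
      intro h1
      rw [h1, orderOf_one] at hdo
      exact hpp.one_lt.ne hdo
    have hdσ : d ∈ sigmaCore (M i) :=
      Helper68.bg123_mem_sigmaCore hG hU (h.coatom i) hp (hWi hdW) hdp
    have hgood : centralizer ({d} : Set G) ≤ M i :=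
      h.good i d (Subgroup.mem_inf.mpr ⟨hdσ, hdW⟩) hd1
    have hconj : c⁻¹⁻¹ * d * c⁻¹ ∈ M i := by
      rw [inv_inv, hddef, ← conj_pow]
      exact hWi (W.pow_mem hcW _)
    obtain ⟨c', hc', m, hm, hcm⟩ :=
      Cfsg.Agent.Helper54.bg14t_trans hG (h.coatom i) hdσ hd1 hconj
    have h2 : c⁻¹ ∈ M i := by
      rw [hcm]; exact (M i).mul_mem (hgood hc') hm
    have h3 := (M i).inv_mem h2
    rwa [inv_inv] at h3
  have hW : M i ⊓ M k = W := h.inf_eq i k hik
  have hWi : W ≤ M i := by rw [← hW]; exact inf_le_left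
  have hWk : W ≤ M k := by rw [← hW]; exact inf_le_right
  rw [← hW]
  exact Subgroup.mem_inf.mpr ⟨key i p hWi hp hpw, key k q hWk hq hqw⟩

end Cfsg.Agent.Helper24
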