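/- helper24: piece D3b of CALL S1351D (helper1). -/
import Cfsg.Agent.Helper1.BGSDefs

set_option autoImplicit false

namespace Cfsg.Agent.Helper24

open Cfsg Subgroup Cfsg.Agent.Helper1

universe u v

variable {G : Type u} [Group G]

/-- D3b: `starHat` is invariant under conjugation by `W`. -/
theorem bgs_hat_inv {ι : Type v} (M : ι → Subgroup G) (W : Subgroup G) {u a : G}
    (hu : u ∈ W) (ha : a ∈ starHat M W) : u * a * u⁻¹ ∈ starHat M W := by
  obtain ⟨haW, j, k, hjk, hp, hq⟩ := ha
  have ho : orderOf (u * a * u⁻¹) = orderOf a := (MulAut.conj u).orderOf_eq a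
  refine ⟨W.mul_mem (W.mul_mem hu haW) (W.inv_mem hu), j, k, hjk, ?_, ?_⟩
  · rw [ho]; exact hp
  · rw [ho]; exact hq

end Cfsg.Agent.Helper24
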