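/- helper24: piece D7 of CALL S1351D (helper1). -/
import Cfsg.Agent.Helper1.BGSDefs
import Cfsg.Agent.Helper51.Replace

set_option autoImplicit false

namespace Cfsg.Agent.Helper24

open Cfsg Subgroup Cfsg.Agent.Helper1

universe u v

variable {G : Type u} [Group G]

/-- D7: `|M j| |D_j| = |(M j)_σ| |W|`. -/
theorem bgs_card_M [Finite G] {ι : Type v} {M : ι → Subgroup G} {W : Subgroup G}
    (h : StarFamily M W) (j k : ι) (hjk : j ≠ k) :
    Nat.card (M j) * Nat.card ↥(sigmaCore (M j) ⊓ W) =
      Nat.card ↥(sigmaCore (M j)) * Nat.card W := by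
  have hW : M j ⊓ M k = W := h.inf_eq j k hjk
  have hWj : W ≤ M j := by rw [← hW]; exact inf_le_left
  have hσ : sigmaCore (M j) ≤ M j := Helper23.piCoreOf_le (sigma (M j)) (M j)
  have hn : W ≤ normalizer ((sigmaCore (M j) : Subgroup G) : Set G) :=
    hWj.trans (Helper23.le_normalizer_piCoreOf (sigma (M j)) (M j))
  have hsup : W ⊔ sigmaCore (M j) = M j := by
    apply le_antisymm (sup_le hWj hσ)
    intro m hm
    obtain ⟨n, hn', w, hw, rfl⟩ := h.sup_eq j m hm
    exact Subgroup.mul_mem _ (Subgroup.mem_sup_right hn') (Subgroup.mem_sup_left hw)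
  have key := Helper51.card_sup_mul_card_inf_of_le_normalizer W (sigmaCore (M j)) hn
  rw [hsup, inf_comm] at key
  rw [key, mul_comm]

end Cfsg.Agent.Helper24
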