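/- helper24: piece D8 of CALL S1351D (helper1). -/
import Cfsg.Agent.Helper1.BGSDefs

set_option autoImplicit false

namespace Cfsg.Agent.Helper24

open Cfsg Subgroup Cfsg.Agent.Helper1

universe u v

variable {G : Type u} [Group G]

/-- D8: `D_j` has index at least `3` in `(M j)_σ`. -/
theorem bgs_three [Finite G] (hG : IsMinSimpleOddOrder G) {ι : Type v} {M : ι → Subgroup G}
    {W : Subgroup G} (h : StarFamily M W) (j : ι) :
    3 * Nat.card ↥(sigmaCore (M j) ⊓ W) ≤ Nat.card ↥(sigmaCore (M j)) := by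
  have hdvd : Nat.card ↥(sigmaCore (M j) ⊓ W) ∣ Nat.card ↥(sigmaCore (M j)) :=
    Subgroup.card_dvd_of_le inf_le_left
  obtain ⟨c, hc⟩ := hdvd
  have hodd : Odd (Nat.card ↥(sigmaCore (M j))) := Helper23.uq_odd hG (sigmaCore (M j))
  have hpos : 0 < Nat.card ↥(sigmaCore (M j)) := Nat.card_pos
  have hcodd : Odd c := by
    rw [hc] at hodd
    exact (Nat.odd_mul.mp hodd).2
  have hc1 : c ≠ 1 := by
    intro h1
    rw [h1, mul_one] at hc
    apply h.proper j
    have e : sigmaCore (M j) ⊓ W = sigmaCore (M j) :=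
      Subgroup.eq_of_le_of_card_ge inf_le_left hc.le
    rw [← e]
    exact inf_le_right
  have hc3 : 3 ≤ c := by
    obtain ⟨r, hr⟩ := hcodd
    omega
  rw [hc]
  calc 3 * Nat.card ↥(sigmaCore (M j) ⊓ W) = Nat.card ↥(sigmaCore (M j) ⊓ W) * 3 := mul_comm _ _
    _ ≤ Nat.card ↥(sigmaCore (M j) ⊓ W) * c := Nat.mul_le_mul_left _ hc3

end Cfsg.Agent.Helper24
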