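/-
helper24: lemmas for part (C) of the S1351 plan (the family of maximal subgroups `H_Y` over
`N_G(Y)`, `Y` a normal nonregular subgroup of prime order of a complement `E` of `M_σ`).
* `bg13w_sigma_inf`   : `M_σ ∩ H ≤ C_G(Y)` for `Y ≤ M ∩ H_σ`, `H` not conjugate to `M`;
* `bg13w_eq_of_conj`  : a conjugate `H^g ≥ N_G(Y')` of `H`, `Y' ≤ H` a `σ(H)`-subgroup, is `H`;
* `bg13w_good`        : `C_G(d) ≤ M` for `1 ≠ d ∈ C_{M_σ}(Y)`;
* `bg13w_over`        : the package for `H ≥ N_G(Y)`.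
-/
import Cfsg.Agent.Helper24.BG13V

set_option autoImplicit false

namespace Cfsg.Agent.Helper24

open Cfsg Subgroup Cfsg.Agent.Helper22 Cfsg.Agent.Helper23 Cfsg.Agent.Helper35
open scoped Pointwise commutatorElement

universe u

variable {G : Type u} [Group G] [Finite G]

/-- `σ`-cores of non-conjugate maximal subgroups meet trivially. -/
theorem bg13w_sigmaCore_inf (hG : IsMinSimpleOddOrder G) {M H : Subgroup G} (hM : IsCoatom M)
    (hH : IsCoatom H) (hnc : ∀ g : G, H ≠ M.map (MulAut.conj g).toMonoidHom) :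
    sigmaCore M ⊓ sigmaCore H = ⊥ := by
  apply Helper68.bg123_inf_eq_bot
  apply Nat.coprime_of_dvd
  intro k hk hkM hkH
  obtain ⟨g, hg⟩ := (Cfsg.Agent.S1378.result hG).2 M H hM hH
    ⟨k, mem_of_dvd_card_piCoreOf (sigma M) M hk hkM, mem_of_dvd_card_piCoreOf (sigma H) H hk hkH⟩
  exact hnc g hg

/-- (W2) `M_σ ∩ H ≤ C_G(Y)` for `Y ≤ M ∩ H_σ`, `H` not conjugate to `M`. -/
theorem bg13w_sigma_inf (hG : IsMinSimpleOddOrder G) {M H Y : Subgroup G} (hM : IsCoatom M)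
    (hH : IsCoatom H) (hnc : ∀ g : G, H ≠ M.map (MulAut.conj g).toMonoidHom) (hYM : Y ≤ M)
    (hYH : Y ≤ sigmaCore H) : sigmaCore M ⊓ H ≤ centralizer (Y : Set G) := by
  have h0 := bg13w_sigmaCore_inf hG hM hH hnc
  rintro x ⟨hxM, hxH⟩
  rw [mem_centralizer_iff]
  intro a ha
  have haN : a ∈ normalizer ((sigmaCore M : Subgroup G) : Set G) :=
    le_normalizer_piCoreOf (sigma M) M (hYM ha)
  have hxN : x ∈ normalizer ((sigmaCore H : Subgroup G) : Set G) :=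
    le_normalizer_piCoreOf (sigma H) H hxH
  have h1 : x * a * x⁻¹ * a⁻¹ ∈ sigmaCore M := by
    have h : a * x⁻¹ * a⁻¹ ∈ sigmaCore M :=
      (mem_normalizer_iff.mp haN x⁻¹).mp (Subgroup.inv_mem _ hxM)
    have e : x * a * x⁻¹ * a⁻¹ = x * (a * x⁻¹ * a⁻¹) := by group
    rw [e]
    exact Subgroup.mul_mem _ hxM h
  have h2 : x * a * x⁻¹ * a⁻¹ ∈ sigmaCore H := by
    have h : x * a * x⁻¹ ∈ sigmaCore H := (mem_normalizer_iff.mp hxN a).mp (hYH ha)
    exact Subgroup.mul_mem _ h (Subgroup.inv_mem _ (hYH ha))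
  have h3 : x * a * x⁻¹ * a⁻¹ ∈ sigmaCore M ⊓ sigmaCore H := ⟨h1, h2⟩
  rw [h0] at h3
  exact (mul_inv_eq_iff_eq_mul.mp (mul_inv_eq_one.mp (Subgroup.mem_bot.mp h3))).symm

/-- (W3) If `H' ≥ N_G(Y')` is a conjugate of `H`, where `Y' ≤ H` is a non-trivial `q`-subgroup,
`q ∈ σ(H)`, then `H' = H`. -/
theorem bg13w_eq_of_conj (hG : IsMinSimpleOddOrder G) {H H' Y' : Subgroup G} {q : ℕ}
    [Fact q.Prime] (hH : IsCoatom H) (hq : q ∈ sigma H) (hY'H : Y' ≤ H) (hY'q : IsPGroup q Y')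
    (hY'1 : Y' ≠ ⊥) (hNY' : normalizer (Y' : Set G) ≤ H') {g : G}
    (hg : H' = H.map (MulAut.conj g).toMonoidHom) : H' = H := by
  have hY'H' : Y' ≤ H' := le_normalizer.trans hNY'
  have hconj : Y'.map (MulAut.conj g⁻¹).toMonoidHom ≤ H := by
    rintro _ ⟨z, hz, rfl⟩
    have h1 : z ∈ H.map (MulAut.conj g).toMonoidHom := by rw [← hg]; exact hY'H' hz
    obtain ⟨m, hm, hmz⟩ := h1
    have h2 : g * m * g⁻¹ = z := hmz
    show g⁻¹ * z * g⁻¹⁻¹ ∈ H
    rw [← h2]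
    have e : g⁻¹ * (g * m * g⁻¹) * g⁻¹⁻¹ = m := by group
    rw [e]
    exact hm
  obtain ⟨m, hm, c, hc, hgmc⟩ :=
    (Cfsg.Agent.S1404.result hG H hH q hq Y' hY'q hY'1 hY'H).1 g⁻¹ hconj
  have hg' : g = c⁻¹ * m⁻¹ := by
    have h3 : g = (g⁻¹)⁻¹ := (inv_inv g).symm
    rw [h3, hgmc, mul_inv_rev]
  have hcH' : c ∈ H.map (MulAut.conj g).toMonoidHom := by
    rw [← hg]; exact hNY' (centralizer_le_normalizer _ hc)
  obtain ⟨h0, hh0, hh0c⟩ := hcH'
  have h4 : g * h0 * g⁻¹ = c := hh0c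
  have hcH : c ∈ H := by
    have e : c = m⁻¹ * h0 * m := by
      rw [hg'] at h4
      have h5 : c = c * (c⁻¹ * m⁻¹ * h0 * (c⁻¹ * m⁻¹)⁻¹) * c⁻¹ := by rw [h4]; group
      rw [h5]
      group
    rw [e]
    exact H.mul_mem (H.mul_mem (H.inv_mem hm) hh0) hm
  have hgH : g ∈ H := by
    rw [hg']; exact H.mul_mem (H.inv_mem hcH) (H.inv_mem hm)
  rw [hg]
  ext x
  constructor
  · rintro ⟨h1, hh1, rfl⟩
    exact H.mul_mem (H.mul_mem hgH hh1) (H.inv_mem hgH)
  · intro hx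
    refine ⟨g⁻¹ * x * g, H.mul_mem (H.mul_mem (H.inv_mem hgH) hx) hgH, ?_⟩
    show g * (g⁻¹ * x * g) * g⁻¹ = x
    group

/-- (W4) `C_G(d) ≤ M` for `1 ≠ d ∈ C_{M_σ}(P)`, `P ≤ M` of prime order `p ∉ σ(M)`, `M` of `p`-rank
one. -/
theorem bg13w_good (hG : IsMinSimpleOddOrder G) {M P : Subgroup G} {p : ℕ}
    (hM : IsCoatom M) (hpp : p.Prime) (hpσ : p ∉ sigma M) (hp1 : PRankLE p 1 ↥M) (hPM : P ≤ M)
    (hP : Nat.card P = p) {d : G} (hd : d ∈ sigmaCore M ⊓ centralizer (P : Set G)) (hd1 : d ≠ 1) :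
    centralizer ({d} : Set G) ≤ M := by
  have hod : orderOf d ≠ 0 := (orderOf_pos d).ne'
  have hod1 : orderOf d ≠ 1 := fun h => hd1 (orderOf_eq_one_iff.mp h)
  obtain ⟨t, ht, htd⟩ := Nat.exists_prime_and_dvd hod1
  obtain ⟨y, hydef⟩ : ∃ y : G, y = d ^ (orderOf d / t) := ⟨_, rfl⟩
  have hyo : orderOf y = t := by rw [hydef]; exact orderOf_pow_orderOf_div hod htd
  have hT : Nat.card (zpowers y) = t := by rw [Nat.card_zpowers]; exact hyo
  have hyD : y ∈ sigmaCore M ⊓ centralizer (P : Set G) := by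
    rw [hydef]; exact Subgroup.pow_mem _ hd _
  have hTD : zpowers y ≤ sigmaCore M ⊓ centralizer (P : Set G) := (zpowers_le).mpr hyD
  have hN := bg13u_star_norm_le hG hM hpp hpσ hp1 hPM hP ht hT hTD
  intro z hz
  apply hN
  apply centralizer_le_normalizer
  have hzd : d * z = z * d := mem_centralizer_iff.mp hz d rfl
  rw [mem_centralizer_iff]
  intro w hw
  obtain ⟨k, rfl⟩ := mem_zpowers_iff.mp hw
  have h1 : Commute d z := hzd
  have h2 : Commute y z := by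
    rw [hydef]
    exact h1.pow_left _
  exact (h2.zpow_left k).eq

/-- (W1) The package for a maximal subgroup `H` over `N_G(Y)`, `Y ≤ E` normal in `E` of prime
order `y ∉ σ(M)`, `M` of `y`-rank one, `C_{M_σ}(Y) ≠ 1`. -/
theorem bg13w_over (hG : IsMinSimpleOddOrder G) {M E Y H : Subgroup G} {y : ℕ}
    (hM : IsCoatom M) (hE : IsComplIn E (sigmaCore M) M) (hy : y.Prime) (hyσ : y ∉ sigma M)
    (hy1 : PRankLE y 1 ↥M) (hYE : Y ≤ E) (hY : Nat.card Y = y)
    (hZ : sigmaCore M ⊓ centralizer (Y : Set G) ≠ ⊥) (hEY : E ≤ normalizer (Y : Set G))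
    (hH : IsCoatom H) (hNY : normalizer (Y : Set G) ≤ H) :
    y ∈ sigma H ∧ Y ≤ sigmaCore H ∧ (∀ g : G, H ≠ M.map (MulAut.conj g).toMonoidHom) ∧
      sigmaCore M ⊓ H = sigmaCore M ⊓ centralizer (Y : Set G) ∧
      M ⊓ H = (sigmaCore M ⊓ centralizer (Y : Set G)) ⊔ E ∧
      (∀ L : Subgroup G, IsCoatom L → normalizer (Y : Set G) ≤ L → L = H) ∧
      (∀ t : ℕ, t.Prime → t ∣ Nat.card ↥(sigmaCore M ⊓ centralizer (Y : Set G)) →
        t ∉ sigma H ∧ PRankLE t 1 ↥H) := by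
  have hU : BGUniq G := fun K hK h1 h2 => Cfsg.Agent.S1403.result hG K hK h1 h2
  have : Fact y.Prime := ⟨hy⟩
  have hσM : sigmaCore M ≤ M := piCoreOf_le (sigma M) M
  have hYM : Y ≤ M := hYE.trans hE.1
  have hYH : Y ≤ H := le_normalizer.trans hNY
  have hYy : IsPGroup y Y := IsPGroup.of_card (n := 1) (by rw [hY, pow_one])
  have hY1 : Y ≠ ⊥ := by
    intro h
    rw [h, Subgroup.card_bot] at hY
    exact hy.one_lt.ne hY
  have hyH : y ∈ sigma H := bg13u_over_sigma hG hM hy hyσ hy1 hYM hY hZ hH hNY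
  have hYσ : Y ≤ sigmaCore H := bg12_le_sigmaCore hG hU hH hy hyH hYH hYy
  obtain ⟨hnc, -⟩ := bg13u_nc_over hG hy hyσ hy1 hY hH hNY
  have hHM : H ≠ M := fun h => hyσ (h ▸ hyH)
  have hCH : centralizer (Y : Set G) ≤ H := (centralizer_le_normalizer _).trans hNY
  have hinf : sigmaCore M ⊓ H = sigmaCore M ⊓ centralizer (Y : Set G) :=
    le_antisymm (le_inf inf_le_left (bg13w_sigma_inf hG hM hH hnc hYM hYσ))
      (le_inf inf_le_left (inf_le_right.trans hCH))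
  -- the primes of `Z`
  have hprime : ∀ t : ℕ, t.Prime → t ∣ Nat.card ↥(sigmaCore M ⊓ centralizer (Y : Set G)) →
      t ∉ sigma H ∧ PRankLE t 1 ↥H ∧
        ∀ L : Subgroup G, IsCoatom L → normalizer (Y : Set G) ≤ L → L = H := by
    intro t ht htZ
    have : Fact t.Prime := ⟨ht⟩
    obtain ⟨x₀, hx₀⟩ := exists_prime_orderOf_dvd_card'
      (G := ↥(sigmaCore M ⊓ centralizer (Y : Set G))) t htZ
    obtain ⟨x, hxdef⟩ : ∃ x : G, x = (x₀ : G) := ⟨_, rfl⟩
    have hxo : orderOf x = t := by rw [hxdef, Subgroup.orderOf_coe]; exact hx₀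
    have hxZ : x ∈ sigmaCore M ⊓ centralizer (Y : Set G) := by rw [hxdef]; exact x₀.2
    have hT : Nat.card (zpowers x) = t := by rw [Nat.card_zpowers]; exact hxo
    have hTZ : zpowers x ≤ sigmaCore M ⊓ centralizer (Y : Set G) := (zpowers_le).mpr hxZ
    have hTσ : zpowers x ≤ sigmaCore M := hTZ.trans inf_le_left
    have hTM : zpowers x ≤ M := hTσ.trans hσM
    have hTH : zpowers x ≤ H := (hTZ.trans inf_le_right).trans hCH
    have htM : t ∈ sigma M := mem_of_dvd_card_piCoreOf (sigma M) M ht (by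
      rw [← hT]; exact Subgroup.card_dvd_of_le hTσ)
    have htH : t ∉ sigma H := by
      intro h
      obtain ⟨g, hg⟩ := (Cfsg.Agent.S1378.result hG).2 M H hM hH ⟨t, htM, h⟩
      exact hnc g hg
    have hYcT : Y ≤ centralizer ((zpowers x : Subgroup G) : Set G) := by
      intro a ha
      rw [mem_centralizer_iff]
      intro z hz
      exact (mem_centralizer_iff.mp (hTZ hz).2 a ha).symm
    have hYD : Y ≤ sigmaCore H ⊓ centralizer ((zpowers x : Subgroup G) : Set G) :=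
      le_inf hYσ hYcT
    have hC : sigmaCore H ⊓ centralizer ((zpowers x : Subgroup G) : Set G) ≠ ⊥ := by
      intro h
      rw [h] at hYD
      exact hY1 (le_bot_iff.mp hYD)
    have hne : (M ⊓ H) ⊓ sigmaCore H ≠ ⊥ := by
      intro h
      have h1 : Y ≤ (M ⊓ H) ⊓ sigmaCore H := le_inf (le_inf hYM hYH) hYσ
      rw [h] at h1
      exact hY1 (le_bot_iff.mp h1)
    have ht2 : t ∉ tau2 H := bg13u_star_not_tau2 hG hM hH hHM htM htH hTM hTH hT hC hne
    have hr1 : PRankLE t 1 ↥H := by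
      by_contra h
      exact ht2 ⟨ht, htH, bg10_pRank_of_not_alpha H t ht
        (fun h' => htH (bg10_alpha_sub_sigma hG hU hH h')), h⟩
    refine ⟨htH, hr1, ?_⟩
    intro L hL hNL
    by_cases hd : t ∣ Nat.card ↥⁅H, H⁆
    · have ht3 : t ∈ tau3 H := ⟨ht, htH, hd, hr1⟩
      exact bg13u_norm_uniq_tau3 hG hH ht3 hTH hT hy hY hYD L hL hNL
    · have htdH : t ∣ Nat.card H := by rw [← hT]; exact Subgroup.card_dvd_of_le hTH
      have ht1 : t ∈ tau1 H := ⟨ht, htH, htdH, hd, hr1⟩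
      exact (bg13u_cent_uniq_tau1 hG hH ht1 hTH hT hy hY hYD).2 L hL
        ((centralizer_le_normalizer _).trans hNL)
  refine ⟨hyH, hYσ, hnc, hinf, ?_, ?_, fun t ht htZ => ⟨(hprime t ht htZ).1, (hprime t ht htZ).2.1⟩⟩
  · apply le_antisymm
    · rintro m ⟨hmM, hmH⟩
      obtain ⟨e, he, s, hs, rfl⟩ := hE.2.2.2 m hmM
      have heH : e ∈ H := hNY (hEY he)
      have hsH : s ∈ H := by
        have e1 : s = e⁻¹ * (e * s) := by group
        rw [e1]
        exact H.mul_mem (H.inv_mem heH) hmH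
      have hsZ : s ∈ sigmaCore M ⊓ centralizer (Y : Set G) := by
        rw [← hinf]; exact ⟨hs, hsH⟩
      exact Subgroup.mul_mem _ (Subgroup.mem_sup_right he) (Subgroup.mem_sup_left hsZ)
    · apply sup_le
      · exact le_inf (inf_le_left.trans hσM) (inf_le_right.trans hCH)
      · exact le_inf hE.1 (hEY.trans hNY)
  · have hcard : Nat.card ↥(sigmaCore M ⊓ centralizer (Y : Set G)) ≠ 1 := by
      intro h
      exact hZ (Subgroup.card_eq_one.mp h)
    obtain ⟨t, ht, htZ⟩ := Nat.exists_prime_and_dvd hcard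
    exact (hprime t ht htZ).2.2

end Cfsg.Agent.Helper24
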