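/-
helper24: CALL BG15 piece E2 (`bg15_chain_KU`): if `M_σ` is not nilpotent then `K ≠ 1` and `U = 1`
in a standard factorisation of `M`.
-/
import Cfsg.Agent.Helper22.Fitting
import Cfsg.Agent.Helper22.BG10b
import Cfsg.Agent.S1351
import Cfsg.Agent.S1352
import Cfsg.Agent.S1372
import Cfsg.Agent.S1403
import Cfsg.Agent.S1426
import Cfsg.Agent.S1429

set_option autoImplicit false

namespace Cfsg.Agent.Helper24

open Cfsg Subgroup

universe u

variable {G : Type u} [Group G] [Finite G]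

/-- A subgroup of `G` inside `F(M)` is nilpotent. -/
theorem bg15e2_nilpotent_of_le_fittingOf (M S : Subgroup G) (h : S ≤ fittingOf M) :
    Group.IsNilpotent ↥S := by
  have h1 : Group.IsNilpotent ↥(fittingSubgroup ↥M) :=
    Cfsg.Agent.Helper22.fittingSubgroup_isNilpotent ↥M
  have h2 : Group.IsNilpotent ↥(fittingOf M) :=
    Group.nilpotent_of_mulEquiv
      ((fittingSubgroup ↥M).equivMapOfInjective M.subtype M.subtype_injective)
  have h3 : Group.IsNilpotent ↥(S.subgroupOf (fittingOf M)) := inferInstance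
  exact Group.nilpotent_of_mulEquiv (Subgroup.subgroupOfEquivOfLe h)

/-- E2. If `M_σ` is not nilpotent then `K ≠ 1` and `U = 1` in a standard factorisation. -/
theorem bg15_chain_KU (hG : IsMinSimpleOddOrder G) (M : Subgroup G) (hM : IsCoatom M)
    (hnn : ¬ Group.IsNilpotent ↥(sigmaCore M)) :
    ∃ K U : Subgroup G, IsSigmaDecomposition M K U ∧ K ≠ ⊥ ∧ U = ⊥ := by
  have hU : Cfsg.Agent.Helper22.BGUniq G :=
    fun K hK h1 h2 => Cfsg.Agent.S1403.result hG K hK h1 h2
  obtain ⟨⟨K, hK⟩, hcyc⟩ := Cfsg.Agent.S1351.result hG M hM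
  have hKc : IsCyclic K := hcyc K hK
  obtain ⟨⟨U, hKU⟩, -⟩ := Cfsg.Agent.S1352.result hG M hM K hKc hK
  have hK1 : K ≠ ⊥ := by
    intro hKb
    -- `κ(M) = ∅`
    have hκ : ∀ p : ℕ, p ∉ kappa M := by
      intro p hp
      have h1 := hK.2.2 p hp.1 hp
      rw [hKb, Subgroup.relIndex_bot_left] at h1
      exact h1 hp.2.1
    by_cases hall : ∀ q : ℕ, q.Prime → q ∣ Nat.card M → q ∈ sigma M
    · -- `M = M_σ`
      obtain ⟨hhall, -, -⟩ := Cfsg.Agent.Helper22.bg10_sigma_hall hG hU hM
      have hidx : (sigmaCore M).relIndex M = 1 := by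
        by_contra hne
        obtain ⟨q, hq, hqd⟩ := Nat.exists_prime_and_dvd hne
        have hqM : q ∣ Nat.card M := hqd.trans (Subgroup.relIndex_dvd_card _ _)
        exact hhall.2.2 q hq (hall q hq hqM) hqd
      have hle : M ≤ sigmaCore M := Subgroup.relIndex_eq_one.mp hidx
      have hE : IsComplIn (⊥ : Subgroup G) (sigmaCore M) M := by
        refine ⟨bot_le, hhall.1, bot_inf_eq _, ?_⟩
        intro m hm
        exact ⟨1, Subgroup.mem_bot.mpr rfl, m, hle hm, (one_mul m).symm⟩
      have h26 := (Cfsg.Agent.S1426.result hG M hM ⊥ hE).2.1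
      rw [Subgroup.commutator_bot_right] at h26
      apply hnn
      rw [← h26]
      infer_instance
    · push Not at hall
      obtain ⟨q, hq, hqM, hqσ⟩ := hall
      have : Fact q.Prime := ⟨hq⟩
      obtain ⟨S⟩ : Nonempty (Sylow q ↥M) := inferInstance
      have h29 := Cfsg.Agent.S1429.result hG M hM
        (fun h => hκ q (h q hq hqM hqσ)) q hqM
        (fun h => h.elim hqσ (hκ q)) S
      exact hnn h29.2.2
  refine ⟨K, U, hKU, hK1, ?_⟩
  by_contra hU1
  have h72 := (Cfsg.Agent.S1372.result hG M hM K U hKU hK1 hU1).2.2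
  exact hnn (bg15e2_nilpotent_of_le_fittingOf M (sigmaCore M) h72)

end Cfsg.Agent.Helper24
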