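/-
helper24: piece P4d of CALL S1421 (helper23, Bender–Glauberman Corollary 12.10-type statement):
the maximal subgroup `H` over `N_G(⟨e₁⟩)` cannot have `p ∈ σ(H)`.
-/
import Cfsg.Agent.Helper23.BG1210
import Cfsg.Agent.Helper1.Fpf
import Cfsg.Agent.Helper4.BG127P2
import Cfsg.Agent.Helper72.BG12Cor
import Cfsg.Agent.Helper72.BG12Cor2
import Cfsg.Agent.Helper49.OddCyclic
import Cfsg.Agent.S1403
import Cfsg.Agent.S1414
import Cfsg.Agent.S1416
import Cfsg.Agent.S1417
import Cfsg.Agent.S1418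

set_option autoImplicit false

namespace Cfsg.Agent.Helper24

open Cfsg Subgroup Cfsg.Agent.Helper22 Cfsg.Agent.Helper23 Cfsg.Agent.Helper35
open scoped Pointwise IsMulCommutative

universe u

/-- Variant of `Helper1.pow_eq_one_of_fpf` in which `x ^ r` and `y ^ r` only centralize `V`. -/
theorem bg1210d_fpf {G : Type*} [Group G] (V : Subgroup G) [IsMulCommutative V]
    (x y : G) (hx : x ∈ normalizer (V : Set G)) (hy : y ∈ normalizer (V : Set G))
    (hxy : x * y = y * x) (r : ℕ) (hr : r.Prime) (hxr : x ^ r ∈ centralizer (V : Set G))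
    (hyr : y ^ r ∈ centralizer (V : Set G)) (hfx : V ⊓ centralizer {x} = ⊥)
    (hfxy : ∀ t < r, V ⊓ centralizer {x ^ t * y} = ⊥) (v : G) (hv : v ∈ V) : v ^ r = 1 := by
  have key : ∀ z : normalizer (V : Set G), (z : G) ∈ centralizer (V : Set G) →
      Helper1.conjEnd V z = 1 := by
    intro z hz
    refine AddMonoidHom.ext fun w => ?_
    have h1 := (mem_centralizer_iff.mp hz) (w.toMul : G) w.toMul.2
    have h2 : ((Helper1.conjEnd V z w).toMul : G) = (w.toMul : G) := by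
      rw [Helper1.conjEnd_apply_coe, ← h1]; group
    exact Additive.toMul.injective (Subtype.ext h2)
  set X := Helper1.conjEnd V ⟨x, hx⟩ with hXdef
  set Y := Helper1.conjEnd V ⟨y, hy⟩ with hYdef
  have hcomm : Commute X Y := by
    have : Commute (⟨x, hx⟩ : normalizer (V : Set G)) ⟨y, hy⟩ := Subtype.ext hxy
    exact this.map (Helper1.conjEnd V)
  have hXr : X ^ r = 1 := by
    rw [hXdef, ← map_pow]
    exact key _ hxr
  have hYr : Y ^ r = 1 := by
    rw [hYdef, ← map_pow]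
    exact key _ hyr
  have hXt : ∀ t, X ^ t * Y = Helper1.conjEnd V (⟨x, hx⟩ ^ t * ⟨y, hy⟩) := by
    intro t; rw [map_mul, map_pow]
  exact Helper1.pow_eq_one_of_nsmul V r
    (Helper1.nsmul_eq_zero_of_fpf X Y hcomm r hr hXr hYr (Helper1.conjEnd_fix V ⟨x, hx⟩ hfx)
      (fun t ht w hw => by
        rw [hXt] at hw
        exact Helper1.conjEnd_fix V _ (hfxy t ht) w hw)) v hv

variable {G : Type u} [Group G] [Finite G]

/-- **Piece P4d of CALL S1421**: the case `p ∈ σ(H)`. -/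
theorem bg1210_step2_sigma (hG : IsMinSimpleOddOrder G) {M E : Subgroup G} (hM : IsCoatom M)
    (hE : IsComplIn E (sigmaCore M) M) {p : ℕ} [Fact p.Prime] (hp : p ∈ tau2 M)
    {P A : Subgroup G} (hS : BG1210Syl p E P A)
    (hdich : ∀ y ∈ normalizer (A : Set G), y ∉ centralizer (A : Set G) →
      A ⊓ centralizer ({y} : Set G) = ⊥)
    {r : ℕ} {e e₁ : G} (hr : r.Prime) (hrp : r ≠ p) (hrτ : r ∈ tau1 M ∪ tau3 M) (heE : e ∈ E)
    (heA : e ∉ centralizer (A : Set G)) (her : e ^ r ∈ centralizer (A : Set G))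
    (hek : ∃ k : ℕ, e ^ r ^ k = 1) (he₁ : e₁ ∈ zpowers e) (ho : orderOf e₁ = r)
    {H : Subgroup G} (hH : IsCoatom H) (hNH : normalizer (zpowers e₁ : Set G) ≤ H)
    (hAH : A ≤ H) (hpH : p ∈ sigma H) : False := by
  have hpp : p.Prime := Fact.out
  have : Fact r.Prime := ⟨hr⟩
  have hU : BGUniq G := fun K hK h1 h2 => Cfsg.Agent.S1403.result hG K hK h1 h2
  have hP4 : Helper72.B12P4 G := fun M hM p _ A hA => Cfsg.Agent.S1416.result hG M hM p A hA
  have hT5 : Helper72.B12T5 G := fun M hM p _ hp A hA =>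
    Cfsg.Agent.S1417.result hG M hM p hp A hA
  have hAE : A ≤ E := hS.leA.trans hS.le
  obtain ⟨⟨hEA, -⟩, ⟨hCA, -, -⟩, -⟩ :=
    Cfsg.Agent.S1418.result hG M hM E hE p hp A ⟨hAE, hS.elemA, hS.cardA⟩
  have hCAM : centralizer (A : Set G) ≤ M := hCA.trans inf_le_left
  have hApg : IsPGroup p A := bg11_isPGroup_of_elemAb hS.elemA
  have hAnc : ¬ IsCyclic A := by
    intro hc
    obtain ⟨g, hg⟩ := hc.exists_generator
    have h1 : orderOf g = Nat.card A := orderOf_eq_card_of_forall_mem_zpowers hg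
    have h2 : g ^ p = 1 := Subtype.ext (by rw [Subgroup.coe_pow]; exact hS.elemA.2 g g.2)
    have h3 : orderOf g ∣ p := orderOf_dvd_of_pow_eq_one h2
    rw [h1, hS.cardA] at h3
    have h4 := Nat.le_of_dvd hpp.pos h3
    have h5 := hpp.one_lt
    nlinarith
  have hNAH : normalizer (A : Set G) ≤ H :=
    Helper72.b12c_norm_noncyclic hG hU hP4 hH hpH hApg hAH hAnc
  have hEH : E ≤ H := hEA.trans hNAH
  have heH : e ∈ H := hEH heE
  have heM : e ∈ M := hE.1 heE
  have heN : e ∈ normalizer (A : Set G) := hEA heE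
  obtain ⟨k, hk⟩ := hek
  have hZr : IsPGroup r (zpowers e) := by
    rintro ⟨x, hx⟩
    refine ⟨k, Subtype.ext ?_⟩
    obtain ⟨i, rfl⟩ := mem_zpowers_iff.mp hx
    show (e ^ i) ^ r ^ k = 1
    rw [← zpow_natCast, ← zpow_mul, mul_comm, zpow_mul, zpow_natCast, hk, one_zpow]
  have he₁1 : e₁ ≠ 1 := by
    intro h
    rw [h, orderOf_one] at ho
    exact hr.one_lt.ne' ho.symm
  have he₁r : e₁ ^ r = 1 := by rw [← ho]; exact pow_orderOf_eq_one e₁
  have hZ1 : zpowers e₁ ≤ zpowers e := (zpowers_le).mpr he₁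
  have he₁H : e₁ ∈ H := hNH (le_normalizer (mem_zpowers e₁))
  have he₁M : e₁ ∈ M := (zpowers_le (H := M)).mpr heM he₁
  have hr2 : r ≠ 2 := by
    rintro rfl
    have h1 : 2 ∣ Nat.card G := ho ▸ orderOf_dvd_natCard e₁
    exact (Nat.not_even_iff_odd.mpr hG.1) (even_iff_two_dvd.mpr h1)
  -- `P` is a Sylow subgroup of `G` of rank two
  have hPsyl : IsSylowOf p P ⊤ := ⟨le_top, hS.pgroup, fun T _ hT hle => hS.sylG T hT hle⟩
  have hPrk : PRankLE p 2 ↥P := by
    intro B _ hB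
    have h1 : B.map P.subtype ≤ A := by
      rintro _ ⟨b, hb, rfl⟩
      exact hS.omega b b.2 (by have := hB b hb; simpa using congrArg Subtype.val this)
    have h2 : Nat.card (B.map P.subtype) = Nat.card B :=
      Subgroup.card_map_of_injective P.subtype_injective
    rw [← h2, ← hS.cardA]
    exact Subgroup.card_le_of_le h1
  have hrkH : PRankLE p 2 ↥H := pRankLE_of_le le_top (pRankLE_of_isSylowOf hPsyl hPrk)
  -- (i) `r ∉ σ(H)`
  have hrσ : r ∉ sigma H := by
    intro hrσ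
    have heσ : e ∈ sigmaCore H :=
      bg12_le_sigmaCore hG hU hH hr hrσ ((zpowers_le).mpr heH) hZr (mem_zpowers e)
    have hAσ : A ≤ sigmaCore H := bg12_le_sigmaCore hG hU hH hpp hpH hAH hApg
    have hpβ : p ∉ beta H := fun hβ => hβ.1.2 hrkH
    have hcompl : HasNormalPComplement p ↥(sigmaCore H) :=
      ((Cfsg.Agent.S1414.result hG H hH).2.2.2.2 p hpp hpH.2.1 hpβ).2.1
    apply heA
    rw [mem_centralizer_iff]
    intro a ha
    have hcop : (r ^ k).Coprime p := Nat.Coprime.pow_left k ((Nat.coprime_primes hr hpp).2 hrp)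
    have hb : (⟨e, heσ⟩ : ↥(sigmaCore H)) ^ r ^ k = 1 := Subtype.ext (by simpa using hk)
    have hord := Helper4.bg127_comm_order hpp hcop hcompl (b := ⟨e, heσ⟩) (c := ⟨a, hAσ ha⟩) hb
    have hcA : e * a * e⁻¹ * a⁻¹ ∈ A :=
      A.mul_mem ((mem_normalizer_iff.mp heN a).mp ha) (A.inv_mem ha)
    have hcp : ((⟨e, heσ⟩ : ↥(sigmaCore H)) * ⟨a, hAσ ha⟩ * (⟨e, heσ⟩ : ↥(sigmaCore H))⁻¹ *
        (⟨a, hAσ ha⟩ : ↥(sigmaCore H))⁻¹) ^ p = 1 :=
      Subtype.ext (by simpa using hS.elemA.2 _ hcA)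
    have h1 := orderOf_dvd_of_pow_eq_one hcp
    rcases (Nat.dvd_prime hpp).mp h1 with h2 | h2
    · have h3 := orderOf_eq_one_iff.mp h2
      have h4 : e * a * e⁻¹ * a⁻¹ = 1 := by simpa using congrArg Subtype.val h3
      exact (Helper68.bg123_comm_of_eq_one h4).symm
    · exact absurd (h2 ▸ dvd_rfl) hord
  -- (ii) `r ∈ τ₂(H)`
  have hrk1 : ¬ PRankLE r 1 ↥H := by
    intro h1
    obtain ⟨S, hSsyl, hZS⟩ := exists_isSylowOf_ge (hZr.to_le hZ1) ((zpowers_le).mpr he₁H)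
    have hScyc : IsCyclic S :=
      Helper49.isCyclic_of_pRankLE_one hr2 hSsyl.2.1 (pRankLE_of_le hSsyl.1 h1)
    have hNS : normalizer (S : Set G) ≤ H :=
      (Helper72.b12c_normalizer_cyclic_le hScyc hZS).trans hNH
    have hS1 : S ≠ ⊥ := fun h => he₁1 (by
      have := hZS (mem_zpowers e₁)
      rw [h] at this
      exact Subgroup.mem_bot.mp this)
    exact hrσ (bg12_mem_sigma hSsyl hS1 hNS)
  have hrτ2 : r ∈ tau2 H := ⟨hr, hrσ, bg10_pRank_of_not_alpha H r hr
    (fun h => hrσ (bg10_alpha_sub_sigma hG hU hH h)), hrk1⟩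
  -- (iii) `H_σ` is nilpotent and `P ⊴ H`, so `H ≤ N_G(A)`
  obtain ⟨B, hBH, hB, hBc⟩ := Helper72.b12c_exists_elemAb hrτ2
  obtain ⟨hnil, -⟩ := hT5 H hH r hrτ2 B ⟨hBH, hB, hBc⟩
  have hPH : P ≤ H := hS.le.trans hEH
  have hHP : H ≤ normalizer (P : Set G) := by
    obtain ⟨P₀, hP₀⟩ := sylowSet_nonempty (p := p) (sigmaCore H)
    have hHP₀ : H ≤ normalizer (P₀ : Set G) := bg11_sylow_normal hnil hP₀
    have hPσ : P ≤ sigmaCore H := bg12_le_sigmaCore hG hU hH hpp hpH hPH hS.pgroup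
    have h1 : IsPGroup p (P₀ ⊔ P : Subgroup G) :=
      IsPGroup.to_sup_of_normal_left' (isPGroup_of_mem_sylowSet hP₀) hS.pgroup (hPH.trans hHP₀)
    have h2 : P₀ ⊔ P = P := hS.sylG _ h1 le_sup_right
    have h3 : P₀ ≤ P := by rw [← h2]; exact le_sup_left
    have h4 : P = P₀ := eq_of_mem_sylowSet_of_le hP₀ hPσ hS.pgroup h3
    rw [h4]; exact hHP₀
  have hHA : H ≤ normalizer (A : Set G) := by
    intro h hh
    apply bg10_mem_normalizer
    intro a ha
    apply hS.omega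
    · exact (mem_normalizer_iff.mp (hHP hh) a).mp (hS.leA ha)
    · rw [conj_pow, hS.elemA.2 a ha]; group
  -- (iv) an element `b` of order `r` of `H` outside `M` commuting with `e`
  obtain ⟨S, hSsyl, heS⟩ := exists_isSylowOf_ge hZr ((zpowers_le).mpr heH)
  have hScomm := Helper72.b12c_tau2_comm hT5 hH hrτ2 hSsyl.1 hSsyl.2.1
  obtain ⟨S', hS'syl, hBS'⟩ := exists_isSylowOf_ge (bg11_isPGroup_of_elemAb hB) hBH
  obtain ⟨h, -, hconj⟩ := bg10_sylow_conj hS'syl hSsyl
  have hB' : IsElementaryAbelian r (MulAut.conj h • B) := Helper72.b12c_conj_elemAb hB h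
  have hB'c : Nat.card (MulAut.conj h • B : Subgroup G) = r ^ 2 := by rw [card_conj_smul, hBc]
  have hB'S : MulAut.conj h • B ≤ S := by rw [hconj]; exact conj_smul_le_conj_smul hBS'
  have hex : ∃ b ∈ MulAut.conj h • B, b ∉ zpowers e₁ := by
    by_contra hcon
    push Not at hcon
    have hle : MulAut.conj h • B ≤ zpowers e₁ := hcon
    have h1 := Subgroup.card_le_of_le hle
    rw [hB'c, Nat.card_zpowers, ho] at h1
    have h2 := hr.one_lt
    nlinarith
  obtain ⟨b, hbB, hbZ⟩ := hex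
  have hbS : b ∈ S := hB'S hbB
  have hbr : b ^ r = 1 := hB'.2 b hbB
  have hbH : b ∈ H := hSsyl.1 hbS
  have hbe : e * b = b * e := hScomm e (heS (mem_zpowers e)) b hbS
  have he₁S : e₁ ∈ S := heS (hZ1 (mem_zpowers e₁))
  have hbe₁ : e₁ * b = b * e₁ := hScomm e₁ he₁S b hbS
  have hrkM : PRankLE r 1 ↥M := by
    rcases hrτ with h | h
    · exact h.2.2.2.2
    · exact h.2.2.2
  have hbM : b ∉ M := by
    intro hbM
    have hD : IsElementaryAbelian r (zpowers e₁ ⊔ zpowers b) := by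
      refine bg11_sup_elemAb (bg11_zpowers_elemAb he₁r) (bg11_zpowers_elemAb hbr) ?_
      intro x hx y hy
      obtain ⟨i, rfl⟩ := mem_zpowers_iff.mp hx
      obtain ⟨j, rfl⟩ := mem_zpowers_iff.mp hy
      exact ((show Commute e₁ b from hbe₁).zpow_zpow i j).eq
    have hDM : zpowers e₁ ⊔ zpowers b ≤ M :=
      sup_le ((zpowers_le).mpr he₁M) ((zpowers_le).mpr hbM)
    have hcard := bg12_card_le_of_pRankLE hrkM hDM hD
    rw [pow_one] at hcard
    have h1 : zpowers e₁ = zpowers e₁ ⊔ zpowers b := by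
      refine Subgroup.eq_of_le_of_card_ge le_sup_left ?_
      rw [Nat.card_zpowers, ho]; exact hcard
    exact hbZ (h1 ▸ (le_sup_right : zpowers b ≤ zpowers e₁ ⊔ zpowers b) (mem_zpowers b))
  -- (v) the fixed-point-free action of `⟨e, b⟩` on `A`
  have : IsMulCommutative A := hS.elemA.1
  have hfpf : ∀ v ∈ A, v ^ r = 1 := by
    intro v hv
    refine bg1210d_fpf A e b heN (hHA hbH) hbe r hr her ?_ (hdich e heN heA) ?_ v hv
    · rw [hbr]; exact one_mem _
    · intro t _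
      refine hdich _ (mul_mem (pow_mem heN t) (hHA hbH)) ?_
      intro hc
      apply hbM
      have h1 : e ^ t * b ∈ M := hCAM hc
      have h2 : b = (e ^ t)⁻¹ * (e ^ t * b) := by group
      rw [h2]
      exact M.mul_mem (M.inv_mem (M.pow_mem heM t)) h1
  have hAbot : A = ⊥ := by
    rw [eq_bot_iff]
    intro v hv
    rw [Subgroup.mem_bot]
    have h1 : orderOf v ∣ r := orderOf_dvd_of_pow_eq_one (hfpf v hv)
    have h2 : orderOf v ∣ p := orderOf_dvd_of_pow_eq_one (hS.elemA.2 v hv)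
    have h3 : orderOf v ∣ Nat.gcd r p := Nat.dvd_gcd h1 h2
    rw [(Nat.coprime_primes hr hpp).2 hrp] at h3
    exact orderOf_eq_one_iff.mp (Nat.dvd_one.mp h3)
  have hc := hS.cardA
  rw [hAbot, Subgroup.card_bot] at hc
  have h5 := hpp.one_lt
  nlinarith

end Cfsg.Agent.Helper24
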