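/-
helper24 library, part 3: groups with a normal Sylow `p`-subgroup and trivial `p'`-core;
lifting elementary abelian subgroups through a `p'`-kernel.
Everything lives in `Cfsg.Agent.Helper24`.
-/
import Mathlib.GroupTheory.SchurZassenhaus
import Cfsg.Agent.Helper24.PLen
import Cfsg.Agent.Helper24.Coprime

set_option autoImplicit false
open Cfsg
open scoped commutatorElement Pointwise

namespace Cfsg.Agent.Helper24

variable {G : Type*} [Group G]

/-- A subgroup generated by pairwise commuting elements of order dividing `p` is elementary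
abelian. -/
theorem isElementaryAbelian_closure {p : ℕ} {S : Set G} (hcomm : ∀ x ∈ S, ∀ y ∈ S, x * y = y * x)
    (hpow : ∀ x ∈ S, x ^ p = 1) : IsElementaryAbelian p (Subgroup.closure S) := by
  have hc : IsMulCommutative (Subgroup.closure S) := Subgroup.isMulCommutative_closure hcomm
  refine ⟨hc, ?_⟩
  intro a ha
  induction ha using Subgroup.closure_induction with
  | mem x hx => exact hpow x hx
  | one => exact one_pow p
  | mul x y hx hy ihx ihy =>
    have hxy : Commute x y := by
      have := hc.is_comm.comm (⟨x, hx⟩ : Subgroup.closure S) ⟨y, hy⟩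
      exact congrArg Subtype.val this
    rw [hxy.mul_pow, ihx, ihy, one_mul]
  | inv x hx ih => rw [inv_pow, ih, inv_one]

theorem isPGroup_of_isElementaryAbelian {p : ℕ} {E : Subgroup G} (hE : IsElementaryAbelian p E) :
    IsPGroup p E := by
  intro x
  refine ⟨1, ?_⟩
  rw [pow_one]
  exact Subtype.ext (by simpa using hE.2 x x.2)

/-- The quotient by `O_{p'}(G)` has no nontrivial normal `p'`-subgroup. -/
theorem eq_bot_of_normal_coprime_quotient_pPrimeCore [Finite G] (p : ℕ) [Fact p.Prime]
    (D : Subgroup (G ⧸ pPrimeCore p G)) (hDn : D.Normal) (hD : (Nat.card D).Coprime p) : D = ⊥ := by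
  have hp : p.Prime := Fact.out
  set K := pPrimeCore p G with hK
  have hKcop : (Nat.card K).Coprime p := coprime_card_pPrimeCore p
  have hπ := QuotientGroup.mk'_surjective K
  have hcop : (Nat.card (D.comap (QuotientGroup.mk' K))).Coprime p := by
    rw [Nat.coprime_comm, Nat.Prime.coprime_iff_not_dvd hp]
    intro hdvd
    obtain ⟨x, hx⟩ := exists_prime_orderOf_dvd_card' p hdvd
    have hxD : QuotientGroup.mk' K (x : G) ∈ D := x.2
    have h1 : orderOf (QuotientGroup.mk' K (x : G)) ∣ p := by
      have := orderOf_map_dvd (QuotientGroup.mk' K) (x : G)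
      rwa [Subgroup.orderOf_coe, hx] at this
    have h2 : orderOf (QuotientGroup.mk' K (x : G)) ∣ Nat.card D := by
      have := orderOf_dvd_natCard (⟨_, hxD⟩ : D)
      rwa [Subgroup.orderOf_mk] at this
    have h3 : orderOf (QuotientGroup.mk' K (x : G)) = 1 :=
      Nat.eq_one_of_dvd_coprimes hD h2 h1
    have h4 : (x : G) ∈ K := by
      have h : (x : G) ∈ (QuotientGroup.mk' K).ker := orderOf_eq_one_iff.mp h3
      rwa [QuotientGroup.ker_mk'] at h
    have h5 : p ∣ Nat.card K := by
      have := orderOf_dvd_natCard (⟨(x : G), h4⟩ : K)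
      rwa [Subgroup.orderOf_mk, Subgroup.orderOf_coe, hx] at this
    rw [Nat.coprime_comm, Nat.Prime.coprime_iff_not_dvd hp] at hKcop
    exact hKcop h5
  have hle : D.comap (QuotientGroup.mk' K) ≤ K := le_pPrimeCore (hDn.comap _) hcop
  rw [← le_bot_iff, ← Subgroup.map_comap_eq_self_of_surjective hπ D]
  calc (D.comap (QuotientGroup.mk' K)).map (QuotientGroup.mk' K)
      ≤ K.map (QuotientGroup.mk' K) := Subgroup.map_mono hle
    _ = ⊥ := (Subgroup.map_eq_bot_iff K).mpr (by rw [QuotientGroup.ker_mk'])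

/-- Hall–Higman type lemma: in a finite group with a normal Sylow `p`-subgroup `P` and no
nontrivial normal `p'`-subgroup, a `p'`-element centralizing `P` is trivial. -/
theorem eq_one_of_mem_centralizer_normal_sylow [Finite G] {p : ℕ} [Fact p.Prime] (P : Subgroup G)
    (hPn : P.Normal) (hP : IsPGroup p P) (hidx : (P.index).Coprime p)
    (hcore : ∀ D : Subgroup G, D.Normal → (Nat.card D).Coprime p → D = ⊥)
    (r : G) (hr : r ∈ Subgroup.centralizer (P : Set G)) (hrp : (orderOf r).Coprime p) : r = 1 := by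
  obtain ⟨k, hk⟩ := IsPGroup.iff_card.mp hP
  have hcop : (Nat.card P).Coprime P.index := by
    rw [hk]; exact Nat.Coprime.pow_left k hidx.symm
  obtain ⟨Q, hQ⟩ := Subgroup.exists_right_complement'_of_coprime hcop
  have hQcard : Nat.card Q = P.index := by
    have e1 := hQ.card_mul_card
    have e2 := P.card_mul_index
    exact Nat.eq_of_mul_eq_mul_left Nat.card_pos (e1.trans e2.symm)
  have hQcop : (Nat.card Q).Coprime p := by rw [hQcard]; exact hidx
  have hPQ : P ⊓ Q = ⊥ := hQ.disjoint.eq_bot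
  -- `T = Q ⊓ C(P)` is a normal `p'`-subgroup
  set T : Subgroup G := Q ⊓ Subgroup.centralizer (P : Set G) with hT
  have hCn : (Subgroup.centralizer (P : Set G)).Normal := Subgroup.normal_centralizer
  have hTn : T.Normal := by
    rw [← Subgroup.normalizer_eq_top_iff, ← top_le_iff, ← hQ.sup_eq_top]
    refine sup_le ?_ ?_
    · intro u hu
      have key : ∀ v ∈ P, ∀ t ∈ T, v * t * v⁻¹ ∈ T := by
        intro v hv t ht
        have h1 : v * t = t * v := Subgroup.mem_centralizer_iff.mp ht.2 v hv
        have h2 : v * t * v⁻¹ = t := by rw [h1]; group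
        rw [h2]; exact ht
      refine mem_normalizer_of_conj_mem (key u hu) (fun t ht => ?_)
      have := key u⁻¹ (P.inv_mem hu) t ht
      simpa using this
    · intro q hq
      have key : ∀ v ∈ Q, ∀ t ∈ T, v * t * v⁻¹ ∈ T := by
        intro v hv t ht
        exact ⟨Q.mul_mem (Q.mul_mem hv ht.1) (Q.inv_mem hv), hCn.conj_mem t ht.2 v⟩
      refine mem_normalizer_of_conj_mem (key q hq) (fun t ht => ?_)
      have := key q⁻¹ (Q.inv_mem hq) t ht
      simpa using this
  have hTbot : T = ⊥ := hcore T hTn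
    (Nat.Coprime.coprime_dvd_left (Subgroup.card_dvd_of_le inf_le_left) hQcop)
  -- decompose `r = u * q`
  obtain ⟨u, hu, q, hq, huq⟩ := Subgroup.mem_sup_of_normal_left.mp
    (show r ∈ P ⊔ Q by rw [hQ.sup_eq_top]; trivial)
  have hru : u * r = r * u := Subgroup.mem_centralizer_iff.mp hr u hu
  have hqu : Commute u q := by
    have h1 : u * (u * q) = (u * q) * u := by rw [huq]; exact hru
    have h2 : u * q = q * u := by
      have := congrArg (fun t => u⁻¹ * t) h1
      simpa [mul_assoc] using this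
    exact h2
  -- `u ^ n = (q ^ n)⁻¹ ∈ P ⊓ Q` for `n = orderOf r`
  have h1 : u ^ orderOf r * q ^ orderOf r = 1 := by
    rw [← hqu.mul_pow, huq, pow_orderOf_eq_one]
  have h2 : u ^ orderOf r ∈ P ⊓ Q := by
    refine ⟨P.pow_mem hu _, ?_⟩
    have : u ^ orderOf r = (q ^ orderOf r)⁻¹ := eq_inv_of_mul_eq_one_left h1
    rw [this]; exact Q.inv_mem (Q.pow_mem hq _)
  rw [hPQ, Subgroup.mem_bot] at h2
  have hu1 : u = 1 := by
    have h3 : orderOf u ∣ orderOf r := orderOf_dvd_of_pow_eq_one h2
    have h4 : orderOf u ∣ Nat.card P := by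
      have := orderOf_dvd_natCard (⟨u, hu⟩ : P)
      rwa [Subgroup.orderOf_mk] at this
    rw [hk] at h4
    have h5 : (orderOf r).Coprime (p ^ k) := Nat.Coprime.pow_right k hrp
    exact orderOf_eq_one_iff.mp (Nat.eq_one_of_dvd_coprimes h5 h3 h4)
  have hrq : r = q := by rw [← huq, hu1, one_mul]
  have hrT : r ∈ T := ⟨by rw [hrq]; exact hq, hr⟩
  rw [hTbot, Subgroup.mem_bot] at hrT
  exact hrT

/-- Lifting through a normal `p'`-subgroup `K`: if `E` is a maximal elementary abelian
`p`-subgroup of `G`, then any `x` of `G ⧸ K` with `x ^ p = 1` commuting with the image of `E`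
lies in that image. -/
theorem mem_map_of_maximal_elementaryAbelian [Finite G] {p : ℕ} [Fact p.Prime] (K : Subgroup G)
    [K.Normal] (hK : (Nat.card K).Coprime p) (E : Subgroup G) (hE : IsElementaryAbelian p E)
    (hEmax : ∀ B : Subgroup G, IsElementaryAbelian p B → E ≤ B → B = E)
    (x : G ⧸ K) (hxp : x ^ p = 1) (hxE : ∀ e ∈ E.map (QuotientGroup.mk' K), x * e = e * x) :
    x ∈ E.map (QuotientGroup.mk' K) := by
  set π := QuotientGroup.mk' K with hπdef
  have hπ : Function.Surjective π := QuotientGroup.mk'_surjective K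
  set Ebar := E.map π with hEbar
  set S : Set (G ⧸ K) := (Ebar : Set (G ⧸ K)) ∪ {x} with hS
  have hScomm : ∀ a ∈ S, ∀ b ∈ S, a * b = b * a := by
    rintro a (ha | ha) b (hb | hb)
    · obtain ⟨a', ha', rfl⟩ := ha
      obtain ⟨b', hb', rfl⟩ := hb
      have h1 := hE.1.is_comm.comm (⟨a', ha'⟩ : E) ⟨b', hb'⟩
      have h2 : a' * b' = b' * a' := congrArg Subtype.val h1
      rw [← map_mul, ← map_mul, h2]
    · rw [Set.mem_singleton_iff] at hb; subst hb; exact (hxE a ha).symm
    · rw [Set.mem_singleton_iff] at ha; subst ha; exact hxE b hb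
    · rw [Set.mem_singleton_iff] at ha hb; subst ha; subst hb; rfl
  have hSpow : ∀ a ∈ S, a ^ p = 1 := by
    rintro a (ha | ha)
    · obtain ⟨a', ha', rfl⟩ := ha
      rw [← map_pow, hE.2 a' ha', map_one]
    · rw [Set.mem_singleton_iff] at ha; subst ha; exact hxp
  set Fbar := Subgroup.closure S with hFbar
  have hFel : IsElementaryAbelian p Fbar := isElementaryAbelian_closure hScomm hSpow
  have hFp : IsPGroup p Fbar := isPGroup_of_isElementaryAbelian hFel
  have hxF : x ∈ Fbar := Subgroup.subset_closure (Or.inr rfl)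
  have hEF : Ebar ≤ Fbar := fun e he => Subgroup.subset_closure (Or.inl he)
  set X := Fbar.comap π with hX
  have hEX : E ≤ X := fun e he => hEF (Subgroup.mem_map_of_mem π he)
  let f : X →* Fbar := (π.comp X.subtype).codRestrict Fbar (fun y => y.2)
  have hf : Function.Surjective f := by
    rintro ⟨y, hy⟩
    obtain ⟨g, rfl⟩ := hπ y
    exact ⟨⟨g, hy⟩, rfl⟩
  have hEXp : IsPGroup p (E.subgroupOf X) := by
    intro y
    refine ⟨1, ?_⟩
    rw [pow_one]
    apply Subtype.ext; apply Subtype.ext
    simpa using hE.2 (y : G) y.2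
  obtain ⟨Q, hQ⟩ := hEXp.exists_le_sylow
  have hQtop : (⊤ : Subgroup Fbar) = ((Q.mapSurjective hf : Sylow p Fbar) : Subgroup Fbar) :=
    (Q.mapSurjective hf).is_maximal' (hFp.to_subgroup ⊤) le_top
  set F : Subgroup G := (Q : Subgroup X).map X.subtype with hF
  have hFle : E ≤ F := by
    have h1 := Subgroup.map_mono (f := X.subtype) hQ
    rwa [Subgroup.map_subgroupOf_eq_of_le hEX] at h1
  have hFpg : IsPGroup p F := Q.isPGroup'.map _
  have hFK : F ⊓ K = ⊥ := inf_eq_bot_of_isPGroup_of_coprime hFpg hK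
  have hFX : F ≤ X := Subgroup.map_subtype_le _
  have hinj : ∀ a ∈ F, ∀ b ∈ F, π a = π b → a = b := by
    intro a ha b hb hab
    have h1 : a⁻¹ * b ∈ K := QuotientGroup.eq.mp hab
    have h2 : a⁻¹ * b ∈ F ⊓ K := ⟨F.mul_mem (F.inv_mem ha) hb, h1⟩
    rw [hFK, Subgroup.mem_bot] at h2
    exact inv_mul_eq_one.mp h2
  have hFel' : IsElementaryAbelian p F := by
    constructor
    · constructor; constructor
      rintro ⟨a, ha⟩ ⟨b, hb⟩
      apply Subtype.ext
      apply hinj _ (F.mul_mem ha hb) _ (F.mul_mem hb ha)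
      have hc := hFel.1.is_comm.comm (⟨π a, hFX ha⟩ : Fbar) ⟨π b, hFX hb⟩
      have hc' := congrArg Subtype.val hc
      simpa [map_mul] using hc'
    · intro a ha
      apply hinj _ (F.pow_mem ha p) _ F.one_mem
      rw [map_pow, map_one]
      exact hFel.2 (π a) (hFX ha)
  have hFE : F = E := hEmax F hFel' hFle
  have hxQ : (⟨x, hxF⟩ : Fbar) ∈ ((Q.mapSurjective hf : Sylow p Fbar) : Subgroup Fbar) := by
    rw [← hQtop]; trivial
  rw [Sylow.coe_mapSurjective] at hxQ
  obtain ⟨y, hy, hyx⟩ := hxQ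
  refine ⟨(y : G), ?_, ?_⟩
  · rw [← hFE]; exact ⟨y, hy, rfl⟩
  · exact congrArg Subtype.val hyx

end Cfsg.Agent.Helper24
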