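import Mathlib
import Cfsg.Agent.Helper24.Quadratic
import Cfsg.Agent.Helper24.PLen

/-!
# `p`-stability of solvable groups of odd order

* `mem_pCore_of_pairs`: a solvable version of the Baer–Suzuki theorem.
* `mk_mem_pCore_of_quadratic`: if `a` acts quadratically on the normal `p`-subgroup `P` of the
  solvable group `X` of odd order, then the image of `a` in `X ⧸ C_X(P)` lies in the `p`-core.
-/

namespace Cfsg.Agent.Helper24

open Cfsg
open scoped commutatorElement

universe u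

section

variable {G : Type*} [Group G]

/-- The `p`-torsion part of a commutative subgroup. -/
def pTorsionOf (p : ℕ) (V : Subgroup G) (hVc : ∀ x ∈ V, ∀ y ∈ V, x * y = y * x) : Subgroup G where
  carrier := {v | v ∈ V ∧ ∃ k : ℕ, v ^ p ^ k = 1}
  one_mem' := ⟨V.one_mem, 0, by simp⟩
  mul_mem' := fun {u v} hu hv => by
    obtain ⟨k, hk⟩ := hu.2
    obtain ⟨l, hl⟩ := hv.2
    refine ⟨V.mul_mem hu.1 hv.1, k + l, ?_⟩
    rw [(show Commute u v from hVc u hu.1 v hv.1).mul_pow, pow_add, pow_mul, hk, one_pow,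
      mul_comm (p ^ k), pow_mul, hl, one_pow, one_mul]
  inv_mem' := fun {u} hu => by
    obtain ⟨k, hk⟩ := hu.2
    exact ⟨V.inv_mem hu.1, k, by rw [inv_pow, hk, inv_one]⟩

theorem pTorsionOf_normal (p : ℕ) (V : Subgroup G) (hVc : ∀ x ∈ V, ∀ y ∈ V, x * y = y * x)
    (hVn : V.Normal) : (pTorsionOf p V hVc).Normal := by
  refine ⟨fun z hz g => ?_⟩
  obtain ⟨k, hk⟩ := hz.2
  exact ⟨hVn.conj_mem z hz.1 g, k, by rw [conj_pow, hk]; simp⟩

theorem pTorsionOf_isPGroup (p : ℕ) (V : Subgroup G) (hVc : ∀ x ∈ V, ∀ y ∈ V, x * y = y * x) :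
    IsPGroup p (pTorsionOf p V hVc) := by
  rintro ⟨z, hz⟩
  obtain ⟨k, hk⟩ := hz.2
  exact ⟨k, Subtype.ext hk⟩

theorem coprime_card_of_pTorsionOf_eq_bot [Finite G] (p : ℕ) [Fact p.Prime] (V : Subgroup G)
    (hVc : ∀ x ∈ V, ∀ y ∈ V, x * y = y * x) (hbot : pTorsionOf p V hVc = ⊥) :
    (Nat.card V).Coprime p := by
  rw [Nat.coprime_comm, (Fact.out : p.Prime).coprime_iff_not_dvd]
  intro hdvd
  obtain ⟨v, hv⟩ := exists_prime_orderOf_dvd_card' p hdvd
  have h1 : (v : G) ∈ pTorsionOf p V hVc := by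
    refine ⟨v.2, 1, ?_⟩
    rw [pow_one, ← Subgroup.coe_pow, ← hv, pow_orderOf_eq_one]
    rfl
  rw [hbot, Subgroup.mem_bot] at h1
  have h2 : v = 1 := Subtype.ext h1
  rw [h2, orderOf_one] at hv
  exact (Fact.out : p.Prime).one_lt.ne hv

theorem card_quotient_lt_card [Finite G] (N : Subgroup G) [N.Normal] (hN : N ≠ ⊥) :
    Nat.card (G ⧸ N) < Nat.card G := by
  rw [← Subgroup.index_eq_card, ← Subgroup.card_mul_index N]
  have h1 : 1 < Nat.card N := by
    rw [Subgroup.one_lt_card_iff_ne_bot]; exact hN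
  have h2 : 0 < N.index := Nat.pos_of_ne_zero Subgroup.index_ne_zero_of_finite
  nlinarith

/-- A nontrivial solvable group has a nontrivial normal abelian subgroup. -/
theorem exists_normal_abelian_ne_bot [Group.IsSolvable G] [Nontrivial G] :
    ∃ V : Subgroup G, V.Normal ∧ (∀ x ∈ V, ∀ y ∈ V, x * y = y * x) ∧ V ≠ ⊥ := by
  classical
  have hex : ∃ n : ℕ, derivedSeries G n = ⊥ := (Group.isSolvable_def G).1 inferInstance
  have hk₀ : derivedSeries G (Nat.find hex) = ⊥ := Nat.find_spec hex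
  have hk₀pos : Nat.find hex ≠ 0 := by
    intro h0
    rw [h0, derivedSeries_zero] at hk₀
    exact top_ne_bot hk₀
  obtain ⟨j, hj⟩ := Nat.exists_eq_succ_of_ne_zero hk₀pos
  refine ⟨derivedSeries G j, derivedSeries_normal G j, ?_, ?_⟩
  · intro x hx y hy
    have h1 : ⁅x, y⁆ ∈ derivedSeries G (j + 1) := by
      rw [derivedSeries_succ]; exact Subgroup.commutator_mem_commutator hx hy
    rw [← Nat.succ_eq_add_one, ← hj, hk₀, Subgroup.mem_bot] at h1
    exact commutatorElement_eq_one_iff_mul_comm.1 h1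
  · intro hbot
    exact Nat.find_min hex (m := j) (by omega) hbot

theorem isPGroup_closure_pair_map {H : Type*} [Group H] (p : ℕ) (f : G →* H) {a y : G}
    (h : IsPGroup p (Subgroup.closure {a, y * a * y⁻¹})) :
    IsPGroup p (Subgroup.closure {f a, f y * f a * (f y)⁻¹}) := by
  have hcl : Subgroup.closure {f a, f y * f a * (f y)⁻¹} =
      (Subgroup.closure {a, y * a * y⁻¹}).map f := by
    rw [MonoidHom.map_closure, Set.image_pair]; simp
  rw [hcl]
  exact h.map f

/-- A `p`-element of a nilpotent normal subgroup lies in `O_p`. -/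
theorem mem_pCore_of_mem_nilpotent_normal [Finite G] (p : ℕ) [Fact p.Prime] (L : Subgroup G)
    [L.Normal] [Group.IsNilpotent L] {a : G} (haL : a ∈ L) (hap : ∃ k : ℕ, a ^ p ^ k = 1) :
    a ∈ pCore p G := by
  let S : Sylow p L := default
  haveI hSc := Sylow.characteristic_of_normal S inferInstance
  have hSn : (S.toSubgroup.map L.subtype).Normal := ConjAct.normal_of_characteristic_of_normal
  have hSp : IsPGroup p (S.toSubgroup.map L.subtype) := S.isPGroup'.map _
  apply le_pCore hSn hSp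
  obtain ⟨k, hk⟩ := hap
  have hz : IsPGroup p (Subgroup.zpowers (⟨a, haL⟩ : L)) := by
    rintro ⟨g, hg⟩
    obtain ⟨j, rfl⟩ := Subgroup.mem_zpowers_iff.1 hg
    refine ⟨k, Subtype.ext ?_⟩
    have h1 : (⟨a, haL⟩ : L) ^ p ^ k = 1 := Subtype.ext hk
    change (_ ^ j) ^ p ^ k = 1
    rw [← zpow_natCast, ← zpow_mul, mul_comm, zpow_mul, zpow_natCast, h1, one_zpow]
  obtain ⟨Q, hQ⟩ := hz.exists_le_sylow
  obtain ⟨g, hg⟩ := MulAction.exists_smul_eq L S Q
  rw [Sylow.smul_eq_of_normal] at hg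
  rw [← hg] at hQ
  exact ⟨⟨a, haL⟩, hQ (Subgroup.mem_zpowers _), rfl⟩

end

/-- **Baer–Suzuki for solvable groups**: if `a` generates a `p`-group together with each of its
conjugates, then `a` lies in `O_p(X)`. -/
theorem mem_pCore_of_pairs_aux (p : ℕ) [Fact p.Prime] :
    ∀ (n : ℕ) (X : Type u) [Group X] [Finite X] [Group.IsSolvable X], Nat.card X = n →
      ∀ a : X, (∀ y : X, IsPGroup p (Subgroup.closure {a, y * a * y⁻¹})) → a ∈ pCore p X := by
  intro n
  induction n using Nat.strong_induction_on with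
  | _ n ih =>
  intro X _ _ _ hn a hpairs
  have hap : ∃ k : ℕ, a ^ p ^ k = 1 := by
    obtain ⟨k, hk⟩ := hpairs 1 ⟨a, Subgroup.subset_closure (by simp)⟩
    exact ⟨k, by simpa using congrArg Subtype.val hk⟩
  by_cases htriv : Subsingleton X
  · have h1 : a = 1 := Subsingleton.elim _ _
    rw [h1]; exact Subgroup.one_mem _
  rw [not_subsingleton_iff_nontrivial] at htriv
  obtain ⟨V, hVn, hVc, hV1⟩ := exists_normal_abelian_ne_bot (G := X)
  by_cases hVp : pTorsionOf p V hVc = ⊥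
  · -- `V` is a normal abelian `p'`-subgroup
    have hVcop : (Nat.card V).Coprime p := coprime_card_of_pTorsionOf_eq_bot p V hVc hVp
    have haV : ∀ v ∈ V, a * v = v * a := by
      intro v hv
      have hc1 : ⁅a, v⁆ ∈ Subgroup.closure {a, v * a * v⁻¹} := by
        have h1 : a ∈ Subgroup.closure {a, v * a * v⁻¹} := Subgroup.subset_closure (by simp)
        have h2 : v * a * v⁻¹ ∈ Subgroup.closure {a, v * a * v⁻¹} :=
          Subgroup.subset_closure (by simp)
        have h3 : ⁅a, v⁆ = a * (v * a * v⁻¹)⁻¹ := by simp [commutatorElement_def, mul_assoc]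
        rw [h3]; exact Subgroup.mul_mem _ h1 (Subgroup.inv_mem _ h2)
      have hc2 : ⁅a, v⁆ ∈ V := by
        have h3 : ⁅a, v⁆ = (a * v * a⁻¹) * v⁻¹ := by simp [commutatorElement_def]
        rw [h3]; exact V.mul_mem (hVn.conj_mem v hv a) (V.inv_mem hv)
      obtain ⟨k, hk⟩ := hpairs v ⟨_, hc1⟩
      have hk' : ⁅a, v⁆ ^ p ^ k = 1 := by simpa using congrArg Subtype.val hk
      have h5 : orderOf ⁅a, v⁆ ∣ p ^ k := orderOf_dvd_of_pow_eq_one hk'
      have h6 : orderOf ⁅a, v⁆ ∣ Nat.card V := by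
        have := orderOf_dvd_natCard (⟨_, hc2⟩ : V)
        rwa [Subgroup.orderOf_mk] at this
      have h7 : orderOf ⁅a, v⁆ = 1 :=
        Nat.eq_one_of_dvd_coprimes (Nat.Coprime.pow_right k hVcop) h6 h5
      exact commutatorElement_eq_one_iff_mul_comm.1 (orderOf_eq_one_iff.1 h7)
    haveI := hVn
    have hlt : Nat.card (X ⧸ V) < n := hn ▸ card_quotient_lt_card V hV1
    have hmem := ih _ hlt (X ⧸ V) rfl (QuotientGroup.mk' V a) (fun yb => by
      obtain ⟨y, rfl⟩ := QuotientGroup.mk'_surjective V yb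
      exact isPGroup_closure_pair_map p _ (hpairs y))
    -- `L₁ = L ⊓ C_X(V)` is nilpotent
    have haL : a ∈ (pCore p (X ⧸ V)).comap (QuotientGroup.mk' V) ⊓
        Subgroup.centralizer (V : Set X) := by
      refine Subgroup.mem_inf.2 ⟨hmem, ?_⟩
      rw [Subgroup.mem_centralizer_iff]
      intro v hv
      exact (haV v hv).symm
    haveI hLn : ((pCore p (X ⧸ V)).comap (QuotientGroup.mk' V) ⊓
        Subgroup.centralizer (V : Set X)).Normal := by
      haveI : ((pCore p (X ⧸ V)).comap (QuotientGroup.mk' V)).Normal :=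
        Subgroup.Normal.comap inferInstance _
      haveI : (Subgroup.centralizer (V : Set X)).Normal := Subgroup.normal_centralizer
      infer_instance
    haveI : Group.IsNilpotent (pCore p (X ⧸ V)) := (isPGroup_pCore p (X ⧸ V)).isNilpotent
    haveI hnil : Group.IsNilpotent ((pCore p (X ⧸ V)).comap (QuotientGroup.mk' V) ⊓
        Subgroup.centralizer (V : Set X) : Subgroup X) := by
      apply Subgroup.isNilpotent_of_ker_le_center
        (((QuotientGroup.mk' V).comp (Subgroup.subtype _)).codRestrict (pCore p (X ⧸ V))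
          (fun x => (Subgroup.mem_inf.1 x.2).1))
      intro x hx
      rw [MonoidHom.mem_ker] at hx
      have h1 : QuotientGroup.mk' V (x : X) = 1 := congrArg Subtype.val hx
      have h2 : (x : X) ∈ V := by
        rwa [QuotientGroup.mk'_apply, QuotientGroup.eq_one_iff] at h1
      rw [Subgroup.mem_center_iff]
      intro y
      have h3 := Subgroup.mem_centralizer_iff.1 (Subgroup.mem_inf.1 y.2).2 (x : X) h2
      exact Subtype.ext h3.symm
    exact mem_pCore_of_mem_nilpotent_normal p _ haL hap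
  · -- `V` has a nontrivial normal `p`-subgroup
    haveI := pTorsionOf_normal p V hVc hVn
    have hlt : Nat.card (X ⧸ pTorsionOf p V hVc) < n := hn ▸ card_quotient_lt_card _ hVp
    have hmem := ih _ hlt (X ⧸ pTorsionOf p V hVc) rfl (QuotientGroup.mk' _ a) (fun yb => by
      obtain ⟨y, rfl⟩ := QuotientGroup.mk'_surjective _ yb
      exact isPGroup_closure_pair_map p _ (hpairs y))
    have hLp : IsPGroup p ((pCore p (X ⧸ pTorsionOf p V hVc)).comap
        (QuotientGroup.mk' (pTorsionOf p V hVc))) :=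
      (isPGroup_pCore p _).comap_of_ker_isPGroup _ (by
        rw [QuotientGroup.ker_mk']; exact pTorsionOf_isPGroup p V hVc)
    have hLn : ((pCore p (X ⧸ pTorsionOf p V hVc)).comap
        (QuotientGroup.mk' (pTorsionOf p V hVc))).Normal := Subgroup.Normal.comap inferInstance _
    exact le_pCore hLn hLp hmem

theorem mem_pCore_of_pairs (p : ℕ) [Fact p.Prime] {X : Type u} [Group X] [Finite X]
    [Group.IsSolvable X] (a : X)
    (hpairs : ∀ y : X, IsPGroup p (Subgroup.closure {a, y * a * y⁻¹})) : a ∈ pCore p X :=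
  mem_pCore_of_pairs_aux p _ X rfl a hpairs

/-- **`p`-stability, core form**: in a solvable group `X` of odd order, if `a` acts quadratically
on the normal `p`-subgroup `P` and `C` is a normal subgroup containing `C_X(P)`, then the image of
`a` in `X ⧸ C` lies in `O_p(X ⧸ C)`. -/
theorem mk_mem_pCore_of_quadratic {X : Type u} [Group X] [Finite X] [Group.IsSolvable X]
    (hodd : Odd (Nat.card X)) (p : ℕ) [Fact p.Prime] (P : Subgroup X) [hPn : P.Normal]
    (hP : IsPGroup p P) (C : Subgroup X) [C.Normal]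
    (hC : ∀ x : X, (∀ y ∈ P, y * x = x * y) → x ∈ C) (a : X)
    (ha : ∀ x ∈ P, Commute a ⁅x, a⁆) : QuotientGroup.mk' C a ∈ pCore p (X ⧸ C) := by
  apply mem_pCore_of_pairs p
  intro yb
  obtain ⟨y, rfl⟩ := QuotientGroup.mk'_surjective C yb
  have hb : ∀ x ∈ P, Commute (y * a * y⁻¹) ⁅x, y * a * y⁻¹⁆ := by
    intro x hx
    have hx' : y⁻¹ * x * y ∈ P := by simpa using hPn.conj_mem x hx y⁻¹
    have h1 := (ha _ hx').eq
    have h2 : ⁅x, y * a * y⁻¹⁆ = y * ⁅y⁻¹ * x * y, a⁆ * y⁻¹ := by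
      simp only [commutatorElement_def]; group
    rw [h2]
    change y * a * y⁻¹ * (y * ⁅y⁻¹ * x * y, a⁆ * y⁻¹) = y * ⁅y⁻¹ * x * y, a⁆ * y⁻¹ * (y * a * y⁻¹)
    calc y * a * y⁻¹ * (y * ⁅y⁻¹ * x * y, a⁆ * y⁻¹) = y * (a * ⁅y⁻¹ * x * y, a⁆) * y⁻¹ := by group
      _ = y * (⁅y⁻¹ * x * y, a⁆ * a) * y⁻¹ := by rw [h1]
      _ = y * ⁅y⁻¹ * x * y, a⁆ * y⁻¹ * (y * a * y⁻¹) := by group
  have hcl : Subgroup.closure {QuotientGroup.mk' C a,
      QuotientGroup.mk' C y * QuotientGroup.mk' C a * (QuotientGroup.mk' C y)⁻¹} =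
      (Subgroup.closure {a, y * a * y⁻¹}).map (QuotientGroup.mk' C) := by
    rw [MonoidHom.map_closure, Set.image_pair]; simp
  rw [hcl]
  rintro ⟨_, ⟨g, hg, rfl⟩⟩
  obtain ⟨k, m, hm, hkm⟩ := Nat.exists_eq_pow_mul_and_not_dvd (orderOf_pos g).ne' p
    (Fact.out : p.Prime).ne_one
  refine ⟨k, Subtype.ext ?_⟩
  have h1 : (g ^ p ^ k) ^ m = 1 := by rw [← pow_mul, ← hkm, pow_orderOf_eq_one]
  have hcop : (orderOf (g ^ p ^ k)).Coprime p :=
    Nat.Coprime.of_dvd_left (orderOf_dvd_of_pow_eq_one h1)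
      ((Nat.Prime.coprime_iff_not_dvd Fact.out).2 hm).symm
  have hN : ∀ z : X, z ∈ Subgroup.normalizer (P : Set X) := fun z => by
    rw [Subgroup.normalizer_eq_top]; exact Subgroup.mem_top z
  have h2 : g ^ p ^ k ∈ C := by
    apply hC
    intro x hx
    exact centralizes_of_quadratic_pair hodd p P hP a (y * a * y⁻¹) (hN _) (hN _) ha hb
      (Subgroup.pow_mem _ hg _) hcop hx
  change (QuotientGroup.mk' C g) ^ p ^ k = 1
  rw [← map_pow, QuotientGroup.mk'_apply, QuotientGroup.eq_one_iff]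
  exact h2

end Cfsg.Agent.Helper24
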