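import Mathlib
import Cfsg.Agent.Helper24.PStable
import Cfsg.Agent.Helper24.PLen2

/-!
# Hall–Higman Lemma 1.2.3 for solvable groups

* `isPGroup_of_isNilpotent_normal`: if `O_{p'}(G) = 1` then nilpotent normal subgroups are
  `p`-groups.
* `centralizer_pCore_le`: if `G` is solvable with `O_{p'}(G) = 1` then `C_G(O_p(G)) ≤ O_p(G)`.
-/

namespace Cfsg.Agent.Helper24

open Cfsg
open scoped commutatorElement

section

variable {G : Type*} [Group G]

theorem isPGroup_of_isNilpotent_normal [Finite G] (p : ℕ) [Fact p.Prime]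
    (hcore : ∀ D : Subgroup G, D.Normal → (Nat.card D).Coprime p → D = ⊥) (N : Subgroup G)
    [N.Normal] [Group.IsNilpotent N] : IsPGroup p N := by
  rw [IsPGroup.iff_card]
  refine ⟨_, Nat.eq_prime_pow_of_unique_prime_dvd Nat.card_pos.ne' (fun {q} hq hqd => ?_)⟩
  by_contra hne
  haveI : Fact q.Prime := ⟨hq⟩
  let Q : Sylow q N := default
  haveI := Sylow.characteristic_of_normal Q inferInstance
  have hQn : (Q.toSubgroup.map N.subtype).Normal := ConjAct.normal_of_characteristic_of_normal
  have hcard : Nat.card (Q.toSubgroup.map N.subtype) = q ^ (Nat.card N).factorization q := by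
    rw [Subgroup.card_map_of_injective N.subtype_injective]
    exact Sylow.card_eq_multiplicity Q
  have hcop : (Nat.card (Q.toSubgroup.map N.subtype)).Coprime p := by
    rw [hcard]; exact Nat.Coprime.pow_left _ ((Nat.coprime_primes hq Fact.out).2 hne)
  have hbot := hcore _ hQn hcop
  have h1 : Nat.card (Q.toSubgroup.map N.subtype) = 1 := by rw [hbot]; exact Subgroup.card_bot
  rw [hcard] at h1
  have hpos : 0 < (Nat.card N).factorization q :=
    hq.factorization_pos_of_dvd Nat.card_pos.ne' hqd
  exact (Nat.one_lt_pow hpos.ne' hq.one_lt).ne' h1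

/-- **Hall–Higman Lemma 1.2.3** (solvable case): if `O_{p'}(G) = 1` then `C_G(O_p(G)) ≤ O_p(G)`. -/
theorem centralizer_pCore_le [Finite G] [Group.IsSolvable G] (p : ℕ) [Fact p.Prime]
    (hcore : ∀ D : Subgroup G, D.Normal → (Nat.card D).Coprime p → D = ⊥) :
    Subgroup.centralizer (pCore p G : Set G) ≤ pCore p G := by
  by_contra hnot
  haveI : (Subgroup.centralizer (pCore p G : Set G)).Normal := Subgroup.normal_centralizer
  obtain ⟨E, ⟨hEn, hEC, hER⟩, hEmin⟩ := wellFounded_lt.has_min
    {E : Subgroup G | E.Normal ∧ E ≤ Subgroup.centralizer (pCore p G : Set G) ∧ ¬ E ≤ pCore p G}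
    ⟨Subgroup.centralizer (pCore p G : Set G), inferInstance, le_rfl, hnot⟩
  have hE1 : E ≠ ⊥ := by
    rintro rfl
    exact hER bot_le
  have hlt : ⁅E, E⁆ < E := Group.IsSolvable.commutator_lt_of_ne_bot hE1
  haveI := hEn
  have hEE : ⁅E, E⁆ ≤ pCore p G := by
    by_contra h
    exact hEmin ⁅E, E⁆ ⟨inferInstance, hlt.le.trans hEC, h⟩ hlt
  haveI : Group.IsNilpotent E := by
    apply Subgroup.isNilpotent_of_ker_le_center (Abelianization.of : E →* Abelianization E)
    rw [Abelianization.ker_of]
    intro x hx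
    have h1 : (x : G) ∈ ⁅E, E⁆ := by
      have h0 := Subgroup.mem_map_of_mem E.subtype hx
      rw [commutator_def, Subgroup.map_commutator, ← MonoidHom.range_eq_map,
        Subgroup.range_subtype] at h0
      exact h0
    have h2 : (x : G) ∈ pCore p G := hEE h1
    rw [Subgroup.mem_center_iff]
    intro y
    have h3 := Subgroup.mem_centralizer_iff.1 (hEC y.2) (x : G) h2
    exact Subtype.ext h3.symm
  exact hER (le_pCore hEn (isPGroup_of_isNilpotent_normal p hcore E))

end

end Cfsg.Agent.Helper24
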