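/-
helper24: piece FR (`d1fb_pow_stab`) of CALL S4442FB (helper15; sub-CALL of S4442B piece FB).
-/
import Mathlib
import Cfsg.Agent.Helper77.D1Defs2
import Cfsg.Agent.Helper75.LatGroup
import Cfsg.Agent.Helper81.CharBasic

universe u
set_option autoImplicit false
open Cfsg Cfsg.Agent.Helper77
open scoped ComplexConjugate

namespace Cfsg.Agent.Helper24

variable {G : Type u} [Group G] [Finite G]

omit [Finite G] in
/-- composition of `thetaConj` -/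
theorem d1fr_comp (K : Subgroup G) (a b : G) (θ₁ θ₂ θ₃ : K → ℂ)
    (ha : thetaConj K a θ₁ θ₂) (hb : thetaConj K b θ₂ θ₃)
    (haK : ∀ k : K, a * (k : G) * a⁻¹ ∈ K) : thetaConj K (b * a) θ₁ θ₃ := by
  intro k k' hk
  have h1 : θ₂ ⟨a * (k : G) * a⁻¹, haK k⟩ = θ₁ k := ha k ⟨_, haK k⟩ rfl
  have h2 : θ₃ k' = θ₂ ⟨a * (k : G) * a⁻¹, haK k⟩ := hb ⟨_, haK k⟩ k' (by rw [hk]; group)
  rw [h2, h1]

omit [Finite G] in
/-- iterated conjugation of `x` by a normalizing element -/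
theorem d1fr_conj_pow (x n : G) (a : ℕ) (h : n * x * n⁻¹ = x ^ a) (k : ℕ) :
    n ^ k * x * (n ^ k)⁻¹ = x ^ (a ^ k) := by
  induction k with
  | zero => simp
  | succ k ih =>
    have e : n ^ (k + 1) * x * (n ^ (k + 1))⁻¹ = n * (n ^ k * x * (n ^ k)⁻¹) * n⁻¹ := by
      rw [pow_succ']; group
    rw [e, ih, ← conj_pow, h, ← pow_mul, pow_succ']

/-- an element of the normalizer of `⟨x⟩` stabilizes `θ` after raising to the power `|F|/|E|` -/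
theorem d1fr_key (p : ℕ) [Fact p.Prime] (x : G) (K : Subgroup G) (h : D1Hyp p x K)
    (θ : Cfsg.IrrCharacter K) (E F : Subgroup (ZMod p)ˣ)
    (hE : (E : Set (ZMod p)ˣ) = stabUnits p x K (θ : K → ℂ))
    (hF : (F : Set (ZMod p)ˣ) = normUnits p x) (hEF : E ≤ F)
    (n : G) (hn : n ∈ Subgroup.normalizer ((Subgroup.zpowers x : Subgroup G) : Set G)) :
    thetaConj K (n ^ (Nat.card F / Nat.card E)) (θ : K → ℂ) (θ : K → ℂ) := by
  have hp : p.Prime := Fact.out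
  have hxp : x ^ p = 1 := by rw [← h.hx]; exact pow_orderOf_eq_one x
  have hx1 : x ≠ 1 := by
    intro hx
    have h1 := h.hx
    rw [hx, orderOf_one] at h1
    exact hp.one_lt.ne h1
  -- the unit of `n`
  obtain ⟨j, hj⟩ := Helper75.lat_conj_pow x n hn
  have hpj : ¬ p ∣ j := by
    intro hd
    have h1 : x ^ j = 1 := by
      rw [← h.hx] at hd
      exact orderOf_dvd_iff_pow_eq_one.mp hd
    rw [h1] at hj
    apply hx1
    have h2 : x = n⁻¹ * (n * x * n⁻¹) * n := by group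
    rw [h2, hj]; group
  have hcop : Nat.Coprime j p := ((Nat.Prime.coprime_iff_not_dvd hp).mpr hpj).symm
  obtain ⟨u, hudef⟩ : ∃ u : (ZMod p)ˣ, u = ZMod.unitOfCoprime j hcop := ⟨_, rfl⟩
  have hucoe : (u : ZMod p) = (j : ZMod p) := by rw [hudef, ZMod.coe_unitOfCoprime]
  have hpowmod : ∀ a : ℕ, x ^ (a % p) = x ^ a := by
    intro a
    have := pow_mod_orderOf x a
    rw [h.hx] at this
    exact this
  have hu : n * x * n⁻¹ = x ^ (u : ZMod p).val := by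
    rw [hucoe, ZMod.val_natCast, hpowmod, hj]
  have huF : u ∈ F := by
    have h1 : u ∈ (F : Set (ZMod p)ˣ) := by
      rw [hF]
      exact ⟨n, hu⟩
    exact h1
  -- `r = |F| / |E|` is the relative index
  have hr : Nat.card F / Nat.card E = E.relIndex F := by
    have h1 := Subgroup.relIndex_mul_relIndex ⊥ E F bot_le hEF
    rw [Subgroup.relIndex_bot_left, Subgroup.relIndex_bot_left] at h1
    rw [← h1]
    exact Nat.mul_div_cancel_left _ Nat.card_pos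
  have hurE : u ^ (Nat.card F / Nat.card E) ∈ E := by
    rw [hr]
    exact Subgroup.pow_relIndex_mem E huF
  have hurE' : u ^ (Nat.card F / Nat.card E) ∈ stabUnits p x K (θ : K → ℂ) := by
    rw [← hE]
    exact hurE
  obtain ⟨m, hm, hmθ⟩ := hurE'
  -- conjugation by `n ^ r`
  have hnr : n ^ (Nat.card F / Nat.card E) * x * (n ^ (Nat.card F / Nat.card E))⁻¹ =
      x ^ ((u ^ (Nat.card F / Nat.card E) : (ZMod p)ˣ) : ZMod p).val := by
    rw [d1fr_conj_pow x n _ hu]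
    have h1 : ((u ^ (Nat.card F / Nat.card E) : (ZMod p)ˣ) : ZMod p) =
        (((u : ZMod p).val ^ (Nat.card F / Nat.card E) : ℕ) : ZMod p) := by
      rw [Units.val_pow_eq_pow_val, Nat.cast_pow, ZMod.natCast_zmod_val]
    rw [h1, ZMod.val_natCast, hpowmod]
  -- `c = m⁻¹ * n ^ r` centralizes `x`
  obtain ⟨c, hcdef⟩ : ∃ c : G, c = m⁻¹ * n ^ (Nat.card F / Nat.card E) := ⟨_, rfl⟩
  have hcx : c * x = x * c := by
    have h1 : c * x * c⁻¹ = x := by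
      have e : c * x * c⁻¹ = m⁻¹ * (n ^ (Nat.card F / Nat.card E) * x *
          (n ^ (Nat.card F / Nat.card E))⁻¹) * m := by rw [hcdef]; group
      rw [e, hnr, ← hm]; group
    calc c * x = c * x * c⁻¹ * c := by group
      _ = x * c := by rw [h1]
  obtain ⟨i, k₀, hk₀, hc⟩ := (h.hC c).mp hcx
  have hKx : ∀ k : G, k ∈ K → k * x = x * k := fun k hk =>
    (h.hC k).mpr ⟨0, k, hk, by simp⟩
  have hcK : ∀ k : K, c * (k : G) * c⁻¹ = k₀ * (k : G) * k₀⁻¹ := by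
    intro k
    have h1 : Commute (k₀ * (k : G) * k₀⁻¹) (x ^ i) :=
      Commute.pow_right (hKx _ (K.mul_mem (K.mul_mem hk₀ k.2) (K.inv_mem hk₀))) i
    rw [hc]
    calc x ^ i * k₀ * (k : G) * (x ^ i * k₀)⁻¹ = x ^ i * (k₀ * (k : G) * k₀⁻¹) * (x ^ i)⁻¹ := by
          group
      _ = (k₀ * (k : G) * k₀⁻¹) * x ^ i * (x ^ i)⁻¹ := by rw [h1.eq]
      _ = k₀ * (k : G) * k₀⁻¹ := by group
  have hcθ : thetaConj K c (θ : K → ℂ) (θ : K → ℂ) := by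
    intro k k' hk
    rw [hcK k] at hk
    have h1 : k' = (⟨k₀, hk₀⟩ : K) * k * (⟨k₀, hk₀⟩ : K)⁻¹ := Subtype.ext (by rw [hk]; rfl)
    rw [h1]
    exact Helper81.irr_conj θ k ⟨k₀, hk₀⟩
  have hcKmem : ∀ k : K, c * (k : G) * c⁻¹ ∈ K := by
    intro k
    rw [hcK k]
    exact K.mul_mem (K.mul_mem hk₀ k.2) (K.inv_mem hk₀)
  have hfin := d1fr_comp K c m _ _ _ hcθ hmθ hcKmem
  have e : m * c = n ^ (Nat.card F / Nat.card E) := by rw [hcdef]; group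
  rw [e] at hfin
  exact hfin

/-- **PIECE FR** of CALL S4442FB. -/
theorem d1fb_pow_stab (p : ℕ) [Fact p.Prime] (x : G) (K : Subgroup G) (h : D1Hyp p x K)
    (θ : Cfsg.IrrCharacter K) (E F : Subgroup (ZMod p)ˣ)
    (hE : (E : Set (ZMod p)ˣ) = stabUnits p x K (θ : K → ℂ))
    (hF : (F : Set (ZMod p)ˣ) = normUnits p x) (hEF : E ≤ F)
    (θ' θ₁ : Cfsg.IrrCharacter K) (σ : ℂ ≃+* ℂ) (n₁ : G)
    (hn₁ : n₁ ∈ Subgroup.normalizer ((Subgroup.zpowers x : Subgroup G) : Set G))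
    (hθ₁ : thetaConj K n₁ (θ : K → ℂ) (θ₁ : K → ℂ))
    (hθ' : ∀ k : K, (θ' : K → ℂ) k = σ ((θ₁ : K → ℂ) k))
    (n : G) (hn : n ∈ Subgroup.normalizer ((Subgroup.zpowers x : Subgroup G) : Set G)) :
    thetaConj K (n ^ (Nat.card F / Nat.card E)) (θ' : K → ℂ) (θ' : K → ℂ) := by
  have hn₁' : n₁⁻¹ ∈ Subgroup.normalizer ((Subgroup.zpowers x : Subgroup G) : Set G) :=
    inv_mem hn₁
  have hn' : n₁⁻¹ * n * n₁⁻¹⁻¹ ∈
      Subgroup.normalizer ((Subgroup.zpowers x : Subgroup G) : Set G) :=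
    mul_mem (mul_mem hn₁' hn) (inv_mem hn₁')
  have hS := d1fr_key p x K h θ E F hE hF hEF _ hn'
  rw [conj_pow] at hS
  intro k k' hk
  have ha : n₁⁻¹ * (k : G) * n₁⁻¹⁻¹ ∈ K :=
    Helper75.lat_K_normal p x h.hx K h.hK h.hC n₁⁻¹ hn₁' k k.2
  have ha' : n₁⁻¹ * (k' : G) * n₁⁻¹⁻¹ ∈ K :=
    Helper75.lat_K_normal p x h.hx K h.hK h.hC n₁⁻¹ hn₁' k' k'.2
  have h1 : (θ₁ : K → ℂ) k = (θ : K → ℂ) ⟨_, ha⟩ := hθ₁ ⟨_, ha⟩ k (by simp; group)
  have h2 : (θ₁ : K → ℂ) k' = (θ : K → ℂ) ⟨_, ha'⟩ := hθ₁ ⟨_, ha'⟩ k' (by simp; group)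
  have h3 : (θ : K → ℂ) ⟨_, ha'⟩ = (θ : K → ℂ) ⟨_, ha⟩ := hS ⟨_, ha⟩ ⟨_, ha'⟩ (by
    show n₁⁻¹ * (k' : G) * n₁⁻¹⁻¹ = _
    rw [hk]; group)
  rw [hθ' k', hθ' k, h2, h3, ← h1]

end Cfsg.Agent.Helper24
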