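/-
helper24: piece SH (`bg14_case_sigma`) of CALL S1352 (helper22), B&G Lemma 14.2.
-/
import Cfsg.Agent.Helper24.BG13II
import Cfsg.Agent.Helper49.OddCyclic
import Cfsg.Agent.Helper20.BG13P4
import Cfsg.Agent.S1427

set_option autoImplicit false

namespace Cfsg.Agent.Helper24

open Cfsg Subgroup Cfsg.Agent.Helper22 Cfsg.Agent.Helper23 Cfsg.Agent.Helper35
open scoped Pointwise commutatorElement

universe u

variable {G : Type u} [Group G] [Finite G]

/-- **PIECE SH** (S1427 for `H`): `q ∈ σ(H)`, `r ∈ τ₁(H)`: an `r`-subgroup `S` of `H` with a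
non-identity element centralizing the `q`-subgroup `Q` centralizes `Q`. -/
theorem bg14_case_sigma (hG : IsMinSimpleOddOrder G) {H Q S : Subgroup G} (hH : IsCoatom H)
    {q r : ℕ} [Fact q.Prime] [Fact r.Prime] (hqH : q ∈ sigma H) (hrH : r ∈ tau1 H) (hQH : Q ≤ H)
    (hQq : IsPGroup q Q) (hSH : S ≤ H) (hSr : IsPGroup r S) {z : G} (hzS : z ∈ S) (hz1 : z ≠ 1)
    (hzQ : z ∈ centralizer (Q : Set G)) : S ≤ centralizer (Q : Set G) := by
  have hq : q.Prime := Fact.out
  have hr : r.Prime := Fact.out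
  have hU : BGUniq G := fun K hK h1 h2 => Cfsg.Agent.S1403.result hG K hK h1 h2
  have hQσ : Q ≤ sigmaCore H := bg12_le_sigmaCore hG hU hH hq hqH hQH hQq
  have hcopS : (Nat.card S).Coprime (Nat.card (sigmaCore H)) := by
    obtain ⟨n, hn⟩ := IsPGroup.iff_card.mp hSr
    rw [hn]
    apply Nat.Coprime.pow_left
    rw [Nat.Prime.coprime_iff_not_dvd hr]
    exact fun h => hrH.2.1 (mem_of_dvd_card_piCoreOf (sigma H) H hr h)
  obtain ⟨E, hE, hSE⟩ := Helper20.bg13_exists_compl_ge hG hU hH hSH hcopS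
  have hSr' : IsPGroup r ↥(S.subgroupOf E) :=
    hSr.comap_of_injective E.subtype E.subtype_injective
  obtain ⟨S', hS'⟩ := hSr'.exists_le_sylow
  have hmem : ∀ s ∈ S, s ∈ (S' : Subgroup ↥E).map E.subtype := by
    intro s hs
    exact ⟨⟨s, hSE hs⟩, hS' (Subgroup.mem_subgroupOf.mpr hs), rfl⟩
  have hS1 : (S' : Subgroup ↥E) ≠ ⊥ := by
    intro hb
    have h1 : (⟨z, hSE hzS⟩ : ↥E) ∈ (S' : Subgroup ↥E) := hS' (Subgroup.mem_subgroupOf.mpr hzS)
    rw [hb, Subgroup.mem_bot] at h1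
    exact hz1 (congrArg Subtype.val h1)
  have hodd : r ≠ 2 := by
    intro h2
    have h3 : r ∣ Nat.card H := hrH.2.2.1
    rw [h2] at h3
    exact (Nat.not_even_iff_odd.mpr (uq_odd hG H)) (even_iff_two_dvd.mpr h3)
  have hSc : IsCyclic ↥(S' : Subgroup ↥E) :=
    Helper49.isCyclic_sylow_of_pRankLE_one hodd (pRankLE_of_le hE.1 hrH.2.2.2.2) S'
  have key := Cfsg.Agent.S1427.result hG H hH E hE r S' hS1 hSc z (hmem z hzS) hz1
  intro s hs
  rw [mem_centralizer_iff]
  intro y hy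
  have h1 : y ∈ sigmaCore H ⊓ centralizer ({z} : Set G) := by
    refine Subgroup.mem_inf.mpr ⟨hQσ hy, mem_centralizer_iff.mpr ?_⟩
    intro w hw
    rw [Set.mem_singleton_iff] at hw
    rw [hw]
    exact (mem_centralizer_iff.mp hzQ y hy).symm
  rw [key] at h1
  exact (mem_centralizer_iff.mp (Subgroup.mem_inf.mp h1).2 s (hmem s hs)).symm

end Cfsg.Agent.Helper24
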