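/-
CALL S1390 (helper24), piece FIX: S1432 for a `σ(M)'`-, `κ(M)'`-element of `M` with a fixed point
on `M_σ`.
-/
import Mathlib
import Cfsg.Agent.S1432

set_option autoImplicit false

namespace Cfsg.Agent.Helper24

open Cfsg Subgroup

universe u

variable {G : Type u} [Group G] [Finite G]

/-- FIX. S1432 for a `σ(M)'`-, `κ(M)'`-element `x ≠ 1` of `M` with a fixed point `y ≠ 1` on
`M_σ`: `x` is a `τ₂(M)`-element and `M` is the only maximal subgroup over `C_G(x)`. -/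
theorem bg90_fix_tau2 (hG : IsMinSimpleOddOrder G) {M : Subgroup G} (hM : IsCoatom M)
    {x y : G} (hxM : x ∈ M) (hx1 : x ≠ 1)
    (hσ : ∀ p : ℕ, p.Prime → p ∣ orderOf x → p ∉ sigma M)
    (hκ : ∀ p : ℕ, p.Prime → p ∣ orderOf x → p ∉ kappa M)
    (hy : y ∈ sigmaCore M) (hy1 : y ≠ 1) (hxy : x * y = y * x) :
    (∀ p : ℕ, p.Prime → p ∣ orderOf x → p ∈ tau2 M) ∧ centralizer ({x} : Set G) ≤ M ∧
      ∀ L : Subgroup G, IsCoatom L → centralizer ({x} : Set G) ≤ L → L = M := by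
  have hmem : x ∈ M ⊓ centralizer ({y} : Set G) := by
    refine Subgroup.mem_inf.mpr ⟨hxM, ?_⟩
    rw [Subgroup.mem_centralizer_iff]
    intro h hh
    rw [Set.mem_singleton_iff] at hh
    rw [hh]
    exact hxy.symm
  rcases Cfsg.Agent.S1432.result hG M hM y hy hy1 x hmem hx1 hσ with ⟨h1, -⟩ | ⟨h1, -, h2, h3⟩
  · exfalso
    have hord : orderOf x ≠ 1 := fun h => hx1 (orderOf_eq_one_iff.mp h)
    obtain ⟨t, ht, htd⟩ := Nat.exists_prime_and_dvd hord
    exact hκ t ht htd (h1 t ht htd)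
  · exact ⟨h1, h2, h3⟩

end Cfsg.Agent.Helper24
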