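/-
CALL S1390 (helper24): assembly.  Row S1390: `M` of Type I with `U` a complement of `M_F` in `M`,
or of Type II with `U` a complement of `M_F` in `M'`.  Then the Sylow subgroups of `U` are abelian
of rank at most 2; for a nonempty `X ⊆ U - 1` with `C_{M_F}(X) ≠ 1`, `M` is the only maximal
subgroup over `C_G(X)`; and `A(M) - A₁(M)` is a TI-subset.  The pieces were proved by the seats
named in the imports (skeleton: tools/calls/BG90Skel.lean.txt).
-/
import Mathlib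
import Cfsg.Agent.S1351
import Cfsg.Agent.S1352
import Cfsg.Agent.S1355
import Cfsg.Agent.S1364
import Cfsg.Agent.S1382
import Cfsg.Agent.S1403
import Cfsg.Agent.S1417
import Cfsg.Agent.S1420
import Cfsg.Agent.S1421
import Cfsg.Agent.S1432
import Cfsg.Agent.S1437
import Cfsg.Agent.Helper20.BG13P4
import Cfsg.Agent.Helper22.BG10b
import Cfsg.Agent.Helper23.Trans
import Cfsg.Agent.Helper23.FittingHall
import Cfsg.Agent.Helper24.BG13V
import Cfsg.Agent.Helper31.BG17UC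
import Cfsg.Agent.Helper54.BG65TAU2A
import Cfsg.Agent.Helper68.BG14R30
import Cfsg.Agent.Helper72.BG12Cor
import Cfsg.Agent.Helper10.BG65DNORM
import Cfsg.Agent.Helper15.BG90SW
import Cfsg.Agent.Helper15.BG90UN
import Cfsg.Agent.Helper74.BG90NIL2
import Cfsg.Agent.Helper74.BG90ABC
import Cfsg.Agent.Helper74.BG90CYCS
import Cfsg.Agent.Helper61.BG90TFE
import Cfsg.Agent.Helper10.BG90CJ
import Cfsg.Agent.Helper10.BG90EPR
import Cfsg.Agent.Helper10.BG90MFE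
import Cfsg.Agent.Helper62.BG90KEL
import Cfsg.Agent.Helper62.BG90REG
import Cfsg.Agent.Helper62.BG90SYL
import Cfsg.Agent.Helper87.BG90ACEN
import Cfsg.Agent.Helper87.BG90UNIQ
import Cfsg.Agent.Helper87.BG90PNS
import Cfsg.Agent.Helper24.BG90FIX
import Cfsg.Agent.S1381

set_option autoImplicit false

namespace Cfsg.Agent.Helper24

open Cfsg Subgroup

universe u

variable {G : Type u} [Group G] [Finite G]

/-- T2D. Type II gives `K ≠ ⊥` and `U₀ ≠ ⊥` (S1381). -/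
theorem bg90_typeII_dec (hG : IsMinSimpleOddOrder G) {M K U₀ : Subgroup G} (hM : IsCoatom M)
    (hKU : IsSigmaDecomposition M K U₀) (hII : IsOfTypeII M) : K ≠ ⊥ ∧ U₀ ≠ ⊥ :=
  (Cfsg.Agent.S1381.result hG M hM K U₀ hKU).mp hII

/-! ### Assembly -/

/-- Type F excludes `κ(M)`. -/
theorem bg90_typeF_no_kappa (hG : IsMinSimpleOddOrder G) {M : Subgroup G} (hM : IsCoatom M)
    (hF : IsOfTypeF ↥M) : ∀ p : ℕ, p ∉ kappa M := by
  intro r hr
  have hrp : r.Prime := hr.1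
  haveI := Fact.mk hrp
  obtain ⟨k, y, hkM, hko, hyF, hy1, hky⟩ := Cfsg.Agent.Helper62.bg90_kappa_elt hG hM hr
  have h55 := Cfsg.Agent.S1355.result hG M hM
  have hrF : ¬ r ∣ Nat.card (fittingHall ↥M) := by
    intro hd
    have h1 : Nat.card (fittingHallOf M) = Nat.card (fittingHall ↥M) :=
      Subgroup.card_map_of_injective M.subtype_injective
    rw [← h1] at hd
    exact hr.2.2.1 (Cfsg.Agent.Helper23.mem_of_dvd_card_piCoreOf (sigma M) M hrp
      (hd.trans (Subgroup.card_dvd_of_le h55.2.1)))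
  obtain ⟨u, huo, hureg⟩ := Cfsg.Agent.Helper61.bg90_typeF_elt hF hrp hr.2.1 hrF
  have hko' : orderOf (⟨k, hkM⟩ : ↥M) = r := by rw [Subgroup.orderOf_mk]; exact hko
  obtain ⟨m, hm⟩ := Cfsg.Agent.Helper74.bg90_conj_of_cyclic_sylow (fun P => (hr.2.2.2 P).1) hko' huo
  obtain ⟨y', hy'F, hy'⟩ := Subgroup.mem_map.mp hyF
  have hkcomm : (⟨k, hkM⟩ : ↥M) * y' = y' * ⟨k, hkM⟩ := by
    apply Subtype.ext
    rw [Subgroup.coe_mul, Subgroup.coe_mul]
    have h2 : ((y' : ↥M) : G) = y := hy'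
    rw [h2]
    exact hky
  have hxF : m * y' * m⁻¹ ∈ fittingHall ↥M := (fittingHall_normal ↥M).conj_mem y' hy'F m
  have hc1 : Commute (m * ⟨k, hkM⟩ * m⁻¹) (m * y' * m⁻¹) := by
    have h3 : (m * ⟨k, hkM⟩ * m⁻¹) * (m * y' * m⁻¹) = m * (⟨k, hkM⟩ * y') * m⁻¹ := by group
    have h4 : (m * y' * m⁻¹) * (m * ⟨k, hkM⟩ * m⁻¹) = m * (y' * ⟨k, hkM⟩) * m⁻¹ := by group
    show (m * ⟨k, hkM⟩ * m⁻¹) * (m * y' * m⁻¹) = (m * y' * m⁻¹) * (m * ⟨k, hkM⟩ * m⁻¹)
    rw [h3, h4, hkcomm]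
  obtain ⟨j, hj⟩ := Subgroup.mem_zpowers_iff.mp hm
  have hc2 : u * (m * y' * m⁻¹) = (m * y' * m⁻¹) * u := by
    rw [← hj]
    exact (Commute.zpow_left hc1 j).eq
  have hx1 := hureg _ hxF hc2
  have hy'1 : y' = 1 := by
    have h5 : y' = m⁻¹ * (m * y' * m⁻¹) * m := by group
    rw [h5, hx1]
    group
  apply hy1
  rw [← hy', hy'1]
  rfl

/-- The centralizer statement, for `X` inside an abelian normal subgroup `A₀` of a complement. -/
theorem bg90_cent (hG : IsMinSimpleOddOrder G) {M E A₀ : Subgroup G} (hM : IsCoatom M)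
    (hE : IsComplIn E (sigmaCore M) M) (hA₀E : A₀ ≤ E) (hA₀n : E ≤ normalizer (A₀ : Set G))
    (hA₀c : ∀ a ∈ A₀, ∀ b ∈ A₀, a * b = b * a)
    (hκ : ∀ p : ℕ, p.Prime → p ∣ Nat.card A₀ → p ∉ kappa M)
    {X : Set G} (hX : X ⊆ (A₀ : Set G) \ {1}) (hXne : X.Nonempty)
    (hfix : sigmaCore M ⊓ centralizer X ≠ ⊥) :
    centralizer X ≤ M ∧ ∀ L : Subgroup G, IsCoatom L → centralizer X ≤ L → L = M := by
  obtain ⟨x, hxX⟩ := hXne
  have hxA : x ∈ A₀ := (hX hxX).1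
  have hx1 : x ≠ 1 := fun h => (hX hxX).2 (by rw [h]; exact Set.mem_singleton 1)
  obtain ⟨y, hy⟩ := (Subgroup.ne_bot_iff_exists_ne_one).mp hfix
  have hyS : (y : G) ∈ sigmaCore M := (Subgroup.mem_inf.mp y.2).1
  have hyC : (y : G) ∈ centralizer X := (Subgroup.mem_inf.mp y.2).2
  have hy1 : (y : G) ≠ 1 := fun h => hy (Subtype.ext h)
  have hxy : x * (y : G) = (y : G) * x := (Subgroup.mem_centralizer_iff.mp hyC) x hxX
  have hEM : E ≤ M := hE.1
  have hσE := Cfsg.Agent.Helper10.bg90_compl_primes hG hM hE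
  have hxo : ∀ p : ℕ, p.Prime → p ∣ orderOf x → p ∣ Nat.card A₀ := by
    intro p _ hpd
    have h2 := orderOf_dvd_natCard (⟨x, hxA⟩ : ↥A₀)
    rw [Subgroup.orderOf_mk] at h2
    exact hpd.trans h2
  obtain ⟨hτ, hCM, -⟩ := bg90_fix_tau2 hG hM (hEM (hA₀E hxA)) hx1
    (fun p hp hpd => hσE p hp ((hxo p hp hpd).trans (Subgroup.card_dvd_of_le hA₀E)))
    (fun p hp hpd => hκ p hp (hxo p hp hpd)) hyS hy1 hxy
  have hCX : centralizer X ≤ centralizer ({x} : Set G) :=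
    Subgroup.centralizer_le (Set.singleton_subset_iff.mpr hxX)
  refine ⟨hCX.trans hCM, ?_⟩
  have hord : orderOf x ≠ 1 := fun h => hx1 (orderOf_eq_one_iff.mp h)
  obtain ⟨t, ht, htd⟩ := Nat.exists_prime_and_dvd hord
  have htτ : t ∈ tau2 M := hτ t ht htd
  obtain ⟨A, hAE, hAcard, hAn, hAc, hAe, -, -⟩ :=
    Cfsg.Agent.Helper54.bg65_tau2_A hG hM hE htτ
  have hnil : Group.IsNilpotent ↥(A ⊔ A₀) :=
    Cfsg.Agent.Helper74.bg90_sup_nilpotent hAc hA₀c (hAE.trans hA₀n) (hA₀E.trans hAn)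
  have hcomm := Cfsg.Agent.Helper87.bg90_A_cent hG hM hE hA₀E hAE hnil
  have hAC : A ≤ centralizer X := by
    intro a ha
    rw [Subgroup.mem_centralizer_iff]
    intro h hh
    exact (hcomm a ha h (hX hh).1).symm
  exact Cfsg.Agent.Helper87.bg90_uniq hG hM htτ (hAE.trans hEM) hAc hAe hAcard hAC hfix

/-- The TI statement, for an `M`-invariant set `D` of elements of `M` outside `M_σ` with fixed
points on `M_σ` and no `κ(M)`-part outside `σ(M)`. -/
theorem bg90_ti (hG : IsMinSimpleOddOrder G) {M : Subgroup G} (hM : IsCoatom M) {D : Set G}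
    (hDM : ∀ m ∈ M, ∀ a ∈ D, m * a * m⁻¹ ∈ D)
    (hD : ∀ a ∈ D, a ∈ M ∧ a ∉ sigmaCore M ∧
      (∀ t : ℕ, t.Prime → t ∣ orderOf a → t ∉ sigma M → t ∉ kappa M) ∧
      ∃ y ∈ sigmaCore M, y ≠ 1 ∧ a * y = y * a) : IsTISubset D := by
  intro g hg a ha hga
  exfalso
  apply hg
  have hgM : g ∈ M := by
    obtain ⟨haM, haS, hκa, y, hy, hy1, hay⟩ := hD a ha
    obtain ⟨ha'M, -, hκa', y', hy', hy'1, hay'⟩ := hD _ hga
    obtain ⟨t, ht, htd, htσ⟩ := Cfsg.Agent.Helper87.bg90_exists_prime_not_sigma hG hM haM haS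
    have hoa : orderOf (g * a * g⁻¹) = orderOf a := by
      have h1 := (MulAut.conj g).orderOf_eq a
      rwa [MulAut.conj_apply] at h1
    have key : ∀ (b y : G), b ∈ M → orderOf b = orderOf a →
        (∀ t : ℕ, t.Prime → t ∣ orderOf b → t ∉ sigma M → t ∉ kappa M) →
        y ∈ sigmaCore M → y ≠ 1 → b * y = y * b →
        centralizer ({b ^ (orderOf a / t)} : Set G) ≤ M ∧
          ∀ L : Subgroup G, IsCoatom L →
            centralizer ({b ^ (orderOf a / t)} : Set G) ≤ L → L = M := by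
      intro b y hbM hbo hκb hy hy1 hby
      have htd' : t ∣ orderOf b := hbo ▸ htd
      have hzo : orderOf (b ^ (orderOf a / t)) = t := by
        rw [← hbo]
        exact orderOf_pow_orderOf_div (orderOf_pos b).ne' htd'
      have hz1 : b ^ (orderOf a / t) ≠ 1 := by
        intro h
        rw [h, orderOf_one] at hzo
        exact ht.one_lt.ne hzo
      have hprime : ∀ p : ℕ, p.Prime → p ∣ orderOf (b ^ (orderOf a / t)) → p = t := by
        intro p hp hpd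
        rw [hzo] at hpd
        exact (Nat.prime_dvd_prime_iff_eq hp ht).mp hpd
      obtain ⟨-, h1, h2⟩ := bg90_fix_tau2 hG hM (M.pow_mem hbM _) hz1
        (fun p hp hpd => by rw [hprime p hp hpd]; exact htσ)
        (fun p hp hpd => by rw [hprime p hp hpd]; exact hκb t ht htd' htσ) hy hy1
        ((Commute.pow_left (show Commute b y from hby) _).eq)
      exact ⟨h1, h2⟩
    obtain ⟨h1, -⟩ := key a y haM rfl hκa hy hy1 hay
    obtain ⟨-, h2⟩ := key (g * a * g⁻¹) y' ha'M hoa hκa' hy' hy'1 hay'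
    rw [conj_pow] at h2
    exact Cfsg.Agent.Helper10.bg90_mem_of_uniq_conj hG hM h1 h2
  rw [Subgroup.mem_set_normalizer_iff]
  intro n
  constructor
  · intro hn
    exact hDM g hgM n hn
  · intro hn
    have h3 := hDM g⁻¹ (M.inv_mem hgM) _ hn
    have h4 : g⁻¹ * (g * n * g⁻¹) * g⁻¹⁻¹ = n := by group
    rwa [h4] at h3

omit [Finite G] in
/-- The sets `A(M) \ A₁(M)` are invariant under `M`. -/
theorem bg90_D_inv {M S T : Subgroup G} (hTn : M ≤ normalizer (T : Set G))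
    (hSn : M ≤ normalizer (S : Set G)) :
    ∀ m ∈ M, ∀ a ∈ ({a | a ∈ T ∧ a ≠ 1 ∧ ∃ x ∈ S, x ≠ 1 ∧ a * x = x * a} \
        ((S : Set G) \ {1})),
      m * a * m⁻¹ ∈ ({a | a ∈ T ∧ a ≠ 1 ∧ ∃ x ∈ S, x ≠ 1 ∧ a * x = x * a} \
        ((S : Set G) \ {1})) := by
  rintro m hm a ⟨⟨haT, ha1, x, hx, hx1, hax⟩, haS⟩
  have hconj1 : ∀ b : G, b ≠ 1 → m * b * m⁻¹ ≠ 1 := by
    intro b hb h
    apply hb
    have h2 : b = m⁻¹ * (m * b * m⁻¹) * m := by group
    rw [h2, h]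
    group
  refine ⟨⟨(Subgroup.mem_normalizer_iff.mp (hTn hm) a).mp haT, hconj1 a ha1, m * x * m⁻¹,
    (Subgroup.mem_normalizer_iff.mp (hSn hm) x).mp hx, hconj1 x hx1, ?_⟩, ?_⟩
  · calc m * a * m⁻¹ * (m * x * m⁻¹) = m * (a * x) * m⁻¹ := by group
      _ = m * (x * a) * m⁻¹ := by rw [hax]
      _ = m * x * m⁻¹ * (m * a * m⁻¹) := by group
  · rintro ⟨h1, -⟩
    exact haS ⟨(Subgroup.mem_normalizer_iff.mp (hSn hm) a).mpr h1, ha1⟩

/-- Row S1390. -/
theorem bg90_main (hG : IsMinSimpleOddOrder G) (M : Subgroup G) (hM : IsCoatom M)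
    (U : Subgroup G)
    (hU : (IsOfTypeI M ∧ IsComplIn (fittingHallOf M) U M) ∨
      (IsOfTypeII M ∧ IsComplIn (fittingHallOf M) U ⁅M, M⁆)) :
    (∀ (p : ℕ), p.Prime → ∀ P : Sylow p U,
        IsMulCommutative (P : Subgroup U) ∧ PRankLE p 2 (P : Subgroup U)) ∧
      (∀ X : Set G, X ⊆ (U : Set G) \ {1} → X.Nonempty →
        fittingHallOf M ⊓ centralizer X ≠ ⊥ →
        centralizer X ≤ M ∧ ∀ L : Subgroup G, IsCoatom L → centralizer X ≤ L → L = M) ∧
      IsTISubset (typeA M \ typeA1 M) := by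
  classical
  have hUq : Cfsg.Agent.Helper22.BGUniq G :=
    fun K hK h1 h2 => Cfsg.Agent.S1403.result hG K hK h1 h2
  have hMσ : M ≤ normalizer (sigmaCore M : Set G) :=
    Cfsg.Agent.Helper23.le_normalizer_piCoreOf (sigma M) M
  obtain ⟨⟨K, hK⟩, hKc⟩ := Cfsg.Agent.S1351.result hG M hM
  obtain ⟨⟨U₀, hKU⟩, -⟩ := Cfsg.Agent.S1352.result hG M hM K (hKc K hK) hK
  have hKκ : K ≠ ⊥ → ∃ p : ℕ, p ∈ kappa M := by
    intro hne
    have h1 : Nat.card K ≠ 1 := fun h => hne (Subgroup.card_eq_one.mp h)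
    obtain ⟨p, hp, hpd⟩ := Nat.exists_prime_and_dvd h1
    exact ⟨p, hK.2.1 p hp hpd⟩
  rcases hU with ⟨hI, hc⟩ | ⟨hII, hc⟩
  · -- Type I
    have hκ : ∀ p : ℕ, p ∉ kappa M := bg90_typeF_no_kappa hG hM hI.1
    have hF : fittingHallOf M = sigmaCore M := Cfsg.Agent.Helper10.bg90_MF_eq_of_no_kappa hG hM hκ
    rw [hF] at hc
    have hE : IsComplIn U (sigmaCore M) M := Cfsg.Agent.Helper15.bg90_compl_swap hc hMσ
    have hσU := Cfsg.Agent.Helper10.bg90_compl_primes hG hM hE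
    have hK1 : K = ⊥ := by
      by_contra hne
      obtain ⟨p, hp⟩ := hKκ hne
      exact hκ p hp
    have h34 : ¬ (IsOfTypeIII M ∨ IsOfTypeIV M) :=
      fun h => ((Cfsg.Agent.S1382.result hG M hM K U₀ hKU).mp h).1 hK1
    refine ⟨Cfsg.Agent.Helper62.bg90_sylow hG hM hE.1 hσU, ?_, ?_⟩
    · intro X hX hXne hfix
      rw [hF] at hfix
      have hreg := Cfsg.Agent.Helper62.bg90_reg13 hG hM hκ hE
      obtain ⟨⟨A₀, hA₀E, hA₀n, hA₀c, hA₀⟩, -⟩ := Cfsg.Agent.S1421.result hG M hM U hE hreg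
      obtain ⟨y, hy⟩ := (Subgroup.ne_bot_iff_exists_ne_one).mp hfix
      have hyS : (y : G) ∈ sigmaCore M := (Subgroup.mem_inf.mp y.2).1
      have hyC : (y : G) ∈ centralizer X := (Subgroup.mem_inf.mp y.2).2
      have hy1 : (y : G) ≠ 1 := fun h => hy (Subtype.ext h)
      have hXA : X ⊆ (A₀ : Set G) \ {1} := by
        intro x hx
        refine ⟨hA₀ (y : G) hyS hy1 (Subgroup.mem_inf.mpr ⟨(hX hx).1, ?_⟩), (hX hx).2⟩
        rw [Subgroup.mem_centralizer_iff]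
        intro h hh
        rw [Set.mem_singleton_iff] at hh
        rw [hh]
        exact ((Subgroup.mem_centralizer_iff.mp hyC) x hx).symm
      exact bg90_cent hG hM hE hA₀E hA₀n
        (fun a ha b hb => congrArg Subtype.val (hA₀c.is_comm.comm ⟨a, ha⟩ ⟨b, hb⟩))
        (fun p _ _ => hκ p) hXA hXne hfix
    · have hD : typeA M \ typeA1 M =
          {a | a ∈ M ∧ a ≠ 1 ∧ ∃ x ∈ sigmaCore M, x ≠ 1 ∧ a * x = x * a} \
            ((sigmaCore M : Set G) \ {1}) := by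
        unfold typeA typeA1 typeCore
        rw [if_pos hI, if_neg h34, hF]
      rw [hD]
      refine bg90_ti hG hM (bg90_D_inv le_normalizer hMσ) ?_
      rintro a ⟨⟨haM, ha1, x, hx, hx1, hax⟩, haS⟩
      exact ⟨haM, fun h => haS ⟨h, ha1⟩, fun t _ _ _ => hκ t, x, hx, hx1, hax⟩
  · -- Type II
    obtain ⟨hK1, hU₀1⟩ := bg90_typeII_dec hG hM hKU hII
    have hnI : ¬ IsOfTypeI M := by
      intro hI
      obtain ⟨p, hp⟩ := hKκ hK1
      exact bg90_typeF_no_kappa hG hM hI.1 p hp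
    have h34 : ¬ (IsOfTypeIII M ∨ IsOfTypeIV M) :=
      fun h => hU₀1 ((Cfsg.Agent.S1382.result hG M hM K U₀ hKU).mp h).2.1
    have hF : fittingHallOf M = sigmaCore M := by
      by_contra hne
      exact hU₀1 (Cfsg.Agent.S1437.result hG M hM K U₀ hKU hne).1
    rw [hF] at hc
    have hc₀ : IsComplIn (sigmaCore M) U₀ ⁅M, M⁆ :=
      Cfsg.Agent.Helper31.bg17_U_compl hG hM hKU hK1
    have hDn : M ≤ normalizer ((⁅M, M⁆ : Subgroup G) : Set G) :=
      Cfsg.Agent.Helper10.bg65_comm_norm M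
    have hDM : ⁅M, M⁆ ≤ M := by
      rw [Subgroup.commutator_le]
      intro a ha b hb
      rw [commutatorElement_def]
      exact M.mul_mem (M.mul_mem (M.mul_mem ha hb) (M.inv_mem ha)) (M.inv_mem hb)
    have hUM : U ≤ M := hc.2.1.trans hDM
    have hcard₀ := Cfsg.Agent.Helper23.card_of_isComplIn _ _ _ hc₀
    have hcard : Nat.card U = Nat.card U₀ := by
      have h1 := Cfsg.Agent.Helper23.card_of_isComplIn _ _ _ hc
      exact Nat.eq_of_mul_eq_mul_left Nat.card_pos (h1.symm.trans hcard₀)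
    have hUhall := Cfsg.Agent.Helper68.bg14r_U_hall hG hM hKU
    have hprU : ∀ p : ℕ, p.Prime → p ∣ Nat.card U → p ∉ sigma M ∧ p ∉ kappa M := by
      intro p hp hpd
      rw [hcard] at hpd
      have h1 := hUhall.2.1 p hp hpd
      exact ⟨h1.2.2, h1.2.1⟩
    obtain ⟨W₁, U', W₂, hP, -, -, -, hU'c, -, -, -⟩ := hII
    have hU'compl := hP.U_compl
    rw [hF] at hU'compl
    have hUc : ∀ a ∈ U, ∀ b ∈ U, a * b = b * a :=
      Cfsg.Agent.Helper74.bg90_compl_comm hU'compl hc (hDM.trans hMσ)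
        (fun a ha b hb => congrArg Subtype.val (hU'c.is_comm.comm ⟨a, ha⟩ ⟨b, hb⟩))
    have hcop : (Nat.card U).Coprime (Nat.card (sigmaCore M)) :=
      Nat.coprime_of_dvd (fun p hp h1 h2 => (hprU p hp h1).1
        (Cfsg.Agent.Helper23.mem_of_dvd_card_piCoreOf (sigma M) M hp h2))
    obtain ⟨E, hE, hUE⟩ := Cfsg.Agent.Helper20.bg13_exists_compl_ge hG hUq hM hUM hcop
    have hEU : E ≤ normalizer (U : Set G) := Cfsg.Agent.Helper15.bg90_compl_normal hE hc hDM hDn hUE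
    refine ⟨Cfsg.Agent.Helper62.bg90_sylow hG hM hUM (fun p hp hpd => (hprU p hp hpd).1), ?_, ?_⟩
    · intro X hX hXne hfix
      rw [hF] at hfix
      exact bg90_cent hG hM hE hUE hEU hUc (fun p hp hpd => (hprU p hp hpd).2) hX hXne hfix
    · have hD : typeA M \ typeA1 M =
          {a | a ∈ ⁅M, M⁆ ∧ a ≠ 1 ∧ ∃ x ∈ sigmaCore M, x ≠ 1 ∧ a * x = x * a} \
            ((sigmaCore M : Set G) \ {1}) := by
        unfold typeA typeA1 typeCore
        rw [if_neg hnI, if_neg h34, hF]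
      rw [hD]
      refine bg90_ti hG hM (bg90_D_inv hDn hMσ) ?_
      rintro a ⟨⟨haD, ha1, x, hx, hx1, hax⟩, haS⟩
      refine ⟨hDM haD, fun h => haS ⟨h, ha1⟩, ?_, x, hx, hx1, hax⟩
      intro t ht htd htσ
      have h1 : orderOf a ∣ Nat.card ↥⁅M, M⁆ := by
        have h2 := orderOf_dvd_natCard (⟨a, haD⟩ : ↥⁅M, M⁆)
        rwa [Subgroup.orderOf_mk] at h2
      have h3 : t ∣ Nat.card (sigmaCore M) * Nat.card U₀ := hcard₀ ▸ (htd.trans h1)
      rcases (Nat.Prime.dvd_mul ht).mp h3 with h4 | h4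
      · exact absurd (Cfsg.Agent.Helper23.mem_of_dvd_card_piCoreOf (sigma M) M ht h4) htσ
      · exact (hUhall.2.1 t ht h4).2.1

end Cfsg.Agent.Helper24
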