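import Cfsg.Agent.Helper1.BG95a
import Cfsg.Agent.Helper22.Generation

/-!
# Bender–Glauberman Theorem 9.5 (S1402): the last steps

On top of `Helper1/BG95a.lean` (context `BG95Ctx` of a counterexample, data `BG95Dat`): given that
good elements of `E` centralize the datum subgroup and the nilpotent-commutator lemma, a datum
`(M, s, W)` with `C(A) ≤ M` leads to a contradiction (`bg95_final`).
-/

set_option autoImplicit false

universe u

namespace Cfsg.Agent.Helper24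

open Cfsg Subgroup

variable {G : Type u} [Group G] [Finite G]

/-! ### Generalities -/

omit [Finite G] in
theorem bg95f_mem_cent_iff {X : Subgroup G} {h : G} :
    h ∈ centralizer (X : Set G) ↔ X ≤ centralizer ({h} : Set G) := by
  constructor
  · intro hh x hx
    rw [Subgroup.mem_centralizer_iff]
    intro y hy
    rw [Set.mem_singleton_iff.mp hy]
    exact (Subgroup.mem_centralizer_iff.mp hh x hx).symm
  · intro hX
    rw [Subgroup.mem_centralizer_iff]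
    intro x hx
    exact (Subgroup.mem_centralizer_iff.mp (hX hx) h rfl).symm

omit [Finite G] in
theorem bg95f_exists_ne_one {X : Subgroup G} (h : X ≠ ⊥) : ∃ x ∈ X, x ≠ 1 := by
  by_contra hcon
  push Not at hcon
  exact h ((Subgroup.eq_bot_iff_forall _).mpr hcon)

theorem bg95f_exists_not_mem {E D : Subgroup G} (h : Nat.card ↥D < Nat.card ↥E) :
    ∃ a ∈ E, a ∉ D := by
  by_contra hcon
  push Not at hcon
  have hle : E ≤ D := fun a ha => hcon a ha
  exact absurd (Subgroup.card_le_of_le hle) (not_le.mpr h)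

omit [Finite G] in
theorem bg95f_le_normalizer {E X : Subgroup G} (h : ∀ u ∈ E, ∀ x ∈ X, u * x * u⁻¹ ∈ X) :
    E ≤ normalizer (X : Set G) := by
  intro u hu
  rw [Subgroup.mem_normalizer_iff]
  intro x
  refine ⟨h u hu x, fun hx => ?_⟩
  have h1 := h u⁻¹ (E.inv_mem hu) _ hx
  have e : u⁻¹ * (u * x * u⁻¹) * u⁻¹⁻¹ = x := by group
  rwa [e] at h1

omit [Finite G] in
theorem bg95f_conj_mem {W : Subgroup G} {u e' x : G} (hu : u ∈ normalizer (W : Set G))
    (hue : u * e' = e' * u) (hx : x ∈ W ⊓ centralizer ({e'} : Set G)) :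
    u * x * u⁻¹ ∈ W ⊓ centralizer ({e'} : Set G) := by
  refine ⟨(Subgroup.mem_normalizer_iff.mp hu x).mp hx.1, ?_⟩
  show u * x * u⁻¹ ∈ centralizer ({e'} : Set G)
  rw [Subgroup.mem_centralizer_iff]
  intro z hz
  rw [Set.mem_singleton_iff.mp hz]
  have c1 : Commute e' u := hue.symm
  have c2 : Commute e' x := Subgroup.mem_centralizer_iff.mp hx.2 e' rfl
  exact ((c1.mul_right c2).mul_right c1.inv_right).eq

omit [Finite G] in
theorem bg95f_mem_normalizer_zpowers {u v : G} (h : v * u = u * v) :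
    v ∈ normalizer ((zpowers u : Subgroup G) : Set G) := by
  have hc : ∀ x ∈ zpowers u, v * x * v⁻¹ = x := by
    rintro x ⟨n, rfl⟩
    have c1 : Commute v (u ^ n) := Commute.zpow_right h n
    rw [c1.eq]; group
  rw [Subgroup.mem_normalizer_iff]
  intro x
  constructor
  · intro hx
    rw [hc x hx]; exact hx
  · intro hx
    have h2 := hc _ hx
    have h3 : x = v * x * v⁻¹ :=
      calc x = v⁻¹ * (v * x * v⁻¹) * v := by group
        _ = v⁻¹ * (v * (v * x * v⁻¹) * v⁻¹) * v := by rw [h2]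
        _ = v * x * v⁻¹ := by group
    rw [h3]; exact hx

/-- a nonidentity element of an `s`-group of order at most `s` generates it -/
theorem bg95f_zpowers_eq {s : ℕ} (hs : s.Prime) {X : Subgroup G} (hX : IsPGroup s X)
    (hc : Nat.card ↥X ≤ s) {x : G} (hx : x ∈ X) (hx1 : x ≠ 1) : zpowers x = X :=
  Helper1.bg95_eq_of_le_of_card_le hs hX (zpowers_le.mpr hx) (fun h => hx1 (by
    have h2 := mem_zpowers x
    rw [h] at h2
    exact Subgroup.mem_bot.mp h2)) hc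

/-- if `u ^ p = 1` and `a ≠ 1` is a power of `u` then `u` is a power of `a` -/
theorem bg95f_mem_zpowers_of {p : ℕ} (hp : p.Prime) {u a : G} (hu : u ^ p = 1)
    (ha : a ∈ zpowers u) (ha1 : a ≠ 1) : u ∈ zpowers a := by
  have hT : IsPGroup p ↥(zpowers u) := Helper1.bg95_isPGroup_of_exp (by
    rintro x ⟨n, rfl⟩
    show (u ^ n) ^ p = 1
    rw [← zpow_natCast, ← zpow_mul, mul_comm, zpow_mul, zpow_natCast, hu, one_zpow])
  have hc : Nat.card ↥(zpowers u) ≤ p := by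
    rw [Nat.card_zpowers]
    exact Nat.le_of_dvd hp.pos (orderOf_dvd_of_pow_eq_one hu)
  have h1 : zpowers a = zpowers u := bg95f_zpowers_eq hp hT hc ha ha1
  rw [h1]
  exact mem_zpowers u

omit [Finite G] in
theorem bg95f_card_mul_relIndex {H K : Subgroup G} (h : H ≤ K) :
    Nat.card ↥H * H.relIndex K = Nat.card ↥K := by
  rw [← Nat.card_congr (Subgroup.subgroupOfEquivOfLe h).toEquiv]
  exact Subgroup.card_mul_index (H.subgroupOf K)

/-- counting in an elementary abelian group of order `p ^ 3` -/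
theorem bg95f_count {p : ℕ} (hp : p.Prime) {E H₁ H₂ : Subgroup G} (hE : Nat.card ↥E = p ^ 3)
    (h₁E : H₁ ≤ E) (h₂E : H₂ ≤ E) (h₁ : Nat.card ↥E ≤ p * Nat.card ↥H₁)
    (h₂ : Nat.card ↥E ≤ p * Nat.card ↥H₂) (h₁₂ : Nat.card ↥(H₁ ⊓ H₂) ≤ p) :
    (∃ g ∈ H₁ ⊓ H₂, g ≠ 1) ∧ (∃ e ∈ H₁, e ∉ H₂) ∧ (∃ f ∈ H₂, f ∉ H₁) := by
  have hp2 := hp.two_le
  have e₁ := bg95f_card_mul_relIndex h₁E
  have e₂ := bg95f_card_mul_relIndex h₂E
  have e₁₂ := bg95f_card_mul_relIndex ((inf_le_left : H₁ ⊓ H₂ ≤ H₁).trans h₁E)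
  have hr := Subgroup.relIndex_inf_le (H := H₁) (K := H₂) (L := E)
  have n₁pos : 0 < Nat.card ↥H₁ := Nat.card_pos
  have n₂pos : 0 < Nat.card ↥H₂ := Nat.card_pos
  have n₁₂pos : 0 < Nat.card ↥(H₁ ⊓ H₂) := Nat.card_pos
  have hr₁ : H₁.relIndex E ≤ p := by
    rw [← e₁] at h₁
    have : Nat.card ↥H₁ * H₁.relIndex E ≤ Nat.card ↥H₁ * p := by rw [mul_comm _ p]; exact h₁
    exact Nat.le_of_mul_le_mul_left this n₁pos
  have hr₂ : H₂.relIndex E ≤ p := by
    rw [← e₂] at h₂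
    have : Nat.card ↥H₂ * H₂.relIndex E ≤ Nat.card ↥H₂ * p := by rw [mul_comm _ p]; exact h₂
    exact Nat.le_of_mul_le_mul_left this n₂pos
  have hr₁₂ : (H₁ ⊓ H₂).relIndex E ≤ p * p := hr.trans (Nat.mul_le_mul hr₁ hr₂)
  have hn₁₂ : p ≤ Nat.card ↥(H₁ ⊓ H₂) := by
    have h3 : p ^ 3 ≤ Nat.card ↥(H₁ ⊓ H₂) * (p * p) := by
      rw [← hE, ← e₁₂]; exact Nat.mul_le_mul_left _ hr₁₂
    have h4 : p * (p * p) ≤ Nat.card ↥(H₁ ⊓ H₂) * (p * p) := by
      have : p ^ 3 = p * (p * p) := by ring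
      rw [← this]; exact h3
    exact Nat.le_of_mul_le_mul_right h4 (Nat.mul_pos hp.pos hp.pos)
  have hn₁ : p * p ≤ Nat.card ↥H₁ := by
    have h3 : p * (p * p) ≤ p * Nat.card ↥H₁ := by
      have : p ^ 3 = p * (p * p) := by ring
      rw [← this, ← hE]; exact h₁
    exact Nat.le_of_mul_le_mul_left h3 hp.pos
  have hn₂ : p * p ≤ Nat.card ↥H₂ := by
    have h3 : p * (p * p) ≤ p * Nat.card ↥H₂ := by
      have : p ^ 3 = p * (p * p) := by ring
      rw [← this, ← hE]; exact h₂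
    exact Nat.le_of_mul_le_mul_left h3 hp.pos
  have hpp : p < p * p := by nlinarith
  refine ⟨?_, ?_, ?_⟩
  · apply bg95f_exists_ne_one
    intro h
    have h1 : Nat.card ↥(H₁ ⊓ H₂) = 1 := Subgroup.card_eq_one.mpr h
    omega
  · by_contra hcon
    push Not at hcon
    have hle : H₁ ≤ H₂ := fun a ha => hcon a ha
    rw [inf_eq_left.mpr hle] at h₁₂
    omega
  · by_contra hcon
    push Not at hcon
    have hle : H₂ ≤ H₁ := fun a ha => hcon a ha
    rw [inf_eq_right.mpr hle] at h₁₂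
    omega

/-- The centralizer of a group of prime order `s` in an elementary abelian `p`-group normalizing
it has index at most `p`. -/
theorem bg95f_card_le_mul_cent {p s : ℕ} [Fact p.Prime] (hs : s.Prime) (hsp : s ≠ p)
    {E X : Subgroup G} (hEab : ∀ a ∈ E, ∀ b ∈ E, a * b = b * a) (hEp : ∀ e ∈ E, e ^ p = 1)
    (hXs : IsPGroup s X) (hXc : Nat.card ↥X ≤ s) (hX1 : X ≠ ⊥)
    (hEX : E ≤ normalizer (X : Set G)) :
    Nat.card ↥E ≤ p * Nat.card ↥(E ⊓ centralizer (X : Set G)) := by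
  have hp : p.Prime := Fact.out
  have := Fact.mk hs
  by_cases hall : E ≤ centralizer (X : Set G)
  · rw [inf_eq_left.mpr hall]
    exact Nat.le_mul_of_pos_left _ hp.pos
  · obtain ⟨u, huE, huX⟩ := SetLike.not_le_iff_exists.mp hall
    have hXnil : Group.IsNilpotent ↥X := hXs.isNilpotent
    have hXsolv : Group.IsSolvable ↥X := inferInstance
    have hpX : ¬ p ∣ Nat.card ↥X := by
      obtain ⟨n, hn⟩ := hXs.exists_card_eq
      rw [hn]
      intro h
      exact hsp ((Nat.prime_dvd_prime_iff_eq hp hs).mp (hp.dvd_of_dvd_pow h)).symm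
    have hkey : ∀ v : G, v ∉ centralizer (X : Set G) →
        X ⊓ centralizer ({v} : Set G) ≤ ⊥ := by
      intro v hv
      by_contra hne
      have h1 : X ⊓ centralizer ({v} : Set G) = X :=
        Helper1.bg95_eq_of_le_of_card_le hs hXs inf_le_left (fun h => hne (h ▸ le_rfl)) hXc
      exact hv (bg95f_mem_cent_iff.mpr (inf_eq_left.mp h1))
    have hsub : E ≤ zpowers u ⊔ (E ⊓ centralizer (X : Set G)) := by
      intro v hvE
      by_contra hv
      have h1 : X ≤ ⊥ := Helper22.le_of_centralizer_le_of_commuting p u v (hEab u huE v hvE)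
        (hEp u huE) (hEp v hvE) ⊥ (Nat.card ↥X) X le_rfl hXsolv hpX (hEX huE) (hEX hvE)
        (hkey u huX) (fun k => hkey (u ^ k * v) (fun hmem => hv (by
          have e : v = (u ^ k)⁻¹ * (u ^ k * v) := by group
          rw [e]
          exact mul_mem (mem_sup_left (inv_mem (pow_mem (mem_zpowers u) k)))
            (mem_sup_right ⟨E.mul_mem (E.pow_mem huE k) hvE, hmem⟩))))
      exact hX1 (le_bot_iff.mp h1)
    calc Nat.card ↥E ≤ Nat.card ↥(zpowers u ⊔ (E ⊓ centralizer (X : Set G))) :=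
          Subgroup.card_le_of_le hsub
      _ ≤ Nat.card ↥(zpowers u) * Nat.card ↥(E ⊓ centralizer (X : Set G)) :=
          Helper22.card_sup_le_of_le_normalizer _ _ (fun v hv =>
            bg95f_mem_normalizer_zpowers (hEab v hv.1 u huE))
      _ ≤ p * Nat.card ↥(E ⊓ centralizer (X : Set G)) := Nat.mul_le_mul_right _ (by
          rw [Nat.card_zpowers]
          exact Nat.le_of_dvd hp.pos (orderOf_dvd_of_pow_eq_one (hEp u huE)))

/-! ### Good elements and the subgroup `C_E(W)` -/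

/-- hypothesis (S'): good elements of `E` centralize the datum subgroup -/
def BG95S (p : ℕ) (A E : Subgroup G) : Prop :=
  ∀ (M W : Subgroup G) (s : ℕ), Helper1.BG95Dat M s W → centralizer (A : Set G) ≤ M → s ≠ p →
    ∀ e ∈ E, e ≠ 1 → centralizer ({e} : Set G) ≤ M → W ≤ centralizer ({e} : Set G)

/-- hypothesis (F5) -/
def BG95F5 (p : ℕ) (A : Subgroup G) : Prop :=
  ∀ (M W : Subgroup G) (s : ℕ), Helper1.BG95Dat M s W → centralizer (A : Set G) ≤ M → s ≠ p →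
    ∀ M₁ : Subgroup G, IsCoatom M₁ → centralizer (A : Set G) ≤ M₁ → M₁ ≠ M →
      (∀ t : ℕ, t.Prime → PRankLE t 2 ↥(fittingOf M₁)) → W ⊓ M₁ ≤ centralizer (A : Set G)

section ctx

variable {p : ℕ} {A E : Subgroup G} {M W : Subgroup G} {s : ℕ}

theorem bg95f_good (c : Helper1.BG95Ctx p A E) (d : Helper1.BG95Dat M s W) {e : G} (he : e ≠ 1)
    (h : s ^ 2 ≤ Nat.card ↥(W ⊓ centralizer ({e} : Set G))) : centralizer ({e} : Set G) ≤ M :=
  d.hT _ inf_le_left h _ (c.cent_ne_top he) inf_le_right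

/-- elements of `E` centralizing `W` are good -/
theorem bg95f_good_of_cent (c : Helper1.BG95Ctx p A E) (d : Helper1.BG95Dat M s W) {e : G}
    (he : e ≠ 1) (h : e ∈ centralizer (W : Set G)) : centralizer ({e} : Set G) ≤ M :=
  d.hT W le_rfl d.card_sq _ (c.cent_ne_top he) (bg95f_mem_cent_iff.mp h)

/-- `#C_E(W) ≤ p` -/
theorem bg95f_lcard (c : Helper1.BG95Ctx p A E) (d : Helper1.BG95Dat M s W) :
    Nat.card ↥(E ⊓ centralizer (W : Set G)) ≤ p := by
  rcases Helper1.bg95_card_le_or c.hp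
    (c.hEpg.to_le (inf_le_left : E ⊓ centralizer (W : Set G) ≤ E)) with h | h
  · exact h
  · exfalso
    obtain ⟨b, hb, hb1, hbM⟩ := c.hB3 M d.hM _ inf_le_left h
    exact hbM (bg95f_good_of_cent c d hb1 hb.2)

omit [Finite G] in
theorem bg95f_good_mem (hS : BG95S p A E) (d : Helper1.BG95Dat M s W)
    (hCM : centralizer (A : Set G) ≤ M) (hsp : s ≠ p) {e : G} (heE : e ∈ E) (he1 : e ≠ 1)
    (h : centralizer ({e} : Set G) ≤ M) : e ∈ centralizer (W : Set G) :=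
  bg95f_mem_cent_iff.mpr (hS M W s d hCM hsp e heE he1 h)

theorem bg95f_small_cent (c : Helper1.BG95Ctx p A E) (hS : BG95S p A E)
    (d : Helper1.BG95Dat M s W) (hCM : centralizer (A : Set G) ≤ M) (hsp : s ≠ p) {e : G}
    (heE : e ∈ E) (heW : e ∉ centralizer (W : Set G)) :
    Nat.card ↥(W ⊓ centralizer ({e} : Set G)) ≤ s := by
  rcases Helper1.bg95_card_le_or d.hs (d.isPGroup.to_le inf_le_left) with h | h
  · exact h
  · exfalso
    have he1 : e ≠ 1 := fun h1 => heW (h1 ▸ one_mem _)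
    exact heW (bg95f_good_mem hS d hCM hsp heE he1 (bg95f_good c d he1 h))

theorem bg95f_mem_zpowers (c : Helper1.BG95Ctx p A E) (d : Helper1.BG95Dat M s W) {e : G}
    (heE : e ∈ E) (he1 : e ≠ 1) (heW : e ∈ centralizer (W : Set G)) {a : G} (haE : a ∈ E)
    (haW : a ∈ centralizer (W : Set G)) : a ∈ zpowers e := by
  have : Fact p.Prime := ⟨c.hp⟩
  have h1 : zpowers e ≤ E ⊓ centralizer (W : Set G) := zpowers_le.mpr ⟨heE, heW⟩
  have h2 : zpowers e = E ⊓ centralizer (W : Set G) := by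
    apply Subgroup.eq_of_le_of_card_ge h1
    rw [Nat.card_zpowers, orderOf_eq_prime (c.hEp e heE) he1]
    exact bg95f_lcard c d
  rw [h2]; exact ⟨haE, haW⟩

/-- Two distinct nontrivial centralizers `C_W(e₁) ≠ C_W(e₂)` with `e₁, e₂ ∈ E` not centralizing
`W` (coprime generation by a complement of `C_E(W)`). -/
theorem bg95f_two_cents (c : Helper1.BG95Ctx p A E) (d : Helper1.BG95Dat M s W)
    (hCM : centralizer (A : Set G) ≤ M) (hsp : s ≠ p) :
    ∃ e₁ ∈ E, ∃ e₂ ∈ E, e₁ ∉ centralizer (W : Set G) ∧ e₂ ∉ centralizer (W : Set G) ∧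
      W ⊓ centralizer ({e₁} : Set G) ≠ ⊥ ∧ W ⊓ centralizer ({e₂} : Set G) ≠ ⊥ ∧
      W ⊓ centralizer ({e₁} : Set G) ≠ W ⊓ centralizer ({e₂} : Set G) := by
  have hp := c.hp
  have : Fact p.Prime := ⟨hp⟩
  have : Fact s.Prime := ⟨d.hs⟩
  have hp2 := hp.two_le
  have hEM : E ≤ M := c.hEA.trans (c.hAcent.trans hCM)
  have hl := bg95f_lcard c d
  have hpp : p * p < p ^ 3 := by
    have : p ^ 3 = p * (p * p) := by ring
    rw [this]
    nlinarith [Nat.mul_pos hp.pos hp.pos]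
  obtain ⟨a, haE, hal⟩ : ∃ a ∈ E, a ∉ E ⊓ centralizer (W : Set G) :=
    bg95f_exists_not_mem (by
      rw [c.hEcard]
      have : p ≤ p * p := Nat.le_mul_self p
      omega)
  have haW : a ∉ centralizer (W : Set G) := fun h => hal ⟨haE, h⟩
  obtain ⟨b, hbE, hbD⟩ : ∃ b ∈ E, b ∉ zpowers a ⊔ (E ⊓ centralizer (W : Set G)) :=
    bg95f_exists_not_mem (by
      rw [c.hEcard]
      calc Nat.card ↥(zpowers a ⊔ (E ⊓ centralizer (W : Set G)))
          ≤ Nat.card ↥(zpowers a) * Nat.card ↥(E ⊓ centralizer (W : Set G)) :=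
            Helper22.card_sup_le_of_le_normalizer _ _ (fun v hv =>
              bg95f_mem_normalizer_zpowers (c.hEab v hv.1 a haE))
        _ ≤ p * p := Nat.mul_le_mul (by
            rw [Nat.card_zpowers]
            exact Nat.le_of_dvd hp.pos (orderOf_dvd_of_pow_eq_one (c.hEp a haE))) hl
        _ < p ^ 3 := hpp)
  have hk : ∀ k : ℕ, a ^ k * b ∉ centralizer (W : Set G) := by
    intro k hmem
    apply hbD
    have e : b = (a ^ k)⁻¹ * (a ^ k * b) := by group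
    rw [e]
    exact mul_mem (mem_sup_left (inv_mem (pow_mem (mem_zpowers a) k)))
      (mem_sup_right ⟨E.mul_mem (E.pow_mem haE k) hbE, hmem⟩)
  have hWnil : Group.IsNilpotent ↥W := d.isPGroup.isNilpotent
  have hWsolv : Group.IsSolvable ↥W := inferInstance
  have hpW : ¬ p ∣ Nat.card ↥W := by
    obtain ⟨n, hn⟩ := d.isPGroup.exists_card_eq
    rw [hn]
    intro h
    exact hsp ((Nat.prime_dvd_prime_iff_eq hp d.hs).mp (hp.dvd_of_dvd_pow h)).symm
  have hgen : ∀ S : Subgroup G, W ⊓ centralizer ({a} : Set G) ≤ S →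
      (∀ k : ℕ, W ⊓ centralizer ({a ^ k * b} : Set G) ≤ S) → W ≤ S :=
    fun S => Helper22.le_of_centralizer_le_of_commuting p a b (c.hEab a haE b hbE)
      (c.hEp a haE) (c.hEp b hbE) S (Nat.card ↥W) W le_rfl hWsolv hpW (d.hMW (hEM haE))
      (d.hMW (hEM hbE))
  by_contra hcon
  push Not at hcon
  by_cases hex : ∃ e₀ ∈ E, e₀ ∉ centralizer (W : Set G) ∧ W ⊓ centralizer ({e₀} : Set G) ≠ ⊥
  · obtain ⟨e₀, he₀E, he₀W, he₀⟩ := hex
    have hle : ∀ e' ∈ E, e' ∉ centralizer (W : Set G) →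
        W ⊓ centralizer ({e'} : Set G) ≤ W ⊓ centralizer ({e₀} : Set G) := by
      intro e' he'E he'W
      by_cases h0 : W ⊓ centralizer ({e'} : Set G) = ⊥
      · rw [h0]; exact bot_le
      · exact (hcon e' he'E e₀ he₀E he'W he₀W h0 he₀).le
    have h1 : W ≤ W ⊓ centralizer ({e₀} : Set G) :=
      hgen _ (hle a haE haW) (fun k => hle _ (E.mul_mem (E.pow_mem haE k) hbE) (hk k))
    exact he₀W (bg95f_mem_cent_iff.mpr (h1.trans inf_le_right))
  · push Not at hex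
    have h1 : W ≤ ⊥ := hgen ⊥ (hex a haE haW).le
      (fun k => (hex _ (E.mul_mem (E.pow_mem haE k) hbE) (hk k)).le)
    have h2 : Nat.card ↥W = 1 := Subgroup.card_eq_one.mpr (le_bot_iff.mp h1)
    have h3 := d.lt_card
    have := d.hs.two_le
    omega

/-- The maximal subgroup over `C(e)`, for `e ∈ E` not centralizing `W` but centralizing a
nontrivial `X ≤ W` that is moved by some `f ∈ E`, carries a datum. -/
theorem bg95f_next (c : Helper1.BG95Ctx p A E) (hDat : Helper1.BG95Datum G)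
    (hF5 : BG95F5 p A) (hS : BG95S p A E) (d : Helper1.BG95Dat M s W)
    (hCM : centralizer (A : Set G) ≤ M) (hsp : s ≠ p) {e : G} (heE : e ∈ E)
    (heW : e ∉ centralizer (W : Set G)) {X : Subgroup G} (hXW : X ≤ W) (hX1 : X ≠ ⊥)
    (heX : X ≤ centralizer ({e} : Set G)) {f : G} (hfE : f ∈ E)
    (hfX : ¬ X ≤ centralizer ({f} : Set G)) :
    ∃ (M₁ W₁ : Subgroup G) (s₁ : ℕ), Helper1.BG95Dat M₁ s₁ W₁ ∧
      centralizer ({e} : Set G) ≤ M₁ ∧ M₁ ≠ M ∧ s₁ ≠ p ∧ s₁ ≠ s ∧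
      W₁ ≤ centralizer ({e} : Set G) ∧
      ∀ a ∈ E, a ∈ centralizer (W₁ : Set G) → a ∈ zpowers e := by
  have he1 : e ≠ 1 := fun h1 => heW (h1 ▸ one_mem _)
  obtain ⟨M₁, hM₁, hCe⟩ := Helper23.uq_exists_coatom_ge (c.cent_ne_top he1)
  have hCA₁ : centralizer (A : Set G) ≤ M₁ := (c.cent_le (c.hEA heE)).trans hCe
  have hne : M₁ ≠ M := by
    intro h
    rw [h] at hCe
    exact heW (bg95f_good_mem hS d hCM hsp heE he1 hCe)
  have hXeq : X = W ⊓ M₁ :=
    Helper1.bg95_eq_of_le_of_card_le d.hs (d.isPGroup.to_le inf_le_left)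
      (le_inf hXW (heX.trans hCe)) hX1 (d.F1 hM₁ hne)
  have hrk : ¬ ∀ t : ℕ, t.Prime → PRankLE t 2 ↥(fittingOf M₁) := by
    intro hr
    have h1 := hF5 M W s d hCM hsp M₁ hM₁ hCA₁ hne hr
    rw [← hXeq] at h1
    exact hfX (h1.trans (Subgroup.centralizer_le (by simpa using c.hEA hfE)))
  push Not at hrk
  obtain ⟨s₁, hs₁, hnr⟩ := hrk
  obtain ⟨W₁, d₁⟩ := hDat M₁ hM₁ s₁ hs₁ hnr
  have hs₁p : s₁ ≠ p := by
    intro h
    rw [h] at hnr
    exact hnr (c.hB2 M₁ hM₁)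
  have hs₁s : s₁ ≠ s := by
    intro h
    have h1 : pCoreOf s₁ M₁ ≤ M :=
      c.F2 d hCM hsp (h ▸ Helper23.f81_isPGroup_pCoreOf s₁ M₁)
        ((c.hAcent.trans hCA₁).trans (Helper23.f81_le_normalizer_pCoreOf s₁ M₁))
    have h2 : M ≤ M₁ := d₁.core M d.hM.1 h1
    exact hne (Helper23.uq_eq_of_coatom_le d.hM hM₁.1 h2)
  have heW₁ : e ∈ centralizer (W₁ : Set G) := bg95f_good_mem hS d₁ hCA₁ hs₁p heE he1 hCe
  exact ⟨M₁, W₁, s₁, d₁, hCe, hne, hs₁p, hs₁s, bg95f_mem_cent_iff.mp heW₁,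
    fun a haE haW => bg95f_mem_zpowers c d₁ heE he1 heW₁ haE haW⟩

/-- Steps (L6) and ENDGAME of Theorem 9.5, with the hypotheses as definitions. -/
theorem bg95f_final_aux (c : Helper1.BG95Ctx p A E) (hDat : Helper1.BG95Datum G)
    (hFrob : Helper1.BG95Frob G) (hEnd : Helper1.BG95End G) (hF5 : BG95F5 p A)
    (hS : BG95S p A E) (d : Helper1.BG95Dat M s W) (hCM : centralizer (A : Set G) ≤ M)
    (hsp : s ≠ p) : False := by
  have hp := c.hp
  have : Fact p.Prime := ⟨hp⟩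
  have hs := d.hs
  have hEM : E ≤ M := c.hEA.trans (c.hAcent.trans hCM)
  obtain ⟨e₁, he₁E, e₂, he₂E, he₁W, he₂W, hX₁, hX₂, hX₁₂⟩ := bg95f_two_cents c d hCM hsp
  obtain ⟨X₁, hX₁def⟩ : ∃ X : Subgroup G, X = W ⊓ centralizer ({e₁} : Set G) := ⟨_, rfl⟩
  obtain ⟨X₂, hX₂def⟩ : ∃ X : Subgroup G, X = W ⊓ centralizer ({e₂} : Set G) := ⟨_, rfl⟩
  rw [← hX₁def] at hX₁ hX₁₂
  rw [← hX₂def] at hX₂ hX₁₂
  have hX₁W : X₁ ≤ W := by rw [hX₁def]; exact inf_le_left
  have hX₂W : X₂ ≤ W := by rw [hX₂def]; exact inf_le_left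
  have hX₁c : Nat.card ↥X₁ ≤ s := by
    rw [hX₁def]; exact bg95f_small_cent c hS d hCM hsp he₁E he₁W
  have hX₂c : Nat.card ↥X₂ ≤ s := by
    rw [hX₂def]; exact bg95f_small_cent c hS d hCM hsp he₂E he₂W
  have hX₁s : IsPGroup s X₁ := d.isPGroup.to_le hX₁W
  have hX₂s : IsPGroup s X₂ := d.isPGroup.to_le hX₂W
  have hEX₁ : E ≤ normalizer (X₁ : Set G) := by
    rw [hX₁def]
    exact bg95f_le_normalizer (fun u hu x hx =>
      bg95f_conj_mem (d.hMW (hEM hu)) (c.hEab u hu e₁ he₁E) hx)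
  have hEX₂ : E ≤ normalizer (X₂ : Set G) := by
    rw [hX₂def]
    exact bg95f_le_normalizer (fun u hu x hx =>
      bg95f_conj_mem (d.hMW (hEM hu)) (c.hEab u hu e₂ he₂E) hx)
  have hH₁ := bg95f_card_le_mul_cent hs hsp c.hEab c.hEp hX₁s hX₁c hX₁ hEX₁
  have hH₂ := bg95f_card_le_mul_cent hs hsp c.hEab c.hEp hX₂s hX₂c hX₂ hEX₂
  -- `C_E(X₁) ∩ C_E(X₂) ≤ C_E(W)`
  have hle : (E ⊓ centralizer (X₁ : Set G)) ⊓ (E ⊓ centralizer (X₂ : Set G)) ≤
      E ⊓ centralizer (W : Set G) := by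
    intro h hh
    refine ⟨hh.1.1, ?_⟩
    by_cases h1 : h = 1
    · rw [h1]; exact one_mem _
    have hc₁ : X₁ ≤ W ⊓ centralizer ({h} : Set G) :=
      le_inf hX₁W (bg95f_mem_cent_iff.mp hh.1.2)
    have hc₂ : X₂ ≤ W ⊓ centralizer ({h} : Set G) :=
      le_inf hX₂W (bg95f_mem_cent_iff.mp hh.2.2)
    have hT : IsPGroup s ↥(W ⊓ centralizer ({h} : Set G)) := d.isPGroup.to_le inf_le_left
    rcases Helper1.bg95_card_le_or hs hT with hc | hc
    · exact absurd ((Helper1.bg95_eq_of_le_of_card_le hs hT hc₁ hX₁ hc).trans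
        (Helper1.bg95_eq_of_le_of_card_le hs hT hc₂ hX₂ hc).symm) hX₁₂
    · exact bg95f_good_mem hS d hCM hsp hh.1.1 h1 (bg95f_good c d h1 hc)
  have h12 : Nat.card ↥((E ⊓ centralizer (X₁ : Set G)) ⊓ (E ⊓ centralizer (X₂ : Set G))) ≤ p :=
    (Subgroup.card_le_of_le hle).trans (bg95f_lcard c d)
  obtain ⟨⟨g, hg, hg1⟩, ⟨e, he, heH₂⟩, ⟨f, hf, hfH₁⟩⟩ :=
    bg95f_count hp c.hEcard inf_le_left inf_le_left hH₁ hH₂ h12
  have hgE : g ∈ E := hg.1.1
  have hgW : g ∈ centralizer (W : Set G) := (hle hg).2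
  have heE : e ∈ E := he.1
  have heX₁ : X₁ ≤ centralizer ({e} : Set G) := bg95f_mem_cent_iff.mp he.2
  have heX₂ : ¬ X₂ ≤ centralizer ({e} : Set G) :=
    fun h => heH₂ ⟨heE, bg95f_mem_cent_iff.mpr h⟩
  have hfE : f ∈ E := hf.1
  have hfX₂ : X₂ ≤ centralizer ({f} : Set G) := bg95f_mem_cent_iff.mp hf.2
  have hfX₁ : ¬ X₁ ≤ centralizer ({f} : Set G) :=
    fun h => hfH₁ ⟨hfE, bg95f_mem_cent_iff.mpr h⟩
  have heW : e ∉ centralizer (W : Set G) :=
    fun h => heX₂ (hX₂W.trans (bg95f_mem_cent_iff.mp h))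
  have hfW : f ∉ centralizer (W : Set G) :=
    fun h => hfX₁ (hX₁W.trans (bg95f_mem_cent_iff.mp h))
  have he1 : e ≠ 1 := fun h1 => heW (h1 ▸ one_mem _)
  have hf1 : f ≠ 1 := fun h1 => hfW (h1 ▸ one_mem _)
  -- the maximal subgroups over `C(e)` and `C(f)` and their data
  obtain ⟨Me, We, se, de, hCe, hMeM, hsep, hses, hWee, hle_e⟩ :=
    bg95f_next c hDat hF5 hS d hCM hsp heE heW hX₁W hX₁ heX₁ hfE hfX₁
  obtain ⟨Mf, Wf, sf, df, hCf, hMfM, hsfp, hsfs, hWff, hle_f⟩ :=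
    bg95f_next c hDat hF5 hS d hCM hsp hfE hfW hX₂W hX₂ hfX₂ heE heX₂
  have hCAe : centralizer (A : Set G) ≤ Me := (c.cent_le (c.hEA heE)).trans hCe
  have hCAf : centralizer (A : Set G) ≤ Mf := (c.cent_le (c.hEA hfE)).trans hCf
  have hEMe : E ≤ Me := c.hEA.trans (c.hAcent.trans hCAe)
  have hEMf : E ≤ Mf := c.hEA.trans (c.hAcent.trans hCAf)
  have hfze : f ∉ zpowers e := fun h =>
    hfH₁ ⟨hfE, (zpowers_le.mpr he.2 : zpowers e ≤ centralizer (X₁ : Set G)) h⟩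
  have hfWe : f ∉ centralizer (We : Set G) := fun h => hfze (hle_e f hfE h)
  have hMef : Me ≠ Mf := by
    intro h
    rw [← h] at hCf
    exact hfWe (bg95f_good_mem hS de hCAe hsep hfE hf1 hCf)
  have hsef : se ≠ sf := by
    intro h
    have h1 : pCoreOf sf Mf ≤ Me :=
      c.F2 de hCAe hsep (h ▸ Helper23.f81_isPGroup_pCoreOf sf Mf)
        ((c.hAcent.trans hCAf).trans (Helper23.f81_le_normalizer_pCoreOf sf Mf))
    have h2 : Me ≤ Mf := df.core Me de.hM.1 h1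
    exact hMef (Helper23.uq_eq_of_coatom_le de.hM df.hM.1 h2).symm
  -- generators of `X₁`, `X₂`
  obtain ⟨w₁, hw₁X, hw₁1⟩ := bg95f_exists_ne_one hX₁
  obtain ⟨w₂, hw₂X, hw₂1⟩ := bg95f_exists_ne_one hX₂
  have hzw₁ : zpowers w₁ = X₁ := bg95f_zpowers_eq hs hX₁s hX₁c hw₁X hw₁1
  have hzw₂ : zpowers w₂ = X₂ := bg95f_zpowers_eq hs hX₂s hX₂c hw₂X hw₂1
  have hfw₁ : f * w₁ * f⁻¹ ∈ zpowers w₁ := by
    rw [hzw₁]; exact (Subgroup.mem_normalizer_iff.mp (hEX₁ hfE) w₁).mp hw₁X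
  have hfw₁' : f * w₁ ≠ w₁ * f := by
    intro h
    apply hfX₁
    rw [← hzw₁, zpowers_le]
    exact Subgroup.mem_centralizer_iff.mpr (fun z hz => by
      rw [Set.mem_singleton_iff.mp hz]; exact h)
  have hew₂ : e * w₂ * e⁻¹ ∈ zpowers w₂ := by
    rw [hzw₂]; exact (Subgroup.mem_normalizer_iff.mp (hEX₂ heE) w₂).mp hw₂X
  have hew₂' : e * w₂ ≠ w₂ * e := by
    intro h
    apply heX₂
    rw [← hzw₂, zpowers_le]
    exact Subgroup.mem_centralizer_iff.mpr (fun z hz => by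
      rw [Set.mem_singleton_iff.mp hz]; exact h)
  have hw₁c : Nat.card ↥(We ⊓ centralizer ({w₁} : Set G)) ≤ se := by
    rcases Helper1.bg95_card_le_or de.hs (de.isPGroup.to_le inf_le_left) with h | h
    · exact h
    · exfalso
      have h1 : centralizer ({w₁} : Set G) ≤ Me := bg95f_good c de hw₁1 h
      have h2 : Me ≤ M := d.hx w₁ (hX₁W hw₁X) hw₁1 Me de.hM.1 h1
      exact hMeM (Helper23.uq_eq_of_coatom_le de.hM d.hM.1 h2).symm
  have hw₂c : Nat.card ↥(Wf ⊓ centralizer ({w₂} : Set G)) ≤ sf := by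
    rcases Helper1.bg95_card_le_or df.hs (df.isPGroup.to_le inf_le_left) with h | h
    · exact h
    · exfalso
      have h1 : centralizer ({w₂} : Set G) ≤ Mf := bg95f_good c df hw₂1 h
      have h2 : Mf ≤ M := d.hx w₂ (hX₂W hw₂X) hw₂1 Mf df.hM.1 h1
      exact hMfM (Helper23.uq_eq_of_coatom_le df.hM d.hM.1 h2).symm
  -- the Frobenius lemma in `Me`
  have hfr : ¬ (We ⊓ centralizer ({f} : Set G) ≤ centralizer ({w₁} : Set G)) := by
    intro h
    have h1 := hFrob p se s hp de.hs hs (Ne.symm hsep) (Ne.symm hses) We de.hexp de.hcard f w₁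
      (de.hMW (hEMe hfE)) (de.hMW (hCe (heX₁ hw₁X))) (c.hEp f hfE) (d.hexp w₁ (hX₁W hw₁X))
      hfw₁ hfw₁' h
    have h2 := de.hs.one_lt
    nlinarith
  obtain ⟨y, hyY, hyw⟩ := SetLike.not_le_iff_exists.mp hfr
  have hy1 : y ≠ 1 := fun h => hyw (h ▸ one_mem _)
  have hYc : Nat.card ↥(We ⊓ centralizer ({f} : Set G)) ≤ se :=
    bg95f_small_cent c hS de hCAe hsep hfE hfWe
  have hzy : zpowers y = We ⊓ centralizer ({f} : Set G) :=
    bg95f_zpowers_eq de.hs (de.isPGroup.to_le inf_le_left) hYc hyY hy1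
  have hgy : g * y * g⁻¹ ∈ zpowers y := by
    rw [hzy]
    exact bg95f_conj_mem (de.hMW (hEMe hgE)) (c.hEab g hgE f hfE) hyY
  have hgy' : g * y ≠ y * g := by
    intro h
    apply hyw
    have hCg : centralizer ({g} : Set G) ≤ M := bg95f_good_of_cent c d hg1 hgW
    have hyM : y ∈ M := hCg (Subgroup.mem_centralizer_iff.mpr (fun z hz => by
      rw [Set.mem_singleton_iff.mp hz]; exact h))
    have h1 : y * w₁ * y⁻¹ ∈ W :=
      (Subgroup.mem_normalizer_iff.mp (d.hMW hyM) w₁).mp (hX₁W hw₁X)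
    have hw₁Me : w₁ ∈ Me := hCe (heX₁ hw₁X)
    have h2 : w₁ * y⁻¹ * w₁⁻¹ ∈ We :=
      (Subgroup.mem_normalizer_iff.mp (de.hMW hw₁Me) y⁻¹).mp (We.inv_mem hyY.1)
    have h3 : y * w₁ * y⁻¹ * w₁⁻¹ ∈ W := W.mul_mem h1 (W.inv_mem (hX₁W hw₁X))
    have h4 : y * w₁ * y⁻¹ * w₁⁻¹ ∈ We := by
      have e4 : y * w₁ * y⁻¹ * w₁⁻¹ = y * (w₁ * y⁻¹ * w₁⁻¹) := by group
      rw [e4]; exact We.mul_mem hyY.1 h2
    have h5 : y * w₁ * y⁻¹ * w₁⁻¹ = 1 :=
      Helper1.bg95_eq_one_of_mem_of_mem hs de.hs (Ne.symm hses) d.isPGroup de.isPGroup h3 h4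
    rw [Subgroup.mem_centralizer_iff]
    intro z hz
    rw [Set.mem_singleton_iff.mp hz]
    have h6 : y * w₁ = w₁ * y := by
      have e6 : y * w₁ = (y * w₁ * y⁻¹ * w₁⁻¹) * (w₁ * y) := by group
      rw [e6, h5, one_mul]
    exact h6.symm
  have hyc : Nat.card ↥(Wf ⊓ centralizer ({y} : Set G)) ≤ sf := by
    rcases Helper1.bg95_card_le_or df.hs (df.isPGroup.to_le inf_le_left) with h | h
    · exact h
    · exfalso
      have h1 : centralizer ({y} : Set G) ≤ Mf := bg95f_good c df hy1 h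
      have h2 : Mf ≤ Me := de.hx y hyY.1 hy1 Mf df.hM.1 h1
      exact hMef (Helper23.uq_eq_of_coatom_le df.hM de.hM.1 h2)
  have hcent : ∀ i j : ℕ, ¬ (p ∣ i ∧ p ∣ j) →
      Nat.card ↥(Wf ⊓ centralizer ({e ^ i * g ^ j} : Set G)) ≤ sf := by
    intro i j hij
    have haE : e ^ i * g ^ j ∈ E := E.mul_mem (E.pow_mem heE i) (E.pow_mem hgE j)
    apply bg95f_small_cent c hS df hCAf hsfp haE
    intro hmem
    have h1 : e ^ i * g ^ j ∈ zpowers f := hle_f _ haE hmem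
    have h2 : e ^ i * g ^ j ∈ centralizer (X₁ : Set G) :=
      mul_mem (pow_mem he.2 i) (pow_mem hg.1.2 j)
    by_cases ha1 : e ^ i * g ^ j = 1
    · apply hij
      have hpi : p ∣ i := by
        by_contra hpi
        apply heW
        have h3 : e ^ i = (g ^ j)⁻¹ := eq_inv_of_mul_eq_one_left ha1
        have h4 : e ^ i ∈ centralizer (W : Set G) := by
          rw [h3]; exact inv_mem (pow_mem hgW j)
        have h5 : e ^ i ≠ 1 := by
          intro h6
          have h7 := orderOf_dvd_of_pow_eq_one h6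
          rw [orderOf_eq_prime (c.hEp e heE) he1] at h7
          exact hpi h7
        exact (zpowers_le.mpr h4 : zpowers (e ^ i) ≤ centralizer (W : Set G))
          (bg95f_mem_zpowers_of hp (c.hEp e heE) (Subgroup.pow_mem _ (mem_zpowers e) i) h5)
      refine ⟨hpi, ?_⟩
      obtain ⟨k, rfl⟩ := hpi
      rw [pow_mul, c.hEp e heE, one_pow, one_mul] at ha1
      have h7 := orderOf_dvd_of_pow_eq_one ha1
      rwa [orderOf_eq_prime (c.hEp g hgE) hg1] at h7
    · exact hfH₁ ⟨hfE, (zpowers_le.mpr h2 : zpowers (e ^ i * g ^ j) ≤ centralizer (X₁ : Set G))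
        (bg95f_mem_zpowers_of hp (c.hEp f hfE) h1 ha1)⟩
  exact hEnd p sf s se hp df.hs hs de.hs (Ne.symm hsfp) (Ne.symm hsfs) hsef Wf df.hexp df.hcard
    e g w₂ y (df.hMW (hEMf heE)) (df.hMW (hEMf hgE)) (df.hMW (hCf (hfX₂ hw₂X)))
    (df.hMW (hCf hyY.2)) (c.hEab e heE g hgE) (c.hEp e heE) (c.hEp g hgE) hcent
    (d.hexp w₂ (hX₂W hw₂X)) (Subgroup.mem_centralizer_iff.mp hgW w₂ (hX₂W hw₂X)).symm hew₂ hew₂'
    hw₂c (de.hexp y hyY.1) (Subgroup.mem_centralizer_iff.mp (hWee hyY.1) e rfl) hgy hgy' hyc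

end ctx

/-- **Bender–Glauberman 9.5, steps (L6) and ENDGAME.**  In the context of a counterexample, a
datum `(M, s, W)` with `C(A) ≤ M` and `s ≠ p` is contradictory, given the existence of data, the
two module lemmas, (F5) and (S'). -/
theorem bg95_final {p : ℕ} {A E : Subgroup G} (c : Helper1.BG95Ctx p A E)
    (hDat : Helper1.BG95Datum G) (hFrob : Helper1.BG95Frob G) (hEnd : Helper1.BG95End G)
    (hF5 : ∀ (M W : Subgroup G) (s : ℕ), Helper1.BG95Dat M s W → centralizer (A : Set G) ≤ M →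
      s ≠ p → ∀ M₁ : Subgroup G, IsCoatom M₁ → centralizer (A : Set G) ≤ M₁ → M₁ ≠ M →
        (∀ t : ℕ, t.Prime → PRankLE t 2 ↥(fittingOf M₁)) → W ⊓ M₁ ≤ centralizer (A : Set G))
    (hS : ∀ (M W : Subgroup G) (s : ℕ), Helper1.BG95Dat M s W → centralizer (A : Set G) ≤ M →
      s ≠ p → ∀ e ∈ E, e ≠ 1 → centralizer ({e} : Set G) ≤ M → W ≤ centralizer ({e} : Set G))
    {M W : Subgroup G} {s : ℕ} (d : Helper1.BG95Dat M s W) (hCM : centralizer (A : Set G) ≤ M)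
    (hsp : s ≠ p) : False :=
  bg95f_final_aux c hDat hFrob hEnd hF5 hS d hCM hsp

end Cfsg.Agent.Helper24
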