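/-
helper24: CALL S1351C piece GH (`starc_good_H`): non-identity elements of `H_σ ∩ W` have their
centralizer in `H`.
-/
import Cfsg.Agent.Helper49.BGCDefs2
import Cfsg.Agent.Helper24.BG13V
import Cfsg.Agent.Helper54.BG14T3

set_option autoImplicit false

namespace Cfsg.Agent.Helper24

open Cfsg Subgroup Cfsg.Agent.Helper49 Cfsg.Agent.Helper23

universe u

variable {G : Type u} [Group G] [Finite G]

/-- GH. Non-identity elements of `H_σ ∩ W` have their centralizer in `H`. -/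
theorem starc_good_H (hG : IsMinSimpleOddOrder G) {M E P : Subgroup G} {p : ℕ} {H : Subgroup G}
    (h : StarHCtx M E P p H)
    (hτ : ∀ X : Subgroup G, X ≤ starZ M E → (Nat.card X).Prime → Nat.card X ∈ tau1 H ∪ tau3 H) :
    ∀ d ∈ sigmaCore H ⊓ starW M E, d ≠ 1 → centralizer ({d} : Set G) ≤ H := by
  rintro d ⟨hdσ, hdW⟩ hd1
  obtain ⟨z, hz, e, he, rfl⟩ := (h.mem_W d).mp hdW
  have hzσ : z ∈ sigmaCore M := hz.1
  have hzc : z ∈ centralizer (E : Set G) := hz.2
  have hcomm : Commute z e := (mem_centralizer_iff.mp hzc e he).symm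
  -- coprime orders
  have hcop : (orderOf z).Coprime (orderOf e) := by
    apply Nat.coprime_of_dvd
    intro k hk hkz hke
    have h1 : k ∣ Nat.card (sigmaCore M) := hkz.trans (Subgroup.orderOf_dvd_natCard _ hzσ)
    have h2 : k ∣ Nat.card E := hke.trans (Subgroup.orderOf_dvd_natCard _ he)
    exact (h.E_primes k hk h2).1 (mem_of_dvd_card_piCoreOf (sigma M) M hk h1)
  have hzz : z ∈ zpowers (z * e) := (Cfsg.Agent.Helper54.bg14t_mem_zpowers_mul hcomm hcop).1
  have hzH : z ∈ sigmaCore H := (zpowers_le).mpr hdσ hzz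
  have hz1 : z = 1 := by
    have h3 : z ∈ sigmaCore M ⊓ sigmaCore H := ⟨hzσ, hzH⟩
    rw [h.sigma_inf] at h3
    exact Subgroup.mem_bot.mp h3
  subst hz1
  rw [one_mul] at hdσ hd1 ⊢
  -- a subgroup of prime order of `Z`
  obtain ⟨⟨w, hwZ⟩, hw1'⟩ := (Subgroup.ne_bot_iff_exists_ne_one).mp h.Z_ne
  have hw1 : w ≠ 1 := fun h' => hw1' (Subtype.ext h')
  have how : orderOf w ≠ 0 := (orderOf_pos w).ne'
  have how1 : orderOf w ≠ 1 := fun h' => hw1 (orderOf_eq_one_iff.mp h')
  obtain ⟨t, ht, htw⟩ := Nat.exists_prime_and_dvd how1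
  obtain ⟨y, hydef⟩ : ∃ y : G, y = w ^ (orderOf w / t) := ⟨_, rfl⟩
  have hyo : orderOf y = t := by rw [hydef]; exact orderOf_pow_orderOf_div how htw
  have hX : Nat.card (zpowers y) = t := by rw [Nat.card_zpowers]; exact hyo
  have hyZ : y ∈ starZ M E := by rw [hydef]; exact Subgroup.pow_mem _ hwZ _
  have hXZ : zpowers y ≤ starZ M E := (zpowers_le).mpr hyZ
  have hXH : zpowers y ≤ H := hXZ.trans h.Z_le
  have hτX : t ∈ tau1 H ∪ tau3 H := by
    have := hτ (zpowers y) hXZ (by rw [hX]; exact ht)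
    rwa [hX] at this
  have heX : e ∈ centralizer ((zpowers y : Subgroup G) : Set G) := by
    rw [mem_centralizer_iff]
    intro a ha
    have haZ : a ∈ starZ M E := hXZ ha
    exact (mem_centralizer_iff.mp haZ.2 e he).symm
  exact bg13u_cent_le hG h.coatomH hτX hXH hX hdσ hd1 heX

end Cfsg.Agent.Helper24
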