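/-
helper24: CALL S2276 piece V2CON (`pe_v2con`): the permutation `Rev(l) ⊕ Rot(m L, m) ⊕ E` of
`Fin n`, glued from the rotations of `RotStmt` and a permutation of `FwdStmt`.
-/
import Mathlib
import Cfsg.Agent.Helper21.PEDefs

set_option autoImplicit false

namespace Cfsg.Agent.Helper24.PEV2CON

open Equiv Cfsg.Agent.Helper21.PE

theorem pe_v2con : GlueStmt → RotStmt → FwdStmt → V2ConStmt := by
  intro hglue hrot hfwd n l m L ν hl hm hL hν hle
  obtain ⟨T, hT⟩ : ∃ T, T = m * L := ⟨_, rfl⟩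
  have hTpos : 0 < T := by rw [hT]; positivity
  have hmT : m < T := by
    rw [hT]
    nlinarith
  rw [← hT] at hle ⊢
  obtain ⟨N, rfl⟩ : ∃ N, n = l + (T + N) := ⟨n - l - T, by omega⟩
  have hνN : ν.sum ≤ N := by omega
  -- the rotation by `l - 1` of `Fin l`
  obtain ⟨R₁, hR₁, hR₁c⟩ := hrot l (l - 1) (by omega) (by
    intro h
    have := Nat.le_of_dvd (by omega) h
    omega)
  have hg1 : Nat.gcd (l - 1) l = 1 := by
    have h1 : Nat.Coprime (l - 1) l := (Nat.coprime_self_sub_left (by omega : 1 ≤ l)).mpr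
      (Nat.coprime_one_left l)
    exact h1
  rw [hg1, Nat.div_one] at hR₁c
  -- the rotation by `m` of `Fin (m L)`
  obtain ⟨R₂, hR₂, hR₂c⟩ := hrot T m hTpos (by
    intro h
    have := Nat.le_of_dvd (by omega) h
    omega)
  have hg2 : Nat.gcd m T = m := by rw [hT]; exact Nat.gcd_eq_left (dvd_mul_right m L)
  have hdiv : T / m = L := by rw [hT]; exact Nat.mul_div_cancel_left L (by omega)
  rw [hg2, hdiv] at hR₂c
  obtain ⟨E, hEc, hE⟩ := hfwd ν N hν hνN
  obtain ⟨h₂, h₂c, h₂l, h₂r⟩ := hglue T N R₂ E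
  obtain ⟨h, hc, hl', hr'⟩ := hglue l (T + N) R₁ h₂
  refine ⟨h, ?_, ?_, ?_, ?_, ?_⟩
  · rw [hc, h₂c, hR₁c, hR₂c, hEc, Multiset.replicate_one, Multiset.singleton_add]
  · intro x hx
    have hx' : x = Fin.castAdd (T + N) ⟨x.val, hx⟩ := Fin.ext rfl
    have e := hl' ⟨x.val, hx⟩
    rw [← hx'] at e
    rw [e, hR₁]
  · intro x hx1 hx2
    have hy : x.val - l < T := by omega
    have hx' : x = Fin.natAdd l (Fin.castAdd N ⟨x.val - l, hy⟩) := by
      apply Fin.ext
      simp only [Fin.val_natAdd, Fin.val_castAdd]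
      omega
    have e := hr' (Fin.castAdd N ⟨x.val - l, hy⟩)
    rw [← hx'] at e
    rw [e, h₂l, hR₂]
  · intro x hx
    have hxlt := x.isLt
    have hz : x.val - l - T < N := by omega
    have hx' : x = Fin.natAdd l (Fin.natAdd T ⟨x.val - l - T, hz⟩) := by
      apply Fin.ext
      simp only [Fin.val_natAdd]
      omega
    have e := hr' (Fin.natAdd T ⟨x.val - l - T, hz⟩)
    rw [← hx'] at e
    rw [e, h₂r]
    have hEz : (E ⟨x.val - l - T, hz⟩).val + 1 ≠ x.val - l - T := hE ⟨x.val - l - T, hz⟩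
    constructor
    · omega
    · omega
  · intro k hk x hx
    have hxlt := x.isLt
    have hEk : E ^ k = 1 := by
      apply orderOf_dvd_iff_pow_eq_one.mp
      rw [← Equiv.Perm.lcm_cycleType, hEc]
      exact Multiset.lcm_dvd.mpr hk
    have hstep : ∀ z : Fin N,
        h (Fin.natAdd l (Fin.natAdd T z)) = Fin.natAdd l (Fin.natAdd T (E z)) := by
      intro z
      apply Fin.ext
      rw [hr', h₂r]
      simp only [Fin.val_natAdd]
    have hpow : ∀ j : ℕ, ∀ z : Fin N,
        (h ^ j) (Fin.natAdd l (Fin.natAdd T z)) = Fin.natAdd l (Fin.natAdd T ((E ^ j) z)) := by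
      intro j
      induction j with
      | zero => intro z; simp
      | succ j ih =>
        intro z
        rw [pow_succ', Equiv.Perm.mul_apply, ih, hstep, pow_succ', Equiv.Perm.mul_apply]
    have hz : x.val - l - T < N := by omega
    have hx' : x = Fin.natAdd l (Fin.natAdd T ⟨x.val - l - T, hz⟩) := by
      apply Fin.ext
      simp only [Fin.val_natAdd]
      omega
    have e := hpow k ⟨x.val - l - T, hz⟩
    rw [hEk, Equiv.Perm.one_apply, ← hx'] at e
    exact e

end Cfsg.Agent.Helper24.PEV2CON
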