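/-
CALL T5 (helper25, row S1383), stage "rank(P) ≥ 3" as one pure lemma (helper24): a cyclic group `K`
of odd order prime to `p` acting faithfully on a narrow `p`-group `P` of rank at least 3 has order
dividing `p - 1` (S1454, clause 2).
-/
import Mathlib
import Cfsg.Agent.S1454

set_option autoImplicit false

namespace Cfsg.Agent.Helper24

open Cfsg Subgroup

/-- Stage "rank(P) ≥ 3" of CALL T5: `|K|` divides `p - 1`. -/
theorem t5_rank3 {Γ : Type*} [Group Γ] [Finite Γ] {p : ℕ} [Fact p.Prime] (hp2 : p ≠ 2)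
    {P K : Subgroup Γ} (hP : IsPGroup p P) (hPn : IsNarrow p P) (hr : ¬ PRankLE p 2 P)
    (hKn : K ≤ normalizer (P : Set Γ)) (hKc : IsCyclic K) (hKodd : Odd (Nat.card K))
    (hKp : (Nat.card K).Coprime p) (hfaith : K ⊓ centralizer (P : Set Γ) = ⊥) :
    Nat.card K ∣ p - 1 := by
  haveI : IsCyclic K := hKc
  haveI : Group.IsSolvable K := by
    letI : CommGroup K := IsCyclic.commGroup
    infer_instance
  have h := (Cfsg.Agent.S1454.result p hp2 P K hP hPn hKn inferInstance hKodd hfaith).2.1 hr
  obtain ⟨k, hk⟩ := IsCyclic.exists_generator (α := K)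
  have hord : orderOf (k : Γ) = Nat.card K := by
    rw [Subgroup.orderOf_coe]
    exact orderOf_eq_card_of_forall_mem_zpowers hk
  have h2 := h (k : Γ) k.2 (by rw [hord]; exact hKp)
  rwa [hord] at h2

end Cfsg.Agent.Helper24
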